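import Mathlib

/-!
Orders of the finite linear groups `GL`, `SL`, `PGL`, `PSL` and of the centres.

Everything is stated with `Nat.card`, and `q` is written `Nat.card F`.
-/

set_option autoImplicit false

namespace CfsgLib.Classical

open Matrix

variable {ι : Type*} [Fintype ι] [DecidableEq ι] {F : Type*} [Field F]

theorem range_toGL :
    (Matrix.SpecialLinearGroup.toGL : Matrix.SpecialLinearGroup ι F →* GL ι F).range =
      (Matrix.GeneralLinearGroup.det : GL ι F →* Fˣ).ker := by
  ext g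
  constructor
  · rintro ⟨h, rfl⟩
    refine Units.ext ?_
    simp
  · intro hg
    have hg' : Matrix.det (g : Matrix ι ι F) = 1 := by
      have := congrArg Units.val (MonoidHom.mem_ker.1 hg)
      simpa using this
    exact ⟨⟨g.1, hg'⟩, Units.ext rfl⟩

theorem card_units_field [Finite F] : Nat.card Fˣ = Nat.card F - 1 := by
  rw [Nat.card_eq_card_units_add_one F]; rfl

theorem card_det_ker :
    Nat.card (Matrix.GeneralLinearGroup.det : GL ι F →* Fˣ).ker =
      Nat.card (Matrix.SpecialLinearGroup ι F) := by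
  rw [← range_toGL]
  exact (Nat.card_congr
    (MonoidHom.ofInjective Matrix.SpecialLinearGroup.toGL_injective).toEquiv).symm

/-- `|GL| = (q-1) |SL|`. -/
theorem card_GL_eq_mul_card_SL [Finite F] [Nonempty ι] :
    Nat.card (GL ι F) = (Nat.card F - 1) * Nat.card (Matrix.SpecialLinearGroup ι F) := by
  rw [← card_det_ker, ← card_units_field,
    Subgroup.card_eq_card_quotient_mul_card_subgroup
      (Matrix.GeneralLinearGroup.det : GL ι F →* Fˣ).ker,
    Nat.card_congr (QuotientGroup.quotientKerEquivOfSurjective _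
      (Matrix.GeneralLinearGroup.det_surjective (n := ι) (R := F))).toEquiv]

theorem card_GL_fin [Finite F] (n : ℕ) :
    Nat.card (GL (Fin n) F) = ∏ i : Fin n, (Nat.card F ^ n - Nat.card F ^ (i : ℕ)) := by
  have := Fintype.ofFinite F
  rw [Matrix.card_GL_field, Nat.card_eq_fintype_card]

theorem card_SL_mul [Finite F] (n : ℕ) (hn : 1 ≤ n) :
    (Nat.card F - 1) * Nat.card (Matrix.SpecialLinearGroup (Fin n) F) =
      ∏ i : Fin n, (Nat.card F ^ n - Nat.card F ^ (i : ℕ)) := by
  have : Nonempty (Fin n) := ⟨⟨0, hn⟩⟩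
  rw [← card_GL_eq_mul_card_SL, card_GL_fin]

/-- `∏_{i<n} (q^n - q^i) = q^{n(n-1)/2} ∏_{i<n} (q^{i+1} - 1)`. -/
theorem prod_pow_sub_eq (q n : ℕ) :
    ∏ i : Fin n, (q ^ n - q ^ (i : ℕ)) =
      q ^ (n * (n - 1) / 2) * ∏ i ∈ Finset.range n, (q ^ (i + 1) - 1) := by
  rw [Fin.prod_univ_eq_prod_range (fun i => q ^ n - q ^ i) n]
  have h : ∀ i ∈ Finset.range n, q ^ n - q ^ i = q ^ i * (q ^ (n - i) - 1) := by
    intro i hi
    have : i < n := Finset.mem_range.1 hi
    rw [Nat.mul_sub, mul_one, ← pow_add, Nat.add_sub_cancel' this.le]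
  rw [Finset.prod_congr rfl h, Finset.prod_mul_distrib, Finset.prod_pow_eq_pow_sum,
    Finset.sum_range_id, ← Finset.prod_range_reflect (fun i => q ^ (i + 1) - 1) n]
  refine congrArg _ (Finset.prod_congr rfl fun i hi => ?_)
  have : i < n := Finset.mem_range.1 hi
  congr 2
  omega

theorem card_GL_fin' [Finite F] (n : ℕ) :
    Nat.card (GL (Fin n) F) =
      Nat.card F ^ (n * (n - 1) / 2) * ∏ i ∈ Finset.range n, (Nat.card F ^ (i + 1) - 1) := by
  rw [card_GL_fin, prod_pow_sub_eq]

/-- `|SL_n(q)| = q^{n(n-1)/2} (q^2-1) ... (q^n-1)`. -/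
theorem card_SL_fin' [Finite F] (n : ℕ) :
    Nat.card (Matrix.SpecialLinearGroup (Fin n) F) =
      Nat.card F ^ (n * (n - 1) / 2) *
        ∏ i ∈ Finset.range (n - 1), (Nat.card F ^ (i + 2) - 1) := by
  rcases n with _ | n
  · simp
  have h1 : 1 < Nat.card F := Finite.one_lt_card
  refine Nat.eq_of_mul_eq_mul_left (show 0 < Nat.card F - 1 by omega) ?_
  rw [card_SL_mul _ (by omega), prod_pow_sub_eq, Finset.prod_range_succ']
  simp only [zero_add, pow_one, Nat.add_sub_cancel]
  ring

theorem card_SL_two [Finite F] :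
    Nat.card (Matrix.SpecialLinearGroup (Fin 2) F) = Nat.card F * (Nat.card F ^ 2 - 1) := by
  rw [card_SL_fin']; simp

theorem card_GL_two [Finite F] :
    Nat.card (GL (Fin 2) F) = (Nat.card F - 1) * (Nat.card F * (Nat.card F ^ 2 - 1)) := by
  rw [card_GL_eq_mul_card_SL, card_SL_two]

theorem card_center_GL [Nonempty ι] :
    Nat.card (Subgroup.center (GL ι F)) = Nat.card Fˣ := by
  rw [Matrix.GeneralLinearGroup.center_eq_range_scalar]
  refine (Nat.card_congr (MonoidHom.ofInjective (f := Matrix.GeneralLinearGroup.scalar ι) ?_).toEquiv).symm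
  intro a b h
  have := congrArg Units.val h
  simp only [Matrix.GeneralLinearGroup.coe_scalar] at this
  exact Units.ext (Matrix.scalar_inj.1 this)

theorem card_PGL_eq_card_SL [Finite F] :
    Nat.card (Matrix.ProjGenLinGroup ι F) = Nat.card (Matrix.SpecialLinearGroup ι F) := by
  rcases isEmpty_or_nonempty ι with h | h
  · have : Subsingleton (Matrix.ProjGenLinGroup ι F) :=
      Matrix.ProjGenLinGroup.mk_surjective.subsingleton
    rw [Nat.card_unique, Nat.card_unique]
  · have h1 := Subgroup.card_eq_card_quotient_mul_card_subgroup (Subgroup.center (GL ι F))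
    rw [card_center_GL, card_units_field, card_GL_eq_mul_card_SL, mul_comm] at h1
    have h2 : 1 < Nat.card F := Finite.one_lt_card
    exact (Nat.eq_of_mul_eq_mul_right (show 0 < Nat.card F - 1 by omega) h1).symm

theorem card_rootsOfUnity_field [Finite F] (k : ℕ) :
    Nat.card (rootsOfUnity k F) = Nat.gcd (Nat.card F - 1) k := by
  rw [← card_units_field, ← IsCyclic.card_powMonoidHom_ker]
  rfl

theorem card_center_SL [Finite F] :
    Nat.card (Subgroup.center (Matrix.SpecialLinearGroup ι F)) =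
      Nat.gcd (max (Fintype.card ι) 1) (Nat.card F - 1) := by
  rw [Nat.card_congr Matrix.SpecialLinearGroup.center_equiv_rootsOfUnity.toEquiv,
    card_rootsOfUnity_field, Nat.gcd_comm]

theorem card_center_SL_fin [Finite F] (n : ℕ) (hn : 1 ≤ n) :
    Nat.card (Subgroup.center (Matrix.SpecialLinearGroup (Fin n) F)) =
      Nat.gcd n (Nat.card F - 1) := by
  rw [card_center_SL, Fintype.card_fin, max_eq_left hn]

/-- `gcd(n, q-1) |PSL_n(q)| = |SL_n(q)|`. -/
theorem card_PSL_mul [Finite F] (n : ℕ) (hn : 1 ≤ n) :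
    Nat.gcd n (Nat.card F - 1) * Nat.card (Matrix.ProjectiveSpecialLinearGroup (Fin n) F) =
      Nat.card (Matrix.SpecialLinearGroup (Fin n) F) := by
  rw [Subgroup.card_eq_card_quotient_mul_card_subgroup
    (Subgroup.center (Matrix.SpecialLinearGroup (Fin n) F)), card_center_SL_fin n hn, mul_comm]

theorem card_PSL_fin [Finite F] (n : ℕ) (hn : 1 ≤ n) :
    Nat.card (Matrix.ProjectiveSpecialLinearGroup (Fin n) F) =
      Nat.card (Matrix.SpecialLinearGroup (Fin n) F) / Nat.gcd n (Nat.card F - 1) := by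
  rw [← card_PSL_mul n hn, Nat.mul_div_cancel_left]
  exact Nat.gcd_pos_of_pos_left _ hn

theorem card_PSL_two [Finite F] :
    Nat.card (Matrix.ProjectiveSpecialLinearGroup (Fin 2) F) =
      Nat.card F * (Nat.card F ^ 2 - 1) / Nat.gcd 2 (Nat.card F - 1) := by
  rw [card_PSL_fin 2 (by omega), card_SL_two]

theorem card_PSL_two_mul [Finite F] :
    Nat.gcd 2 (Nat.card F - 1) * Nat.card (Matrix.ProjectiveSpecialLinearGroup (Fin 2) F) =
      Nat.card F * (Nat.card F ^ 2 - 1) := by
  rw [card_PSL_mul 2 (by omega), card_SL_two]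

theorem gcd_two_card_sub_one_of_odd [Finite F] (h : Odd (Nat.card F)) :
    Nat.gcd 2 (Nat.card F - 1) = 2 := by
  obtain ⟨k, hk⟩ := h
  exact Nat.gcd_eq_left ⟨k, by omega⟩

theorem gcd_two_card_sub_one_of_even [Finite F] (h : Even (Nat.card F)) :
    Nat.gcd 2 (Nat.card F - 1) = 1 := by
  obtain ⟨k, hk⟩ := h
  have h1 : 1 < Nat.card F := Finite.one_lt_card
  refine (Nat.prime_two.coprime_iff_not_dvd).2 ?_
  omega

theorem card_proj_line [Finite F] :
    Nat.card (Projectivization F (Fin 2 → F)) = Nat.card F + 1 :=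
  Projectivization.card_of_finrank_two F (Fin 2 → F) (by simp)

end CfsgLib.Classical
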