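import Cfsg.Agent.Lib.Classical.SympBasic
import Cfsg.Agent.Lib.Classical.Order

/-!
Centre, perfectness and simplicity for the symplectic groups.
-/

set_option autoImplicit false

namespace CfsgLib.Classical

open Matrix

variable {l : Type*} [Fintype l] [DecidableEq l] {F : Type*} [Field F]

theorem sp_center_apply {g : Matrix.symplecticGroup l F}
    (hg : g ∈ Subgroup.center (Matrix.symplecticGroup l F)) (v : l ⊕ l → F) :
    ∃ c : F, g.1 *ᵥ v = c • v := by
  rcases eq_or_ne v 0 with rfl | hv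
  · exact ⟨0, by simp⟩
  have h : stv 1 (g.1 *ᵥ v) = stv (1 : F) v := by
    rw [← stv_conj, ← Subgroup.mem_center_iff.1 hg, mul_inv_cancel_right]
  obtain ⟨z, hz⟩ := exists_sbil_eq_one hv
  have := congrArg (fun k : Matrix.symplecticGroup l F => k.1 *ᵥ z) h
  simp only [stv_mulVec, one_mul, hz, one_smul, add_right_inj] at this
  refine ⟨(sbil (g.1 *ᵥ v) z)⁻¹, ?_⟩
  have hne : sbil (g.1 *ᵥ v) z ≠ 0 := fun h0 => hv (by simpa [h0] using this.symm)
  exact (eq_inv_smul_iff₀ hne).2 this

/-- An element of `Sp` fixing every line is `1` or `-1`. -/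
theorem sp_eq_one_or_neg_one [Nonempty l] {g : Matrix.symplecticGroup l F}
    (hg : ∀ v : l ⊕ l → F, ∃ c : F, g.1 *ᵥ v = c • v) : g.1 = 1 ∨ g.1 = -1 := by
  have hf : ∀ v, ¬ LinearIndependent F ![v, Matrix.mulVecLin g.1 v] := by
    intro v hli
    obtain ⟨c, hc⟩ := hg v
    have hne : v ≠ 0 := hli.ne_zero 0
    exact ((LinearIndependent.pair_iff' hne).1 hli) c (by simp [hc])
  obtain ⟨a, ha⟩ := LinearMap.exists_eq_smul_id_of_forall_notLinearIndependent hf
  have ha' : ∀ v, g.1 *ᵥ v = a • v := fun v => by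
    have := congrArg (fun f : (l ⊕ l → F) →ₗ[F] (l ⊕ l → F) => f v) ha
    simpa using this
  obtain ⟨i⟩ := ‹Nonempty l›
  have h1 := sbil_mulVec g (Pi.single (.inr i) 1) (Pi.single (.inl i) 1)
  rw [ha', ha', sbil_smul_left, sbil_smul_right, sbil_std_pair, mul_one, ← pow_two, sq_eq_one_iff]
    at h1
  rcases h1 with rfl | rfl
  · exact Or.inl (Matrix.ext_iff_mulVec.2 fun v => by simp [ha'])
  · exact Or.inr (Matrix.ext_iff_mulVec.2 fun v => by simp [ha', neg_mulVec])

theorem mem_center_sp_iff [Nonempty l] {g : Matrix.symplecticGroup l F} :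
    g ∈ Subgroup.center (Matrix.symplecticGroup l F) ↔ g.1 = 1 ∨ g.1 = -1 := by
  refine ⟨fun h => sp_eq_one_or_neg_one (sp_center_apply h), fun h => ?_⟩
  refine Subgroup.mem_center_iff.2 fun k => Subtype.ext ?_
  rcases h with h | h <;> simp [h]

theorem card_center_sp [Finite F] [Nonempty l] :
    Nat.card (Subgroup.center (Matrix.symplecticGroup l F)) = Nat.gcd 2 (Nat.card F - 1) := by
  have := Fintype.ofFinite F
  have hset : ((Subgroup.center (Matrix.symplecticGroup l F) : Subgroup _) :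
      Set (Matrix.symplecticGroup l F)) =
      {1, ⟨-1, SymplecticGroup.neg_mem (one_mem _)⟩} := by
    ext g
    rw [SetLike.mem_coe, mem_center_sp_iff]
    simp only [Set.mem_insert_iff, Set.mem_singleton_iff, Subtype.ext_iff, Submonoid.coe_one]
  rw [← SetLike.coe_sort_coe, hset, Nat.card_coe_set_eq]
  by_cases h2 : (1 : F) = -1
  · have he : Even (Nat.card F) := by
      rw [Nat.card_eq_fintype_card]
      exact Nat.even_iff.2 (FiniteField.even_card_iff_char_two.1 (neg_one_eq_one_iff.1 h2.symm))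
    rw [gcd_two_card_sub_one_of_even he]
    have : (1 : Matrix.symplecticGroup l F) = ⟨-1, SymplecticGroup.neg_mem (one_mem _)⟩ := by
      refine Subtype.ext ?_
      ext a b
      rcases eq_or_ne a b with rfl | hab
      · simpa using h2
      · simp [hab]
    rw [← this, Set.pair_eq_singleton, Set.ncard_singleton]
  · have ho : Odd (Nat.card F) := by
      rw [Nat.card_eq_fintype_card]
      refine Nat.odd_iff.2 (FiniteField.odd_card_of_char_ne_two fun hc => h2 ?_)
      exact (neg_one_eq_one_iff.2 hc).symm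
    rw [gcd_two_card_sub_one_of_odd ho, Set.ncard_pair]
    intro h
    obtain ⟨i⟩ := ‹Nonempty l›
    exact h2 (by simpa using congrFun (congrFun (congrArg Subtype.val h) (.inl i)) (.inl i))

section perfect

variable {A : Type*} [CommGroup A] (φ : Matrix.symplecticGroup l F →* A)

theorem hom_stv_eq {u w : l ⊕ l → F} (hu : u ≠ 0) (hw : w ≠ 0) (a : F) :
    φ (stv a u) = φ (stv a w) := by
  obtain ⟨g, rfl⟩ := sp_transitive hu hw
  rw [← stv_conj, map_mul, map_mul, map_inv, mul_comm (φ g), mul_inv_cancel_right]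

theorem stv_three_identity {e k f : l ⊕ l → F} (hek : sbil e k = 0) (hef : sbil e f = 0)
    (hkf : sbil k f = 0) (c : F) :
    stv c (e + k + f) * stv c e * stv c k * stv c f =
      stv c (e + k) * stv c (e + f) * stv c (k + f) := by
  refine sp_ext fun x => ?_
  simp only [sp_mul_mulVec, stv_mulVec, sbil_add_left, sbil_add_right, sbil_smul_right, sbil_self,
    hek, hef, hkf, sbil_swap e k, sbil_swap e f, sbil_swap k f, mul_zero, add_zero, zero_add,
    neg_zero]
  module

theorem stv_two_identity {e f : l ⊕ l → F} (hef : sbil e f = 0) (c : F) :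
    stv c (e + f) * stv c (e - f) = stv (2 * c) e * stv (2 * c) f := by
  refine sp_ext fun x => ?_
  simp only [sp_mul_mulVec, stv_mulVec, sbil_add_left, sbil_sub_left, sbil_sub_right,
    sbil_add_right, sbil_smul_right, sbil_self, hef, sbil_swap e f, mul_zero, add_zero, zero_add,
    sub_zero, neg_zero]
  module

end perfect

/-- `Sp` is perfect apart from `Sp₂(2)`, `Sp₂(3)`, `Sp₄(2)`. -/
theorem sp_commutator_eq_top
    (h : 3 ≤ Fintype.card l ∨ (2 ≤ Fintype.card l ∧ (2 : F) ≠ 0) ∨ ∃ a : F, a ≠ 0 ∧ a ^ 2 ≠ 1) :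
    commutator (Matrix.symplecticGroup l F) = ⊤ := by
  refine sp_eq_top_of_stv_mem _ fun a v => ?_
  rw [← Abelianization.ker_of, MonoidHom.mem_ker]
  rcases eq_or_ne v 0 with rfl | hv
  · rw [show stv a (0 : l ⊕ l → F) = 1 from sp_ext fun x => by simp, map_one]
  set φ := (Abelianization.of : Matrix.symplecticGroup l F →* _)
  have hφ : ∀ {w : l ⊕ l → F}, w ≠ 0 → ∀ c, φ (stv c w) = φ (stv c v) :=
    fun hw c => hom_stv_eq φ hw hv c
  have hadd : ∀ b c, φ (stv b v) * φ (stv c v) = φ (stv (b + c) v) := fun b c => by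
    rw [← map_mul, stv_mul]
  rcases h with h | ⟨h, h2⟩ | ⟨b, hb0, hb⟩
  · classical
    obtain ⟨i, -, j, -, k, -, hij, hik, hjk⟩ :=
      Finset.two_lt_card.1 (show 2 < (Finset.univ : Finset l).card by rw [Finset.card_univ]; omega)
    have hne : ∀ {x : l ⊕ l → F} (p : l), x (.inl p) = 1 → x ≠ 0 := fun p hp h0 => by
      simp [h0] at hp
    have := congrArg φ (stv_three_identity (e := Pi.single (.inl i) (1 : F))
      (k := Pi.single (.inl j) 1) (f := Pi.single (.inl k) 1)
      (by simp [sbil_single_inl]) (by simp [sbil_single_inl]) (by simp [sbil_single_inl]) a)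
    simp only [map_mul] at this
    have n1 : Pi.single (.inl i) (1 : F) + Pi.single (.inl j) 1 + Pi.single (.inl k) 1 ≠
        (0 : l ⊕ l → F) := hne i (by simp [hij, hik])
    have n2 : Pi.single (.inl i) (1 : F) + Pi.single (.inl j) 1 ≠ (0 : l ⊕ l → F) :=
      hne i (by simp [hij])
    have n3 : Pi.single (.inl i) (1 : F) + Pi.single (.inl k) 1 ≠ (0 : l ⊕ l → F) :=
      hne i (by simp [hik])
    have n4 : Pi.single (.inl j) (1 : F) + Pi.single (.inl k) 1 ≠ (0 : l ⊕ l → F) :=
      hne j (by simp [hjk])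
    rw [hφ n1, hφ (hne (x := Pi.single (.inl i) 1) i (by simp)),
      hφ (hne (x := Pi.single (.inl j) 1) j (by simp)),
      hφ (hne (x := Pi.single (.inl k) 1) k (by simp)), hφ n2, hφ n3, hφ n4] at this
    exact mul_eq_left.1 this
  · classical
    obtain ⟨i, j, hij⟩ := Fintype.exists_pair_of_one_lt_card (show 1 < Fintype.card l by omega)
    have hne : ∀ {x : l ⊕ l → F} (p : l), x (.inl p) = 1 → x ≠ 0 := fun p hp h0 => by
      simp [h0] at hp
    have key : ∀ c, φ (stv (c + c) v) = φ (stv (c + c + (c + c)) v) := fun c => by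
      have := congrArg φ (stv_two_identity (e := Pi.single (.inl i) (1 : F))
        (f := Pi.single (.inl j) 1) (by simp [sbil_single_inl]) c)
      simp only [map_mul] at this
      have n1 : Pi.single (.inl i) (1 : F) + Pi.single (.inl j) 1 ≠ (0 : l ⊕ l → F) :=
        hne i (by simp [hij])
      have n2 : Pi.single (.inl i) (1 : F) - Pi.single (.inl j) 1 ≠ (0 : l ⊕ l → F) :=
        hne i (by simp [hij])
      rwa [hφ n1, hφ n2, hφ (hne (x := Pi.single (.inl i) 1) i (by simp)),
        hφ (hne (x := Pi.single (.inl j) 1) j (by simp)), two_mul, hadd, hadd] at this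
    have hz : ∀ c, φ (stv (c + c) v) = 1 := fun c => by
      have := key c
      rw [← hadd (c + c)] at this
      exact left_eq_mul.1 this
    have := hz (a / 2)
    rwa [← two_mul, mul_div_cancel₀ _ h2] at this
  · have : ∀ c, φ (stv (c * b ^ 2) v) = φ (stv c v) := fun c => by
      rw [← stv_smul, hφ (smul_ne_zero hb0 hv)]
    have h1 := this (a / (b ^ 2 - 1))
    rw [show a / (b ^ 2 - 1) * b ^ 2 = a / (b ^ 2 - 1) + a by
      field_simp [sub_ne_zero.2 hb]; ring, ← hadd] at h1
    exact mul_eq_left.1 h1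

theorem sp_commutator_eq_top' [Finite F]
    (h : 3 ≤ Fintype.card l ∨ (2 ≤ Fintype.card l ∧ 3 ≤ Nat.card F) ∨ 4 ≤ Nat.card F) :
    commutator (Matrix.symplecticGroup l F) = ⊤ := by
  refine sp_commutator_eq_top ?_
  have h4 : 4 ≤ Nat.card F → ∃ a : F, a ≠ 0 ∧ a ^ 2 ≠ 1 := fun h4 => by
    obtain ⟨x, hx⟩ : IsCyclic Fˣ := inferInstance
    refine ⟨x, Units.ne_zero x, fun h => ?_⟩
    have h1 : orderOf x ≤ 2 :=
      orderOf_le_of_pow_eq_one zero_lt_two (Units.ext <| by simpa using h)
    rw [orderOf_eq_card_of_forall_mem_zpowers hx] at h1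
    rw [Nat.card_eq_card_units_add_one F] at h4
    omega
  rcases h with h | ⟨h, h3⟩ | h
  · exact Or.inl h
  · rcases Nat.lt_or_ge 3 (Nat.card F) with h' | h'
    · exact Or.inr (Or.inr (h4 h'))
    · refine Or.inr (Or.inl ⟨h, fun h2 => ?_⟩)
      have := Fintype.ofFinite F
      have hchar : ringChar F = 2 := CharP.ringChar_of_prime_eq_zero Nat.prime_two (by exact_mod_cast h2)
      have := FiniteField.even_card_iff_char_two.1 hchar
      rw [← Nat.card_eq_fintype_card] at this
      omega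
  · exact Or.inr (Or.inr (h4 h))

/-- A normal subgroup of a perfect `Sp` is central or everything. -/
theorem normal_sp_le_center_or_eq_top (hl : 2 ≤ Fintype.card l)
    (hperf : commutator (Matrix.symplecticGroup l F) = ⊤)
    (N : Subgroup (Matrix.symplecticGroup l F)) [hN : N.Normal] :
    N ≤ Subgroup.center (Matrix.symplecticGroup l F) ∨ N = ⊤ := by
  classical
  have : Nonempty l := Fintype.card_pos_iff.1 (by omega)
  by_cases hfix : ∀ n ∈ N, ∀ v : l ⊕ l → F, ∃ c : F, n.1 *ᵥ v = c • v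
  · exact Or.inl fun n hn => mem_center_sp_iff.2 (sp_eq_one_or_neg_one (hfix n hn))
  right
  push Not at hfix
  obtain ⟨n, hn, x, hx⟩ := hfix
  set R : (l ⊕ l → F) → (l ⊕ l → F) → Prop :=
    fun a b => ∃ k ∈ N, ∃ c : F, c ≠ 0 ∧ k.1 *ᵥ a = c • b with hR
  have rsymm : ∀ {a b}, R a b → R b a := by
    rintro a b ⟨k, hk, c, hc, he⟩
    refine ⟨k⁻¹, inv_mem hk, c⁻¹, inv_ne_zero hc, ?_⟩
    have := congrArg (fun z => (k⁻¹).1 *ᵥ z) he
    simp only [sp_inv_mulVec, mulVec_smul] at this
    rw [this, inv_smul_smul₀ hc]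
  have rtrans : ∀ {a b d}, R a b → R b d → R a d := by
    rintro a b d ⟨k, hk, c, hc, he⟩ ⟨k', hk', c', hc', he'⟩
    exact ⟨k' * k, mul_mem hk' hk, c * c', mul_ne_zero hc hc',
      by rw [sp_mul_mulVec, he, mulVec_smul, he', smul_smul]⟩
  have rG : ∀ (g : Matrix.symplecticGroup l F) {a b}, R a b → R (g.1 *ᵥ a) (g.1 *ᵥ b) := by
    rintro g a b ⟨k, hk, c, hc, he⟩
    exact ⟨g * k * g⁻¹, hN.conj_mem k hk g, c, hc,
      by rw [sp_mul_mulVec, sp_mul_mulVec, sp_inv_mulVec, he, mulVec_smul]⟩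
  have rscale : ∀ {a b} (c : F), c ≠ 0 → R a b → R a (c • b) := by
    rintro a b c hc ⟨k, hk, c', hc', he⟩
    exact ⟨k, hk, c' / c, div_ne_zero hc' hc,
      by rw [smul_smul, div_mul_cancel₀ _ hc, he]⟩
  have hx0 : x ≠ 0 := fun h0 => hx 0 (by simp [h0])
  have hxy : R x (n.1 *ᵥ x) := ⟨n, hn, 1, one_ne_zero, by rw [one_smul]⟩
  set y := n.1 *ᵥ x with hy
  have hall : ∀ a b : l ⊕ l → F, sbil a b ≠ 0 → R a b := by
    by_cases hxy0 : sbil x y = 0
    · -- all orthogonal independent pairs are related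
      obtain ⟨z, hz1, hz2⟩ := exists_sbil_zero_one hx0 hx
      have horth : ∀ a b : l ⊕ l → F, a ≠ 0 → (∀ c : F, b ≠ c • a) → sbil a b = 0 → R a b := by
        intro a b ha hb hab
        obtain ⟨g, rfl⟩ := sp_transitive hx0 ha
        suffices hh : ∀ b', (∀ c : F, b' ≠ c • x) → sbil x b' = 0 → R x b' by
          have hb' : g.1 *ᵥ ((g⁻¹).1 *ᵥ b) = b := sp_mulVec_inv g b
          rw [← hb']
          refine rG g (hh _ (fun c hc => hb c ?_) ?_)
          · rw [← hb', hc, mulVec_smul]
          · rw [← sbil_mulVec g, hb', hab]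
        intro b' hb' hxb
        obtain ⟨w1, hw1, hw1'⟩ := exists_sbil_zero_one hx0 hb'
        obtain ⟨w, hwx, hwy, hwb⟩ : ∃ w, sbil x w = 0 ∧ sbil y w ≠ 0 ∧ sbil b' w ≠ 0 := by
          by_cases h12 : sbil b' z = 0
          · by_cases h21 : sbil y w1 = 0
            · refine ⟨z + w1, ?_, ?_, ?_⟩ <;> simp [sbil_add_right, hz1, hw1, hz2, hw1', h12, h21]
            · exact ⟨w1, hw1, h21, by simp [hw1']⟩
          · exact ⟨z, hz1, by simp [hz2], h12⟩
        have s1 : ∀ p q : l ⊕ l → F, sbil x p = 0 → sbil x q = 0 → sbil q p ≠ 0 →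
            R x p → R x q := by
          intro p q hp hq hqp hr
          have := rG (stv (sbil q p)⁻¹ (q - p)) hr
          rwa [stv_sub_mulVec hqp, stv_mulVec, sbil_sub_left, sbil_swap x q, sbil_swap x p, hp, hq,
            neg_zero, sub_zero, mul_zero, zero_smul, add_zero] at this
        exact s1 w b' hwx hxb hwb
          (s1 y w hxy0 hwx (by rw [sbil_swap]; simpa using hwy) hxy)
      intro a b hab
      have ha : a ≠ 0 := fun h0 => hab (by simp [h0])
      have hb : b ≠ 0 := fun h0 => hab (by simp [h0])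
      obtain ⟨i, j, hij⟩ := Fintype.exists_pair_of_one_lt_card (show 1 < Fintype.card l by omega)
      obtain ⟨g, hg1, hg2⟩ := sp_transitive_pair (u := a) (v := (sbil a b)⁻¹ • b)
        (by rw [sbil_smul_right, inv_mul_cancel₀ hab]) (sbil_std_pair (F := F) i)
      have ea : a = (g⁻¹).1 *ᵥ Pi.single (.inr i) 1 := by rw [← hg1, sp_inv_mulVec]
      have eb : b = sbil a b • ((g⁻¹).1 *ᵥ Pi.single (.inl i) 1) := by
        rw [← hg2, sp_inv_mulVec, smul_inv_smul₀ hab]
      rw [eb, ea]
      refine rscale _ (by rwa [← ea]) (rG _ ?_)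
      have hne : ∀ p q : l ⊕ l, p ≠ q → ∀ c : F, Pi.single q (1 : F) ≠ c • Pi.single p 1 := by
        intro p q hpq c hc
        have := congrFun hc q
        simp [hpq.symm] at this
      refine rtrans (b := Pi.single (.inl j) 1)
        (horth _ _ (by simp) (hne _ _ (by simp)) (by simp [sbil_single_inl, hij.symm]))
        (horth _ _ (by simp) (hne _ _ (by simp [hij.symm])) (by simp [sbil_single_inl]))
    · intro a b hab
      obtain ⟨g, hg1, hg2⟩ := sp_transitive_pair (u := x) (v := (sbil x y)⁻¹ • y)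
        (u' := a) (v' := (sbil a b)⁻¹ • b)
        (by rw [sbil_smul_right, inv_mul_cancel₀ hxy0])
        (by rw [sbil_smul_right, inv_mul_cancel₀ hab])
      have := rG g (rscale _ (inv_ne_zero hxy0) hxy)
      rw [hg1, hg2] at this
      simpa [smul_smul, mul_inv_cancel₀ hab] using rscale _ hab this
  obtain ⟨i⟩ := ‹Nonempty l›
  set e : l ⊕ l → F := Pi.single (.inl i) 1 with hedef
  have he : e ≠ 0 := by simp [hedef]
  have hev : ∀ v, v ≠ 0 → R e v := by
    intro v hv
    obtain ⟨z, -, hze, hzv⟩ := exists_sbil_ne_zero_both (snondeg_top e trivial he)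
      (snondeg_top v trivial hv)
    exact rtrans (hall e z hze) (rsymm (hall v z hzv))
  let T : Subgroup (Matrix.symplecticGroup l F) :=
    { carrier := {g | ∃ a : F, g = stv a e}
      mul_mem' := by rintro _ _ ⟨a, rfl⟩ ⟨b, rfl⟩; exact ⟨a + b, stv_mul a b e⟩
      one_mem' := ⟨0, (stv_zero e).symm⟩
      inv_mem' := by rintro _ ⟨a, rfl⟩; exact ⟨-a, stv_inv a e⟩ }
  have hT : IsMulCommutative T := ⟨⟨by
    rintro ⟨_, a, rfl⟩ ⟨_, b, rfl⟩
    exact Subtype.ext (by simp [stv_mul, add_comm])⟩⟩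
  have htop : N ⊔ T = ⊤ := by
    refine sp_eq_top_of_stv_mem _ fun a v => ?_
    rcases eq_or_ne v 0 with rfl | hv
    · rw [show stv a (0 : l ⊕ l → F) = 1 from sp_ext fun x => by simp]
      exact one_mem _
    obtain ⟨k, hk, c, hc, hkv⟩ := hev v hv
    rw [show v = c⁻¹ • (k.1 *ᵥ e) by rw [hkv, inv_smul_smul₀ hc], stv_smul, ← stv_conj]
    exact mul_mem (mul_mem (Subgroup.mem_sup_left hk) (Subgroup.mem_sup_right ⟨_, rfl⟩))
      (inv_mem (Subgroup.mem_sup_left hk))
  exact top_le_iff.1 (hperf ▸ hN.commutator_le_of_self_sup_commutative_eq_top htop hT)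

/-- Simplicity of `PSp`. -/
theorem isSimpleGroup_psp (hl : 2 ≤ Fintype.card l)
    (hperf : commutator (Matrix.symplecticGroup l F) = ⊤) :
    IsSimpleGroup (Matrix.symplecticGroup l F ⧸
      Subgroup.center (Matrix.symplecticGroup l F)) := by
  classical
  have : Nonempty l := Fintype.card_pos_iff.1 (by omega)
  obtain ⟨i, j, hij⟩ := Fintype.exists_pair_of_one_lt_card (show 1 < Fintype.card l by omega)
  have hnt : Nontrivial (Matrix.symplecticGroup l F ⧸
      Subgroup.center (Matrix.symplecticGroup l F)) := by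
    refine ⟨⟨QuotientGroup.mk (stv 1 (Pi.single (.inl i) (1 : F))), 1, fun h => ?_⟩⟩
    rw [QuotientGroup.eq_one_iff] at h
    obtain ⟨c, hc⟩ := sp_center_apply h (Pi.single (.inr i) 1)
    rw [stv_mulVec] at hc
    have := congrFun hc (.inl i)
    simp [sbil_single_inr] at this
  refine { eq_bot_or_eq_top_of_normal := fun H hH => ?_ }
  have := hH.comap (QuotientGroup.mk' (Subgroup.center (Matrix.symplecticGroup l F)))
  rcases normal_sp_le_center_or_eq_top hl hperf (H.comap (QuotientGroup.mk' _)) with h | h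
  · left
    refine eq_bot_iff.2 fun q hq => ?_
    obtain ⟨g, rfl⟩ := QuotientGroup.mk_surjective q
    exact Subgroup.mem_bot.2 ((QuotientGroup.eq_one_iff g).2 (h hq))
  · right
    refine eq_top_iff.2 fun q _ => ?_
    obtain ⟨g, rfl⟩ := QuotientGroup.mk_surjective q
    exact (h ▸ Subgroup.mem_top g : g ∈ H.comap (QuotientGroup.mk' _))

end CfsgLib.Classical
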