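import Cfsg.Agent.Lib.Classical.GL2
import Cfsg.Agent.Lib.PGroups.UniqueOrderP

/-!
Sylow subgroups of `SL₂` and `PSL₂` away from the defining characteristic.
-/

set_option autoImplicit false

namespace CfsgLib.Classical

open Matrix Matrix.SpecialLinearGroup

variable {F : Type*} [Field F]

theorem sl2_eq_one_or_of_sq (h2 : (2 : F) ≠ 0) {g z : Matrix.SpecialLinearGroup (Fin 2) F}
    (hz : z.1 = -1) (hg : g ^ 2 = 1) : g = 1 ∨ g = z := by
  rcases sl2_sq_eq_one h2 (by rwa [← sq]) with h | h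
  · exact Or.inl (Subtype.ext h)
  · exact Or.inr (Subtype.ext (h.trans hz.symm))

/-- `-1` as an element of `SL₂`. -/
def negOneSL (F : Type*) [Field F] : Matrix.SpecialLinearGroup (Fin 2) F := ⟨-1, by simp [Matrix.det_neg]⟩

theorem negOneSL_coe : (negOneSL F).1 = -1 := rfl

theorem negOneSL_mem_center : negOneSL F ∈ Subgroup.center (Matrix.SpecialLinearGroup (Fin 2) F) :=
  Subgroup.mem_center_iff.2 fun g => Subtype.ext (by rw [coe_mul, coe_mul, negOneSL_coe]; simp)

theorem negOneSL_sq : negOneSL F ^ 2 = 1 := Subtype.ext (by rw [coe_pow, negOneSL_coe]; simp)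

theorem negOneSL_ne_one (h2 : (2 : F) ≠ 0) : negOneSL F ≠ 1 := fun h => by
  have := congrArg (fun g : Matrix.SpecialLinearGroup (Fin 2) F => g.1 0 0) h
  simp [negOneSL_coe] at this
  exact h2 (by linear_combination -this)

/-- `SL₂` in odd characteristic contains two anticommuting elements of order four. -/
theorem exists_q8 [Finite F] (h2 : (2 : F) ≠ 0) : ∃ a b : Matrix.SpecialLinearGroup (Fin 2) F,
    a ^ 2 = negOneSL F ∧ b ^ 2 = negOneSL F ∧ a * b = negOneSL F * (b * a) := by
  obtain ⟨p, hp⟩ := CharP.exists F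
  have := Fintype.ofFinite F
  have : NeZero p := ⟨(CharP.char_is_prime F p).ne_zero⟩
  obtain ⟨x, y, hxy⟩ := CharP.sq_add_sq F p (-1)
  let a : Matrix.SpecialLinearGroup (Fin 2) F := ⟨!![0, 1; -1, 0], by simp [Matrix.det_fin_two_of]⟩
  let b : Matrix.SpecialLinearGroup (Fin 2) F := ⟨!![(x : F), y; y, -x], by
    rw [Matrix.det_fin_two_of]
    have : (x : F) ^ 2 + (y : F) ^ 2 = -1 := by simpa using hxy
    linear_combination -this⟩
  have hxy' : (x : F) ^ 2 + (y : F) ^ 2 = -1 := by simpa using hxy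
  have ha : a.1 = !![0, 1; -1, 0] := rfl
  have hb : b.1 = !![(x : F), y; y, -x] := rfl
  refine ⟨a, b, ?_, ?_, ?_⟩ <;> refine Subtype.ext ?_ <;>
    simp only [coe_mul, coe_pow, ha, hb, negOneSL_coe, sq] <;> ext i j <;> fin_cases i <;>
    fin_cases j <;>
    simp [Matrix.mul_apply, Fin.sum_univ_two] <;> first | linear_combination hxy' | ring

/-- In odd characteristic a `2`-subgroup of `SL₂` is cyclic or generalised quaternion. -/
theorem twoGroup_cyclic_or_quaternion [Finite F] (h2 : (2 : F) ≠ 0) {S : Type*} [Group S]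
    [Finite S] (hS : IsPGroup 2 S) (f : S →* Matrix.SpecialLinearGroup (Fin 2) F)
    (hf : Function.Injective f) :
    IsCyclic S ∨ ∃ k : ℕ, 1 ≤ k ∧ Nonempty (S ≃* QuaternionGroup (2 ^ k)) := by
  by_cases hex : ∃ z : S, z ^ 2 = 1 ∧ z ≠ 1
  · obtain ⟨z, hz, hz1⟩ := hex
    have hne : f z ≠ 1 := fun h => hz1 (hf (h.trans (map_one f).symm))
    have hz' := (sl2_eq_one_or_of_sq h2 rfl (g := f z) (z := negOneSL F)
      (by rw [← map_pow, hz, map_one])).resolve_left hne
    have hu : ∀ y : S, y ^ 2 = 1 → y ∈ Subgroup.zpowers z := fun y hy => by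
      rcases sl2_eq_one_or_of_sq h2 rfl (g := f y) (z := negOneSL F)
        (by rw [← map_pow, hy, map_one]) with h | h
      · rw [show y = 1 from hf (h.trans (map_one f).symm)]; exact one_mem _
      · rw [show y = z from hf (h.trans hz'.symm)]; exact Subgroup.mem_zpowers z
    have : Fact (Nat.Prime 2) := ⟨Nat.prime_two⟩
    rcases CfsgLib.PGroups.isCyclic_or_quaternion_of_unique hS hz hu with h | ⟨-, h⟩
    · exact Or.inl h
    · exact Or.inr h
  · left
    push Not at hex
    have h : ¬ 2 ∣ Nat.card S := fun hd => by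
      have : Fact (Nat.Prime 2) := ⟨Nat.prime_two⟩
      obtain ⟨x, hx⟩ := exists_prime_orderOf_dvd_card' 2 hd
      have := hex x (by rw [← hx, pow_orderOf_eq_one])
      simp [this] at hx
    have : Subsingleton S := by
      rw [← Finite.card_le_one_iff_subsingleton]
      have : Fact (Nat.Prime 2) := ⟨Nat.prime_two⟩
      obtain ⟨n, hn⟩ := IsPGroup.iff_card.1 hS
      rcases n with _ | n
      · simp [hn]
      · exact absurd (hn ▸ dvd_pow_self 2 (Nat.succ_ne_zero n)) h
    infer_instance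

theorem sylow_two_SL2_not_commutative [Finite F] (h2 : (2 : F) ≠ 0)
    (P : Sylow 2 (Matrix.SpecialLinearGroup (Fin 2) F)) :
    ¬ IsMulCommutative (P : Subgroup (Matrix.SpecialLinearGroup (Fin 2) F)) := by
  intro hcomm
  have : Fact (Nat.Prime 2) := ⟨Nat.prime_two⟩
  obtain ⟨a, b, ha, hb, hab⟩ := exists_q8 (F := F) h2
  have hz4 : ∀ c : Matrix.SpecialLinearGroup (Fin 2) F, c ^ 2 = negOneSL F → orderOf c ∣ 2 ^ 2 := by
    intro c hc
    rw [orderOf_dvd_iff_pow_eq_one, show 2 ^ 2 = 2 * 2 by norm_num, pow_mul, hc, negOneSL_sq]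
  have hord : ∀ c : Matrix.SpecialLinearGroup (Fin 2) F, c ^ 2 = negOneSL F →
      IsPGroup 2 (Subgroup.zpowers c) := by
    intro c hc
    obtain ⟨k, -, hk⟩ := (Nat.dvd_prime_pow Nat.prime_two).1 (hz4 c hc)
    exact IsPGroup.of_card (n := k) (by rw [Nat.card_zpowers, hk])
  have hnorm : Subgroup.zpowers a ≤ Subgroup.normalizer (Subgroup.zpowers b : Set _) := by
    refine Subgroup.zpowers_le.2 ((Subgroup.mem_normalizer_iff_map_conj_eq).2 ?_)
    rw [MonoidHom.map_zpowers]
    have hconj : a * b * a⁻¹ = b⁻¹ := by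
      rw [mul_inv_eq_iff_eq_mul, eq_inv_mul_iff_mul_eq, hab, ← hb]
      have h4 : b ^ 4 = 1 := by rw [show 4 = 2 * 2 by norm_num, pow_mul, hb, negOneSL_sq]
      rw [show b * (b ^ 2 * (b * a)) = b ^ 4 * a by simp [pow_succ, mul_assoc], h4, one_mul]
    show Subgroup.zpowers (a * b * a⁻¹) = _
    rw [hconj, Subgroup.zpowers_inv]
  have hH : IsPGroup 2 (Subgroup.zpowers b ⊔ Subgroup.zpowers a :
      Subgroup (Matrix.SpecialLinearGroup (Fin 2) F)) :=
    IsPGroup.to_sup_of_normal_left' (hord b hb) (hord a ha) hnorm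
  obtain ⟨Q, hQ⟩ := hH.exists_le_sylow
  obtain ⟨g, hg⟩ := MulAction.exists_smul_eq (Matrix.SpecialLinearGroup (Fin 2) F) P Q
  have ha' : a ∈ (Q : Subgroup (Matrix.SpecialLinearGroup (Fin 2) F)) :=
    hQ (Subgroup.mem_sup_right (Subgroup.mem_zpowers a))
  have hb' : b ∈ (Q : Subgroup (Matrix.SpecialLinearGroup (Fin 2) F)) :=
    hQ (Subgroup.mem_sup_left (Subgroup.mem_zpowers b))
  rw [← hg] at ha' hb'
  obtain ⟨u, hu, hua⟩ := (mem_sylow_smul 2).1 ha'
  obtain ⟨v, hv, hvb⟩ := (mem_sylow_smul 2).1 hb'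
  have hc : u * v = v * u :=
    congrArg Subtype.val (hcomm.is_comm.comm ⟨u, hu⟩ ⟨v, hv⟩)
  have hab' : a * b = b * a := by
    rw [← hua, ← hvb]
    simp only [mul_assoc, inv_mul_cancel_left]
    rw [← mul_assoc u v, hc, mul_assoc]
  rw [hab'] at hab
  exact negOneSL_ne_one h2 (right_eq_mul.1 hab)

theorem sylow_two_SL2 [Finite F] (h2 : (2 : F) ≠ 0)
    (P : Sylow 2 (Matrix.SpecialLinearGroup (Fin 2) F)) :
    ∃ k : ℕ, 1 ≤ k ∧ Nonempty
      ((P : Subgroup (Matrix.SpecialLinearGroup (Fin 2) F)) ≃* QuaternionGroup (2 ^ k)) := by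
  refine (twoGroup_cyclic_or_quaternion h2 P.isPGroup' (Subgroup.subtype _)
    Subtype.val_injective).resolve_left fun hc => ?_
  exact sylow_two_SL2_not_commutative h2 P hc.isMulCommutative

/-- `diag(t, t⁻¹)` as a homomorphism. -/
noncomputable def torusHom (F : Type*) [Field F] : Fˣ →* Matrix.SpecialLinearGroup (Fin 2) F where
  toFun t := ⟨!![(t : F), 0; 0, ((t⁻¹ : Fˣ) : F)], by simp [Matrix.det_fin_two_of]⟩
  map_one' := by ext i j; fin_cases i <;> fin_cases j <;> simp
  map_mul' s t := by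
    refine Subtype.ext ?_
    show !![((s * t : Fˣ) : F), 0; 0, (((s * t)⁻¹ : Fˣ) : F)] =
      !![(s : F), 0; 0, ((s⁻¹ : Fˣ) : F)] * !![(t : F), 0; 0, ((t⁻¹ : Fˣ) : F)]
    ext i j
    fin_cases i <;> fin_cases j <;> simp [Matrix.mul_apply, Fin.sum_univ_two, mul_comm]

theorem torusHom_coe (t : Fˣ) : (torusHom F t).1 = !![(t : F), 0; 0, ((t⁻¹ : Fˣ) : F)] := rfl

theorem torusHom_injective : Function.Injective (torusHom F) := fun s t h => Units.ext (by
  simpa [torusHom_coe] using congrArg (fun g : Matrix.SpecialLinearGroup (Fin 2) F => g.1 0 0) h)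

/-- `SL₂(q)` has a cyclic subgroup of order `q - 1`. -/
theorem exists_cyclic_card_sub_one [Finite F] :
    ∃ C : Subgroup (Matrix.SpecialLinearGroup (Fin 2) F), IsCyclic C ∧
      Nat.card C = Nat.card F - 1 :=
  ⟨(torusHom F).range, isCyclic_of_surjective _ (torusHom F).rangeRestrict_surjective,
    by rw [← Nat.card_congr (MonoidHom.ofInjective torusHom_injective).toEquiv, card_units_field]⟩

/-- `SL₂(q)` has a cyclic subgroup of order `q + 1`. -/
theorem exists_cyclic_card_add_one [Finite F] :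
    ∃ C : Subgroup (Matrix.SpecialLinearGroup (Fin 2) F), IsCyclic C ∧
      Nat.card C = Nat.card F + 1 := by
  obtain ⟨p, hp⟩ := CharP.exists F
  have : Fact p.Prime := ⟨CharP.char_is_prime F p⟩
  let K := FiniteField.Extension F p 2
  let b : Module.Basis (Fin 2) F K :=
    Module.finBasisOfFinrankEq F K (FiniteField.finrank_extension F p 2)
  let N : Subgroup Kˣ := (Units.map (Algebra.norm F (S := K))).ker
  have hN : ∀ n : N, (Algebra.leftMulMatrix b ((n.1 : Kˣ) : K)).det = 1 := fun n => by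
    rw [← Algebra.norm_eq_matrix_det]
    simpa using congrArg Units.val (MonoidHom.mem_ker.1 n.2)
  let f : N →* Matrix.SpecialLinearGroup (Fin 2) F :=
    { toFun := fun n => ⟨Algebra.leftMulMatrix b ((n.1 : Kˣ) : K), hN n⟩
      map_one' := Subtype.ext (by simp)
      map_mul' := fun m n => Subtype.ext (by
        show Algebra.leftMulMatrix b ((m.1 * n.1 : Kˣ) : K) = _ * _
        simp) }
  have hf : Function.Injective f := fun m n h =>
    Subtype.ext (Units.ext (Algebra.leftMulMatrix_injective b (congrArg Subtype.val h)))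
  refine ⟨f.range, isCyclic_of_surjective _ f.rangeRestrict_surjective, ?_⟩
  rw [← Nat.card_congr (MonoidHom.ofInjective hf).toEquiv]
  have h := Subgroup.card_eq_card_quotient_mul_card_subgroup N
  rw [Nat.card_congr (QuotientGroup.quotientKerEquivOfSurjective _
      (FiniteField.unitsMap_norm_surjective F K)).toEquiv, card_units_field, card_units_field,
    FiniteField.natCard_extension] at h
  refine Nat.eq_of_mul_eq_mul_left (show 0 < Nat.card F - 1 by
    have := Finite.one_lt_card (α := F); omega) (h.symm.trans ?_)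
  rw [mul_comm, ← Nat.sq_sub_sq, one_pow]

theorem isCyclic_sylow_of_dvd {G : Type*} [Group G] [Finite G] {r : ℕ} [Fact r.Prime]
    {C : Subgroup G} (hC : IsCyclic C) (h : r ^ (Nat.card G).factorization r ∣ Nat.card C)
    (R : Sylow r G) : IsCyclic (R : Subgroup G) := by
  obtain ⟨T, hT⟩ := Sylow.exists_subgroup_card_pow_prime r (G := C) h
  let Q : Sylow r G := Sylow.ofCard (T.map C.subtype)
    (by rw [← Nat.card_congr (T.equivMapOfInjective _ C.subtype_injective).toEquiv, hT])
  have hQ : IsCyclic (Q : Subgroup G) :=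
    isCyclic_of_surjective _ (T.equivMapOfInjective C.subtype C.subtype_injective).surjective
  exact isCyclic_of_surjective _ (Sylow.equiv Q R).surjective

theorem sylow_odd_SL2_isCyclic [Finite F] (p : ℕ) [Fact p.Prime] [CharP F p] {r : ℕ}
    [Fact r.Prime] (hr : r ≠ 2) (hrp : r ≠ p) (R : Sylow r (Matrix.SpecialLinearGroup (Fin 2) F)) :
    IsCyclic (R : Subgroup (Matrix.SpecialLinearGroup (Fin 2) F)) := by
  have hrP : r.Prime := Fact.out
  obtain ⟨k, -, hk⟩ := card_eq_charPow (F := F) p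
  have hq : ¬ r ∣ Nat.card F := fun h => hrp ((Nat.prime_dvd_prime_iff_eq hrP Fact.out).1
    (hrP.dvd_of_dvd_pow (hk ▸ h)))
  have h1 : 1 < Nat.card F := Finite.one_lt_card
  have hfac : (Nat.card (Matrix.SpecialLinearGroup (Fin 2) F)).factorization r =
      (Nat.card F + 1).factorization r + (Nat.card F - 1).factorization r := by
    rw [card_SL_two, show Nat.card F ^ 2 - 1 = (Nat.card F + 1) * (Nat.card F - 1) by
      rw [← Nat.sq_sub_sq, one_pow], Nat.factorization_mul (by omega) (Nat.mul_ne_zero (by omega) (by omega)),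
      Nat.factorization_mul (by omega) (by omega), Finsupp.add_apply, Finsupp.add_apply,
      Nat.factorization_eq_zero_of_not_dvd hq, zero_add]
  by_cases hd : r ∣ Nat.card F + 1
  · have hd' : ¬ r ∣ Nat.card F - 1 := fun h => hr ((Nat.prime_dvd_prime_iff_eq hrP Nat.prime_two).1
      (by have := Nat.dvd_sub hd h; rwa [show Nat.card F + 1 - (Nat.card F - 1) = 2 by omega] at this))
    obtain ⟨C, hC, hcard⟩ := exists_cyclic_card_add_one (F := F)
    refine isCyclic_sylow_of_dvd hC ?_ R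
    rw [hfac, Nat.factorization_eq_zero_of_not_dvd hd', add_zero, hcard]
    exact Nat.ordProj_dvd _ _
  · obtain ⟨C, hC, hcard⟩ := exists_cyclic_card_sub_one (F := F)
    refine isCyclic_sylow_of_dvd hC ?_ R
    rw [hfac, Nat.factorization_eq_zero_of_not_dvd hd, zero_add, hcard]
    exact Nat.ordProj_dvd _ _

theorem factorization_two_card_SL2 [Finite F]
    (hq : Nat.card F % 8 = 3 ∨ Nat.card F % 8 = 5) :
    (Nat.card (Matrix.SpecialLinearGroup (Fin 2) F)).factorization 2 = 3 := by
  obtain ⟨m, hm, he⟩ : ∃ m, ¬ 2 ∣ m ∧ Nat.card F * (Nat.card F ^ 2 - 1) = 2 ^ 3 * m := by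
    rcases hq with h | h
    · obtain ⟨t, ht⟩ : ∃ t, Nat.card F = 8 * t + 3 := ⟨Nat.card F / 8, by omega⟩
      refine ⟨(8 * t + 3) * (8 * t ^ 2 + 6 * t + 1), ?_, ?_⟩
      · rw [← even_iff_two_dvd]; simp [parity_simps]
      · rw [ht, show (8 * t + 3) ^ 2 - 1 = 8 * (8 * t ^ 2 + 6 * t + 1) from
          Nat.sub_eq_of_eq_add (by ring)]
        ring
    · obtain ⟨t, ht⟩ : ∃ t, Nat.card F = 8 * t + 5 := ⟨Nat.card F / 8, by omega⟩
      refine ⟨(8 * t + 5) * (8 * t ^ 2 + 10 * t + 3), ?_, ?_⟩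
      · rw [← even_iff_two_dvd]; simp [parity_simps]
      · rw [ht, show (8 * t + 5) ^ 2 - 1 = 8 * (8 * t ^ 2 + 10 * t + 3) from
          Nat.sub_eq_of_eq_add (by ring)]
        ring
  rw [card_SL_two, he, Nat.factorization_mul (by norm_num) (fun h0 => hm (by rw [h0]; exact dvd_zero 2)),
    Finsupp.add_apply, Nat.prime_two.factorization_pow, Finsupp.single_eq_same,
    Nat.factorization_eq_zero_of_not_dvd hm]

theorem sylow_two_PSL2_isKleinFour [Finite F] (hq : Nat.card F % 8 = 3 ∨ Nat.card F % 8 = 5)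
    (P : Sylow 2 (Matrix.ProjectiveSpecialLinearGroup (Fin 2) F)) :
    IsKleinFour (P : Subgroup (Matrix.ProjectiveSpecialLinearGroup (Fin 2) F)) := by
  have : Fact (Nat.Prime 2) := ⟨Nat.prime_two⟩
  have hodd : Odd (Nat.card F) := Nat.odd_iff.2 (by omega)
  have h2 := two_ne_zero_of_odd_card hodd
  have hsurj : Function.Surjective
      (QuotientGroup.mk' (Subgroup.center (Matrix.SpecialLinearGroup (Fin 2) F))) :=
    QuotientGroup.mk'_surjective _
  obtain ⟨S, rfl⟩ := Sylow.mapSurjective_surjective hsurj 2 P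
  have hcard : Nat.card (Sylow.mapSurjective hsurj S :
      Subgroup (Matrix.ProjectiveSpecialLinearGroup (Fin 2) F)) = 2 ^ 2 := by
    rw [Sylow.card_eq_multiplicity]
    have h := card_PSL_two_mul (F := F)
    rw [gcd_two_card_sub_one_of_odd hodd, ← card_SL_two] at h
    have h' := factorization_two_card_SL2 hq
    have h'' : (2 * Nat.card (Matrix.ProjectiveSpecialLinearGroup (Fin 2) F)).factorization 2 = 3 := by
      rw [h]; exact h'
    rw [Nat.factorization_mul (by norm_num) Nat.card_pos.ne', Finsupp.add_apply,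
      Nat.prime_two.factorization_self] at h''
    exact congrArg _ (show (Nat.card (Matrix.ProjectiveSpecialLinearGroup (Fin 2) F)).factorization 2 = 2
      by omega)
  have hexp : ∀ g : (Sylow.mapSurjective hsurj S :
      Subgroup (Matrix.ProjectiveSpecialLinearGroup (Fin 2) F)), g * g = 1 := by
    rintro ⟨_, s, hs, rfl⟩
    refine Subtype.ext ?_
    have hs4 : (s ^ 2) ^ 2 = 1 := by
      by_contra hne
      have hdvd : orderOf (⟨s, hs⟩ : (S : Subgroup (Matrix.SpecialLinearGroup (Fin 2) F))) ∣ 2 ^ 3 := by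
        have := orderOf_dvd_natCard (G := (S : Subgroup (Matrix.SpecialLinearGroup (Fin 2) F))) ⟨s, hs⟩
        rwa [Sylow.card_eq_multiplicity, factorization_two_card_SL2 hq] at this
      obtain ⟨k, hk, hord⟩ := (Nat.dvd_prime_pow Nat.prime_two).1 hdvd
      rcases lt_or_eq_of_le hk with hk | rfl
      · refine hne ?_
        rw [← pow_mul, ← orderOf_dvd_iff_pow_eq_one, ← Subgroup.orderOf_mk _ hs, hord]
        exact Nat.pow_dvd_pow 2 (Nat.le_of_lt_succ hk)
      · have hcyc : IsCyclic (S : Subgroup (Matrix.SpecialLinearGroup (Fin 2) F)) :=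
          isCyclic_of_orderOf_eq_card ⟨s, hs⟩
            (by rw [hord, Sylow.card_eq_multiplicity, factorization_two_card_SL2 hq])
        exact sylow_two_SL2_not_commutative h2 S hcyc.isMulCommutative
    show (QuotientGroup.mk' _ s) * (QuotientGroup.mk' _ s) = 1
    rw [← map_mul, QuotientGroup.mk'_apply, QuotientGroup.eq_one_iff, ← sq]
    rcases sl2_eq_one_or_of_sq h2 rfl (g := s ^ 2) (z := negOneSL F) hs4 with h | h
    · rw [h]; exact one_mem _
    · rw [h]; exact negOneSL_mem_center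
  refine ⟨hcard, ?_⟩
  have hdvd := Monoid.exponent_dvd_of_forall_pow_eq_one (n := 2) (fun g => by rw [sq]; exact hexp g)
    (G := (Sylow.mapSurjective hsurj S : Subgroup (Matrix.ProjectiveSpecialLinearGroup (Fin 2) F)))
  rcases (Nat.dvd_prime Nat.prime_two).1 hdvd with h | h
  · have := Monoid.exp_eq_one_iff.1 h
    rw [Nat.card_unique] at hcard
    norm_num at hcard
  · exact h

end CfsgLib.Classical
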