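import Cfsg.Agent.Lib.Classical.SympBasic

/-!
The order of the symplectic group over a finite field.
-/

set_option autoImplicit false

namespace CfsgLib.Classical

open Matrix

variable {l : Type*} [Fintype l] [DecidableEq l] {F : Type*} [Field F]

/-- Vectors supported outside `s` are functions on the complement of `s`. -/
def supOutsideEquiv (s : Finset l) :
    (supOutside s : Submodule F (l ⊕ l → F)) ≃ ({i // i ∉ s} ⊕ {i // i ∉ s} → F) where
  toFun x := Sum.elim (fun i => x.1 (.inl i.1)) (fun i => x.1 (.inr i.1))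
  invFun w := ⟨Sum.elim (fun i => if h : i ∈ s then 0 else w (.inl ⟨i, h⟩))
    (fun i => if h : i ∈ s then 0 else w (.inr ⟨i, h⟩)), fun i hi => by simp [hi]⟩
  left_inv := by
    rintro ⟨x, hx⟩
    refine Subtype.ext (funext fun i => ?_)
    rcases i with i | i <;> by_cases hi : i ∈ s <;> simp [hi]
    · exact (hx i hi).1.symm
    · exact (hx i hi).2.symm
  right_inv w := by
    funext i
    rcases i with ⟨i, hi⟩ | ⟨i, hi⟩ <;> simp [hi]

theorem card_supOutside [Finite F] (s : Finset l) :
    Nat.card (supOutside s : Submodule F (l ⊕ l → F)) =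
      Nat.card F ^ (2 * (Fintype.card l - s.card)) := by
  rw [Nat.card_congr (supOutsideEquiv s), Nat.card_fun, Nat.card_eq_fintype_card (α := _ ⊕ _),
    Fintype.card_sum, Fintype.card_subtype_compl, Fintype.card_coe, two_mul]

variable (F) in
/-- Hyperbolic pairs inside `supOutside s`. -/
abbrev HypPair (s : Finset l) : Type _ :=
  {p : Prod (supOutside s : Submodule F (l ⊕ l → F)) (supOutside s : Submodule F (l ⊕ l → F)) //
    sbil p.1.1 p.2.1 = 1}

theorem card_sbil_fiber [Finite F] (s : Finset l) {u : (supOutside s : Submodule F (l ⊕ l → F))}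
    (hu : u ≠ 0) :
    Nat.card {w : (supOutside s : Submodule F (l ⊕ l → F)) // sbil u.1 w.1 = 1} * Nat.card F =
      Nat.card (supOutside s : Submodule F (l ⊕ l → F)) := by
  obtain ⟨z, hz, hne⟩ := snondeg_supOutside s u.1 u.2 (fun h => hu (Subtype.ext h))
  set z1 : (supOutside s : Submodule F (l ⊕ l → F)) :=
    ⟨(sbil u.1 z)⁻¹ • z, Submodule.smul_mem _ _ hz⟩ with hz1
  have h1 : sbil u.1 z1.1 = 1 := by simp [hz1, sbil_smul_right, inv_mul_cancel₀ hne]
  rw [← Nat.card_prod]
  refine Nat.card_congr
    { toFun := fun p => p.1.1 + (p.2 - 1) • z1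
      invFun := fun w => (⟨w - (sbil u.1 w.1 - 1) • z1, by
        simp [sbil_sub_right, sbil_smul_right, h1]⟩, sbil u.1 w.1)
      left_inv := ?_
      right_inv := ?_ }
  · rintro ⟨⟨w, hw⟩, c⟩
    simp [sbil_add_right, sbil_smul_right, h1, hw]
  · intro w
    simp

theorem card_hypPair [Finite F] (s : Finset l) :
    Nat.card (HypPair F s) * Nat.card F =
      (Nat.card F ^ (2 * (Fintype.card l - s.card)) - 1) *
        Nat.card F ^ (2 * (Fintype.card l - s.card)) := by
  classical
  have := Fintype.ofFinite F
  have : Fintype (supOutside s : Submodule F (l ⊕ l → F)) := Fintype.ofFinite _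
  rw [HypPair, Nat.card_congr (Equiv.subtypeProdEquivSigmaSubtype fun
    (u w : (supOutside s : Submodule F (l ⊕ l → F))) => sbil u.1 w.1 = 1), Nat.card_sigma,
    Finset.sum_mul, Fintype.sum_eq_add_sum_compl 0]
  have h0 : Nat.card {w : (supOutside s : Submodule F (l ⊕ l → F)) //
      sbil (0 : (supOutside s : Submodule F (l ⊕ l → F))).1 w.1 = 1} = 0 := by
    have : IsEmpty {w : (supOutside s : Submodule F (l ⊕ l → F)) //
      sbil (0 : (supOutside s : Submodule F (l ⊕ l → F))).1 w.1 = 1} := ⟨fun w => by simpa using w.2⟩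
    simp
  rw [h0, zero_mul, zero_add, Finset.sum_congr rfl fun u hu => card_sbil_fiber s (u := u)
    (by simpa using hu), Finset.sum_const, Finset.card_compl, Finset.card_singleton,
    ← Nat.card_eq_fintype_card, card_supOutside, smul_eq_mul]

theorem card_pairFix_step [Finite F] (s : Finset l) {j : l} (hj : j ∉ s) :
    Nat.card (pairFix s : Subgroup (Matrix.symplecticGroup l F)) =
      Nat.card (pairFix (insert j s) : Subgroup (Matrix.symplecticGroup l F)) *
        Nat.card (HypPair F s) := by
  let S : Subgroup (Matrix.symplecticGroup l F) := pairFix s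
  let act : MulAction S (HypPair F s) :=
    { smul := fun g p => ⟨(⟨g.1.1 *ᵥ p.1.1.1, pairFix_mulVec_mem g.2 p.1.1.2⟩,
        ⟨g.1.1 *ᵥ p.1.2.1, pairFix_mulVec_mem g.2 p.1.2.2⟩), by rw [sbil_mulVec]; exact p.2⟩
      one_smul := fun p => Subtype.ext (Prod.ext (Subtype.ext (sp_one_mulVec _))
        (Subtype.ext (sp_one_mulVec _)))
      mul_smul := fun g h p => Subtype.ext (Prod.ext (Subtype.ext (sp_mul_mulVec _ _ _))
        (Subtype.ext (sp_mul_mulVec _ _ _))) }
  obtain ⟨he, hf⟩ := single_mem_supOutside hj (1 : F)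
  let p0 : HypPair F s := ⟨(⟨_, hf⟩, ⟨_, he⟩), sbil_std_pair j⟩
  have htrans : MulAction.orbit S p0 = Set.univ := by
    refine Set.eq_univ_of_forall fun p => ?_
    obtain ⟨g, hg, h1, h2⟩ := exists_move_pair (snondeg_supOutside s) hf he p.1.1.2 p.1.2.2
      (sbil_std_pair j) p.2
    exact ⟨⟨g, stvClosure_le_pairFix s hg⟩,
      Subtype.ext (Prod.ext (Subtype.ext h1) (Subtype.ext h2))⟩
  have hstab : Nat.card (MulAction.stabilizer S p0) =
      Nat.card (pairFix (insert j s) : Subgroup (Matrix.symplecticGroup l F)) := by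
    have : MulAction.stabilizer S p0 = (pairFix (insert j s)).subgroupOf S := by
      ext g
      rw [MulAction.mem_stabilizer_iff, Subgroup.mem_subgroupOf]
      constructor
      · intro h i hi
        rcases Finset.mem_insert.1 hi with rfl | hi
        · exact ⟨congrArg (fun p : HypPair F s => p.1.2.1) h,
            congrArg (fun p : HypPair F s => p.1.1.1) h⟩
        · exact g.2 i hi
      · intro h
        exact Subtype.ext (Prod.ext (Subtype.ext (h j (Finset.mem_insert_self j s)).2)
          (Subtype.ext (h j (Finset.mem_insert_self j s)).1))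
    have hle : (pairFix (insert j s) : Subgroup (Matrix.symplecticGroup l F)) ≤ S :=
      fun g hg i hi => hg i (Finset.mem_insert_of_mem hi)
    rw [this, Nat.card_congr (Subgroup.subgroupOfEquivOfLe hle).toEquiv]
  rw [← hstab, show Nat.card S = _ from Subgroup.card_eq_card_quotient_mul_card_subgroup
    (MulAction.stabilizer S p0), mul_comm]
  congr 1
  rw [← Nat.card_congr (MulAction.orbitEquivQuotientStabilizer S p0), htrans,
    Nat.card_congr (Equiv.Set.univ _)]

theorem card_pairFix [Finite F] (k : ℕ) : ∀ (s : Finset l), Fintype.card l - s.card = k →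
    Nat.card (pairFix s : Subgroup (Matrix.symplecticGroup l F)) =
      Nat.card F ^ (k ^ 2) * ∏ i ∈ Finset.range k, (Nat.card F ^ (2 * (i + 1)) - 1) := by
  induction k with
  | zero =>
    intro s h
    have : s = Finset.univ := Finset.eq_univ_of_card _ (by have := s.card_le_univ; omega)
    subst this
    rw [pairFix_univ]
    simp
  | succ k ih =>
    intro s h
    obtain ⟨j, hj⟩ : ∃ j, j ∉ s := by
      by_contra h'
      push Not at h'
      rw [Finset.eq_univ_of_forall h', Finset.card_univ] at h
      omega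
    refine Nat.eq_of_mul_eq_mul_right (Nat.card_pos : 0 < Nat.card F) ?_
    rw [card_pairFix_step s hj, mul_assoc, card_hypPair, h,
      ih (insert j s) (by rw [Finset.card_insert_of_notMem hj]; omega), Finset.prod_range_succ]
    ring_nf

/-- `|Sp_{2m}(q)| = q^{m²} ∏ (q^{2i} - 1)`. -/
theorem card_symplecticGroup [Finite F] :
    Nat.card (Matrix.symplecticGroup l F) = Nat.card F ^ (Fintype.card l ^ 2) *
      ∏ i ∈ Finset.range (Fintype.card l), (Nat.card F ^ (2 * (i + 1)) - 1) := by
  have := card_pairFix (F := F) (Fintype.card l) (∅ : Finset l) (by simp)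
  rwa [pairFix_empty, Nat.card_congr Subgroup.topEquiv.toEquiv] at this

end CfsgLib.Classical
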