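import Cfsg.Agent.Lib.Classical.OrthStd

/-!
The orthogonal groups in dimension two are dihedral.
-/

set_option autoImplicit false

namespace CfsgLib.Classical

open QuadraticMap CfsgLib.Geometry

/-- A group of order `2n` generated by a cyclic part and an inverting involution. -/
theorem nonempty_mulEquiv_dihedralGroup {G : Type*} [Group G] [Finite G] {x s : G} {n : ℕ}
    (hn : 0 < n) (hx : orderOf x = n) (hs : s * s = 1) (hconj : s * x * s⁻¹ = x⁻¹)
    (hsx : s ∉ Subgroup.zpowers x) (hcard : Nat.card G = 2 * n) :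
    Nonempty (G ≃* DihedralGroup n) := by
  have : NeZero n := ⟨hn.ne'⟩
  let e : ZMod n → G := fun i => x ^ (i.val : ℤ)
  have ecast : ∀ a : ℤ, e (a : ZMod n) = x ^ a := by
    intro a
    show x ^ (((a : ZMod n).val : ℕ) : ℤ) = x ^ a
    rw [ZMod.val_intCast, zpow_eq_zpow_iff_modEq, hx]
    exact Int.mod_modEq a _
  have eadd : ∀ i j, e (i + j) = e i * e j := by
    intro i j
    obtain ⟨a, rfl⟩ := ZMod.intCast_surjective i
    obtain ⟨b, rfl⟩ := ZMod.intCast_surjective j
    rw [← Int.cast_add, ecast, ecast, ecast, zpow_add]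
  have esub : ∀ i j, e (i - j) = (e j)⁻¹ * e i := by
    intro i j
    rw [eq_inv_mul_iff_mul_eq, ← eadd, add_sub_cancel]
  have eswap : ∀ i, e i * s = s * (e i)⁻¹ := by
    intro i
    have hsinv : s⁻¹ = s := inv_eq_of_mul_eq_one_right hs
    have h1 : s * e i * s⁻¹ = (e i)⁻¹ := by
      show s * x ^ (i.val : ℤ) * s⁻¹ = (x ^ (i.val : ℤ))⁻¹
      rw [← conj_zpow, hconj, inv_zpow]
    calc e i * s = s * (s * e i * s) := by simp only [← mul_assoc, hs, one_mul]
      _ = s * (e i)⁻¹ := by rw [← h1, hsinv]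
  let f : DihedralGroup n → G
    | DihedralGroup.r i => e i
    | DihedralGroup.sr i => s * e i
  have fmul : ∀ a b, f (a * b) = f a * f b := by
    rintro (i | i) (j | j)
    · simp only [DihedralGroup.r_mul_r, f, eadd]
    · simp only [DihedralGroup.r_mul_sr, f, esub]
      rw [← mul_assoc, ← mul_assoc, eswap]
    · simp only [DihedralGroup.sr_mul_r, f, eadd, mul_assoc]
    · simp only [DihedralGroup.sr_mul_sr, f, esub]
      rw [← mul_assoc, mul_assoc s (e i) s, eswap, ← mul_assoc, hs, one_mul]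
  have einj : Function.Injective e := by
    intro i j h
    have := zpow_eq_zpow_iff_modEq.1 h
    rw [hx] at this
    have h' := (ZMod.intCast_eq_intCast_iff _ _ _).2 this
    simpa using h'
  have hnot : ∀ i j, e i ≠ s * e j := fun i j h => hsx (by
    rw [show s = e i * (e j)⁻¹ by rw [h, mul_inv_cancel_right]]
    exact mul_mem (Subgroup.zpow_mem_zpowers x _) (inv_mem (Subgroup.zpow_mem_zpowers x _)))
  have finj : Function.Injective (MonoidHom.mk' f fmul) := by
    rintro (i | i) (j | j) h <;> simp only [MonoidHom.mk'_apply, f] at h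
    · rw [einj h]
    · exact absurd h (hnot i j)
    · exact absurd h.symm (hnot j i)
    · rw [einj (mul_left_cancel h)]
  exact ⟨(MulEquiv.ofBijective (MonoidHom.mk' f fmul)
    ((Nat.bijective_iff_injective_and_card _).2 ⟨finj, by
      rw [DihedralGroup.nat_card, hcard]⟩)).symm⟩

variable {F : Type*} [Field F]

/-- `Cfsg.isometryGroup` for a function isometric to a quadratic form. -/
noncomputable def isometryGroupEquiv {ι : Type} [Fintype ι] [DecidableEq ι] {Qf : (ι → F) → F}
    {W : Type*} [AddCommGroup W] [Module F W] (Q : QuadraticForm F W) (e : (ι → F) ≃ₗ[F] W)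
    (h : ∀ v, Qf v = Q (e v)) : Cfsg.isometryGroup F Qf ≃* orth Q :=
  (MulEquiv.subgroupCongr (congrArg (Cfsg.isometryGroup F)
    (show Qf = ⇑(Q.comp (e : (ι → F) →ₗ[F] W)) from funext fun v => by simp [h]))).trans
    ((isomEquiv _).trans (orthCongr e fun v => rfl))

theorem quadFormMinus_zero_eq (a b : F) (v : (Fin 0 ⊕ Fin 0) ⊕ Fin 2 → F) :
    Cfsg.quadFormMinus 0 F a b v =
      binForm a b (LinearEquiv.funCongrLeft F F (dropEmpty (Fin 2)).symm v) := by
  rw [quadFormMinus_eq, ← splitForm_zero]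
  rfl

theorem orth_binForm_dihedral [Finite F] {a b : F} (h : BinAniso a b) :
    Nonempty (orth (binForm a b) ≃* DihedralGroup (Nat.card F + 1)) := by
  have : Fact (∀ r : F, r ^ 2 ≠ -b + a * r) := ⟨fun r hr => by
    exact one_ne_zero (α := F) (neg_eq_zero.1 (h r (-1) (by linear_combination hr)).2)⟩
  let K := QuadraticAlgebra F (-b) a
  let vec : (Fin 2 → F) ≃ₗ[F] K :=
    { toFun := fun v => ⟨v 0, v 1⟩
      invFun := fun z => ![z.re, z.im]
      left_inv := fun v => by funext i; fin_cases i <;> rfl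
      right_inv := fun z => rfl
      map_add' := fun v w => rfl
      map_smul' := fun c v => rfl }
  have vre : ∀ v, (vec v).re = v 0 := fun v => rfl
  have vim : ∀ v, (vec v).im = v 1 := fun v => rfl
  have hsre : ∀ z : K, (star z).re = z.re + a * z.im := fun z => rfl
  have hsim : ∀ z : K, (star z).im = -z.im := fun z => rfl
  have vsymm : ∀ z : K, vec.symm z = ![z.re, z.im] := fun z => rfl
  have hnorm : ∀ v, QuadraticAlgebra.norm (vec v) = binForm a b v := fun v => by
    simp [binForm_apply, QuadraticAlgebra.norm_def, vre, vim]; ring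
  let N : Subgroup Kˣ := (Units.map (QuadraticAlgebra.norm (R := F) (a := -b) (b := a))).ker
  have hN : ∀ n : N, QuadraticAlgebra.norm ((n.1 : Kˣ) : K) = 1 := fun n => by
    simpa using congrArg Units.val (MonoidHom.mem_ker.1 n.2)
  have hmulnorm : ∀ (n : N) (v : Fin 2 → F),
      binForm a b (vec.symm (((n.1 : Kˣ) : K) * vec v)) = binForm a b v := fun n v => by
    rw [← hnorm, ← hnorm, vec.apply_symm_apply, map_mul, hN, one_mul]
  let mulEq : N → ((Fin 2 → F) ≃ₗ[F] (Fin 2 → F)) := fun n =>
    { toFun := fun v => vec.symm (((n.1 : Kˣ) : K) * vec v)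
      invFun := fun v => vec.symm (((n.1⁻¹ : Kˣ) : K) * vec v)
      left_inv := fun v => by simp [← mul_assoc]
      right_inv := fun v => by simp [← mul_assoc]
      map_add' := fun v w => by simp [mul_add]
      map_smul' := fun c v => by simp }
  let f : N →* orth (binForm a b) :=
    MonoidHom.mk' (fun n => ⟨mulEq n, hmulnorm n⟩) fun m n => Subtype.ext (LinearEquiv.ext fun v => by
      show vec.symm ((((m * n : N) : Kˣ) : K) * vec v) =
        vec.symm (((m.1 : Kˣ) : K) * vec (vec.symm (((n.1 : Kˣ) : K) * vec v)))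
      simp [mul_assoc])
  have hfapp : ∀ n v, (f n).1 v = vec.symm (((n.1 : Kˣ) : K) * vec v) := fun n v => rfl
  have hf : Function.Injective f := fun m n hmn => by
    have := congrArg (fun g : orth (binForm a b) => vec (g.1 (vec.symm 1))) hmn
    simp only [hfapp, LinearEquiv.apply_symm_apply, mul_one] at this
    exact Subtype.ext (Units.ext this)
  have hK : Finite K := Finite.of_equiv _ vec.toEquiv
  have hcardN : Nat.card N = Nat.card F + 1 := by
    rw [← card_binForm_eq_one h]
    exact Nat.card_congr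
      { toFun := fun n => ⟨vec.symm ((n.1 : Kˣ) : K), by rw [← hnorm, vec.apply_symm_apply, hN]⟩
        invFun := fun v => ⟨Units.mk0 (vec v.1) (fun h0 => by
            have hv := v.2
            rw [← hnorm, h0, QuadraticAlgebra.norm_zero] at hv
            exact zero_ne_one hv),
          MonoidHom.mem_ker.2 (Units.ext (by simpa using (hnorm v.1).trans v.2))⟩
        left_inv := fun n => Subtype.ext (Units.ext (vec.apply_symm_apply _))
        right_inv := fun v => Subtype.ext (vec.symm_apply_apply _) }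
  obtain ⟨g, hg⟩ := IsCyclic.exists_ofOrder_eq_natCard (α := N)
  let σ : orth (binForm a b) :=
    ⟨binConj a, fun v => by simp [binConj_apply, binForm_apply]; ring⟩
  have hfin := finite_orth (binForm a b)
  have hσ1 : ∀ v, σ.1 v = vec.symm (star (vec v)) := fun v => by
    funext i
    rw [vsymm]
    fin_cases i <;> simp [σ, binConj_apply, hsre, hsim, vre, vim]
  refine nonempty_mulEquiv_dihedralGroup (x := f g) (s := σ) (Nat.succ_pos _)
    (by rw [orderOf_injective f hf, hg, hcardN]) ?_ ?_ ?_ (by rw [card_orth_binForm h])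
  · refine Subtype.ext (LinearEquiv.ext fun v => ?_)
    show σ.1 (σ.1 v) = v
    rw [hσ1, hσ1, vec.apply_symm_apply, star_star, vec.symm_apply_apply]
  · have hinv : ∀ n : N, star ((n.1 : Kˣ) : K) = ((n⁻¹ : N).1 : Kˣ) := fun n => by
      have h1 : ((n.1 : Kˣ) : K) * star ((n.1 : Kˣ) : K) = 1 := by
        rw [← QuadraticAlgebra.algebraMap_norm_eq_mul_star, hN, map_one]
      rw [Subgroup.coe_inv, Units.val_inv_eq_inv_val]
      exact eq_inv_of_mul_eq_one_right h1
    rw [mul_inv_eq_iff_eq_mul, ← map_inv]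
    refine Subtype.ext (LinearEquiv.ext fun v => ?_)
    show σ.1 ((f g).1 v) = (f g⁻¹).1 (σ.1 v)
    rw [hσ1, hσ1, hfapp, hfapp, vec.apply_symm_apply, vec.apply_symm_apply, star_mul', hinv]
  · rintro ⟨k, hk⟩
    have hk' : σ = f (g ^ k) := by rw [map_zpow]; exact hk.symm
    have h1 : ∀ v, star (vec v) = (((g ^ k).1 : Kˣ) : K) * vec v := fun v => by
      have := congrArg (fun u : orth (binForm a b) => vec (u.1 v)) hk'
      simp only [hσ1, hfapp, vec.apply_symm_apply] at this
      exact this
    have hk1 : (((g ^ k).1 : Kˣ) : K) = 1 := by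
      have := h1 (vec.symm 1)
      rw [vec.apply_symm_apply, star_one, mul_one] at this
      exact this.symm
    have hd := binAniso_disc h
    have h2 := h1 ![0, 1]
    rw [hk1, one_mul] at h2
    have e1 := congrArg (fun z : K => z.re) h2
    have e2 := congrArg (fun z : K => z.im) h2
    simp [hsre, hsim, vre, vim] at e1 e2
    exact hd (by subst e1; linear_combination (-2 * b) * e2)

theorem isometry_plus_one_dihedral [Finite F] :
    Nonempty (Cfsg.isometryGroup F (Cfsg.quadFormPlus 1 F) ≃* DihedralGroup (Nat.card F - 1)) := by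
  classical
  have hQ : ∀ v : Fin 1 ⊕ Fin 1 → F, Cfsg.quadFormPlus 1 F v = v (.inl 0) * v (.inr 0) := fun v => by
    simp [Cfsg.quadFormPlus]
  let d : Fˣ → Matrix (Fin 1 ⊕ Fin 1) (Fin 1 ⊕ Fin 1) F := fun t =>
    Matrix.diagonal (Sum.elim (fun _ => (t : F)) (fun _ => ((t⁻¹ : Fˣ) : F)))
  have hd : ∀ s t, d (s * t) = d s * d t := fun s t => by
    simp only [d, Matrix.diagonal_mul_diagonal]
    congr 1
    funext i
    rcases i with i | i <;> simp [mul_comm]
  let u : Fˣ →* Matrix.GeneralLinearGroup (Fin 1 ⊕ Fin 1) F :=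
    MonoidHom.toHomUnits (MonoidHom.mk ⟨d, by
      show Matrix.diagonal _ = 1
      rw [← Matrix.diagonal_one]
      congr 1
      funext i
      rcases i with i | i <;> simp⟩ hd)
  have hu : ∀ t, (u t).1 = d t := fun t => rfl
  have humem : ∀ t, u t ∈ Cfsg.isometryGroup F (Cfsg.quadFormPlus 1 F) := fun t v w => by
    show Cfsg.quadFormPlus 1 F ((u t).1.mulVec v) = Cfsg.quadFormPlus 1 F v
    rw [hQ, hQ, hu]
    simp [d, Matrix.mulVec_diagonal]
    field_simp
  let J : Matrix (Fin 1 ⊕ Fin 1) (Fin 1 ⊕ Fin 1) F := Matrix.fromBlocks 0 1 1 0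
  have hJ : J * J = 1 := by simp [J, Matrix.fromBlocks_multiply, Matrix.fromBlocks_one]
  let s : Matrix.GeneralLinearGroup (Fin 1 ⊕ Fin 1) F := ⟨J, J, hJ, hJ⟩
  have hsmem : s ∈ Cfsg.isometryGroup F (Cfsg.quadFormPlus 1 F) := fun v w => by
    show Cfsg.quadFormPlus 1 F (J.mulVec v) = Cfsg.quadFormPlus 1 F v
    rw [hQ, hQ]
    simp [J, Matrix.fromBlocks_mulVec, mul_comm]
  obtain ⟨g, hg⟩ := IsCyclic.exists_ofOrder_eq_natCard (α := Fˣ)
  have hinj : Function.Injective u := fun a b hab => Units.ext (by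
    simpa [hu, d] using congrArg (fun m : Matrix.GeneralLinearGroup (Fin 1 ⊕ Fin 1) F => m.1 (.inl 0) (.inl 0)) hab)
  refine nonempty_mulEquiv_dihedralGroup
    (x := (⟨u g, humem g⟩ : Cfsg.isometryGroup F (Cfsg.quadFormPlus 1 F))) (s := ⟨s, hsmem⟩)
    (by have := Finite.one_lt_card (α := F); omega) ?_ (Subtype.ext (Units.ext hJ)) ?_ ?_ ?_
  · rw [← Subgroup.orderOf_coe, orderOf_injective u hinj, hg, card_units_field]
  · rw [mul_inv_eq_iff_eq_mul]
    refine Subtype.ext ?_
    show s * u g = (u g)⁻¹ * s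
    rw [← map_inv]
    refine Units.ext ?_
    show J * (u g).1 = (u g⁻¹).1 * J
    rw [hu, hu]
    ext i j
    rcases i with i | i <;> rcases j with j | j <;>
      simp [J, d, Matrix.mul_diagonal, Matrix.diagonal_mul, mul_comm]
  · intro hmem
    obtain ⟨k, hk⟩ := hmem
    have h1 : u (g ^ k) = s := by
      rw [map_zpow]; simpa using congrArg Subtype.val hk
    have := congrArg (fun m : Matrix.GeneralLinearGroup (Fin 1 ⊕ Fin 1) F => m.1 (.inl 0) (.inl 0)) h1
    change (u (g ^ k)).1 (.inl 0) (.inl 0) = J (.inl 0) (.inl 0) at this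
    rw [hu] at this
    simp [d, J] at this
    exact zpow_ne_zero k g.ne_zero this
  · have := card_isometry_plus (F := F) 0
    simpa using this

end CfsgLib.Classical
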