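import Mathlib

/-!
Transvection generation and perfectness of `SL`.
-/

set_option autoImplicit false

namespace CfsgLib.Classical

open Matrix Matrix.SpecialLinearGroup
open scoped commutatorElement

variable {ι : Type*} [Fintype ι] [DecidableEq ι] {F : Type*} [Field F]

/-- The set of elementary transvections in `SL`. -/
def elemTransvections (ι F : Type*) [Fintype ι] [DecidableEq ι] [Field F] :
    Set (Matrix.SpecialLinearGroup ι F) :=
  {g | ∃ (i j : ι) (h : i ≠ j) (c : F), g = transvection h c}

theorem transvection_mulVec {i j : ι} (hij : i ≠ j) (c : F) (v : ι → F) :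
    (transvection hij c : Matrix.SpecialLinearGroup ι F).1 *ᵥ v =
      v + Pi.single i (c * v j) := by
  simp [transvection_coe, add_mulVec, Matrix.single_mulVec_eq, ← Pi.single_smul]

theorem diag2n_decompose {i j : ι} (hij : i ≠ j) (a : F) (ha : a ≠ 0) :
    diag2n hij a ha = transvection hij a * transvection hij.symm (-a⁻¹) * transvection hij a *
      transvection hij (-1) * transvection hij.symm 1 * transvection hij (-1) := by
  refine Subtype.ext (Matrix.ext_iff_mulVec.2 fun v => ?_)
  simp only [coe_mul, ← Matrix.mulVec_mulVec, transvection_mulVec]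
  funext k
  rcases eq_or_ne k i with rfl | hki
  · simp [diag2n_coe, mulVec_diagonal, hij, hij.symm]
    field_simp
    ring
  rcases eq_or_ne k j with rfl | hkj
  · simp [diag2n_coe, mulVec_diagonal, hij, hij.symm]
    field_simp
    ring
  · simp [diag2n_coe, mulVec_diagonal, hki, hkj]

theorem closure_elemTransvections :
    Subgroup.closure (elemTransvections ι F) = ⊤ := by
  rcases subsingleton_or_nontrivial ι with h | h
  · exact Subsingleton.elim _ _
  rw [eq_top_iff]
  intro M _
  refine diagonal_transvection_induction' (· ∈ Subgroup.closure (elemTransvections ι F)) M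
    (fun i j hij c hc => ?_)
    (fun i j hij a => Subgroup.subset_closure ⟨i, j, hij, a, rfl⟩)
    (fun _ _ => mul_mem)
  rw [diag2n_decompose hij c hc]
  repeat' apply mul_mem
  all_goals exact Subgroup.subset_closure ⟨_, _, _, _, rfl⟩

/-- A subgroup of `SL` containing every elementary transvection is everything. -/
theorem eq_top_of_transvection_mem (H : Subgroup (Matrix.SpecialLinearGroup ι F))
    (h : ∀ (i j : ι) (hij : i ≠ j) (c : F), transvection hij c ∈ H) : H = ⊤ := by
  rw [eq_top_iff, ← closure_elemTransvections, Subgroup.closure_le]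
  rintro g ⟨i, j, hij, c, rfl⟩
  exact h i j hij c

theorem hom_ext_transvection {M : Type*} [Monoid M] {f g : Matrix.SpecialLinearGroup ι F →* M}
    (h : ∀ (i j : ι) (hij : i ≠ j) (c : F), f (transvection hij c) = g (transvection hij c)) :
    f = g :=
  MonoidHom.eq_of_eqOn_top fun x _ => by
    have : MonoidHom.eqLocus f g = ⊤ := eq_top_of_transvection_mem _ h
    exact (this ▸ Subgroup.mem_top x : x ∈ MonoidHom.eqLocus f g)

theorem commutator_transvection {i j k : ι} (hij : i ≠ j) (hik : i ≠ k) (hkj : k ≠ j) (a b : F) :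
    ⁅(transvection hik a : Matrix.SpecialLinearGroup ι F), transvection hkj b⁆ =
      transvection hij (a * b) := by
  rw [commutatorElement_def, transvection_inv, transvection_inv]
  refine Subtype.ext (Matrix.ext_iff_mulVec.2 fun v => ?_)
  simp only [coe_mul, ← Matrix.mulVec_mulVec, transvection_mulVec]
  funext m
  rcases eq_or_ne m i with rfl | hmi
  · simp [hij, hik, hij.symm, hik.symm, hkj, hkj.symm]
    ring
  rcases eq_or_ne m k with rfl | hmk
  · simp [hij, hik, hij.symm, hik.symm, hkj, hkj.symm]
  · simp [hmi, hmk]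

theorem SL_commutator_eq_top (h : 3 ≤ Fintype.card ι) :
    commutator (Matrix.SpecialLinearGroup ι F) = ⊤ := by
  refine eq_top_of_transvection_mem _ fun i j hij c => ?_
  obtain ⟨k, -, hk⟩ : ∃ k ∈ (Finset.univ : Finset ι), k ∉ ({i, j} : Finset ι) := by
    refine Finset.exists_mem_notMem_of_card_lt_card ?_
    calc ({i, j} : Finset ι).card ≤ 2 := Finset.card_le_two
      _ < _ := by rw [Finset.card_univ]; omega
  simp only [Finset.mem_insert, Finset.mem_singleton, not_or] at hk
  rw [← mul_one c, ← commutator_transvection hij (Ne.symm hk.1) hk.2 c 1]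
  exact Subgroup.commutator_mem_commutator (Subgroup.mem_top _) (Subgroup.mem_top _)

theorem exists_sq_ne_one [Finite F] (hF : 4 ≤ Nat.card F) : ∃ a : F, a ≠ 0 ∧ a ^ 2 ≠ 1 := by
  obtain ⟨x, hx⟩ : IsCyclic Fˣ := inferInstance
  refine ⟨x, Units.ne_zero x, fun h => ?_⟩
  have h1 : orderOf x ≤ 2 := orderOf_le_of_pow_eq_one zero_lt_two (Units.ext <| by simpa using h)
  rw [orderOf_eq_card_of_forall_mem_zpowers hx] at h1
  rw [Nat.card_eq_card_units_add_one F] at hF
  omega

/-- `SL_n` is perfect for `n ≥ 3`, and for `n = 2` when `q ≥ 4`. -/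
theorem SL_fin_commutator_eq_top [Finite F] (n : ℕ) (hn : 2 ≤ n) (h : n = 2 → 4 ≤ Nat.card F) :
    commutator (Matrix.SpecialLinearGroup (Fin n) F) = ⊤ := by
  rcases eq_or_lt_of_le hn with rfl | hn
  · obtain ⟨a, ha, ha2⟩ := exists_sq_ne_one (h rfl)
    exact Matrix.SL2.commutator_eq_top ha ha2
  · exact SL_commutator_eq_top (by simp; omega)

theorem PSL_commutator_eq_top_of_SL
    (h : commutator (Matrix.SpecialLinearGroup ι F) = ⊤) :
    commutator (Matrix.ProjectiveSpecialLinearGroup ι F) = ⊤ := by
  have : Group.IsPerfect (Matrix.SpecialLinearGroup ι F) := ⟨h⟩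
  have : Group.IsPerfect (Matrix.ProjectiveSpecialLinearGroup ι F) := inferInstance
  exact this.commutator_eq_top

end CfsgLib.Classical
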