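import Cfsg.Agent.Lib.Classical.Order
import Cfsg.Agent.Lib.Classical.SLGen

/-!
Unitriangular and triangular subgroups, Sylow subgroups in the defining characteristic for `GL₂`
and `SL₂`.
-/

set_option autoImplicit false

namespace CfsgLib.Classical

open Matrix Matrix.SpecialLinearGroup

variable {F : Type*} [Field F]

/-- The upper unitriangular element of `SL₂`. -/
abbrev uSL (t : F) : Matrix.SpecialLinearGroup (Fin 2) F := transvection zero_ne_one t

/-- The lower unitriangular element of `SL₂`. -/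
abbrev lSL (t : F) : Matrix.SpecialLinearGroup (Fin 2) F := transvection one_ne_zero t

theorem uSL_coe (t : F) : (uSL t).1 = !![1, t; 0, 1] := by
  ext i j; fin_cases i <;> fin_cases j <;> simp [uSL, transvection_coe]

theorem lSL_coe (t : F) : (lSL t).1 = !![1, 0; t, 1] := by
  ext i j; fin_cases i <;> fin_cases j <;> simp [lSL, transvection_coe]

/-- `t ↦ (1 t; 0 1)` as a homomorphism. -/
def uHom : Multiplicative F →* Matrix.SpecialLinearGroup (Fin 2) F where
  toFun t := uSL t.toAdd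
  map_one' := transvection_coeff_zero _
  map_mul' a b := transvection_add _ _ _

/-- The upper unitriangular subgroup of `SL₂`. -/
def uSubgroup (F : Type*) [Field F] : Subgroup (Matrix.SpecialLinearGroup (Fin 2) F) :=
  (uHom (F := F)).range

/-- The upper unitriangular subgroup of `GL₂`. -/
def uSubgroupGL (F : Type*) [Field F] : Subgroup (GL (Fin 2) F) :=
  (uSubgroup F).map toGL

theorem mem_uSubgroup_iff {g : Matrix.SpecialLinearGroup (Fin 2) F} :
    g ∈ uSubgroup F ↔ ∃ t, uSL t = g :=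
  ⟨fun ⟨t, h⟩ => ⟨t.toAdd, h⟩, fun ⟨t, h⟩ => ⟨Multiplicative.ofAdd t, h⟩⟩

theorem mem_uSubgroupGL_iff {g : GL (Fin 2) F} :
    g ∈ uSubgroupGL F ↔ ∃ t, toGL (uSL t) = g := by
  simp only [uSubgroupGL, Subgroup.mem_map, mem_uSubgroup_iff]
  exact ⟨fun ⟨x, ⟨t, ht⟩, hx⟩ => ⟨t, ht ▸ hx⟩, fun ⟨t, h⟩ => ⟨_, ⟨t, rfl⟩, h⟩⟩

theorem uHom_injective : Function.Injective (uHom (F := F)) := fun a b h => by
  have := congrArg (fun g : Matrix.SpecialLinearGroup (Fin 2) F => g.1 0 1) h
  simpa [uHom, uSL_coe] using this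

theorem card_uSubgroup : Nat.card (uSubgroup F) = Nat.card F := by
  rw [uSubgroup, ← Nat.card_congr (MonoidHom.ofInjective uHom_injective).toEquiv,
    Nat.card_congr Multiplicative.toAdd]

theorem card_uSubgroupGL : Nat.card (uSubgroupGL F) = Nat.card F := by
  rw [uSubgroupGL, ← Nat.card_congr (Subgroup.equivMapOfInjective _ _ toGL_injective).toEquiv,
    card_uSubgroup]

/-- A conjugate of a non-trivial upper unitriangular element is upper unitriangular only for
triangular conjugators. -/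
theorem apply_one_zero_of_mul_eq {g : Matrix (Fin 2) (Fin 2) F} {s t : F} (hs : s ≠ 0)
    (h : g * (uSL s).1 = (uSL t).1 * g) : g 1 0 = 0 := by
  have := congrFun (congrFun h 1) 1
  simp [uSL_coe, Matrix.mul_apply, Fin.sum_univ_two] at this
  tauto

theorem triangular_mul_uSL {g : Matrix (Fin 2) (Fin 2) F} (h10 : g 1 0 = 0) (h11 : g 1 1 ≠ 0)
    (s : F) : g * (uSL s).1 = (uSL (g 0 0 * s / g 1 1)).1 * g := by
  ext i j
  fin_cases i <;> fin_cases j <;> simp [uSL_coe, Matrix.mul_apply, Fin.sum_univ_two, h10]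
  field_simp
  ring

theorem gl_two_diag_ne_zero {g : GL (Fin 2) F} (h10 : g.1 1 0 = 0) :
    g.1 0 0 ≠ 0 ∧ g.1 1 1 ≠ 0 := by
  have := g.det_ne_zero
  rw [Matrix.det_fin_two, h10, mul_zero, sub_zero] at this
  exact mul_ne_zero_iff.1 this

theorem mem_normalizer_uSubgroupGL_iff {g : GL (Fin 2) F} :
    g ∈ Subgroup.normalizer (uSubgroupGL F : Set (GL (Fin 2) F)) ↔ g.1 1 0 = 0 := by
  have conj_mem : ∀ k : GL (Fin 2) F, k.1 1 0 = 0 → ∀ h ∈ uSubgroupGL F,
      k * h * k⁻¹ ∈ uSubgroupGL F := by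
    intro k hk h hh
    obtain ⟨t, rfl⟩ := mem_uSubgroupGL_iff.1 hh
    refine mem_uSubgroupGL_iff.2 ⟨k.1 0 0 * t / k.1 1 1, ?_⟩
    rw [eq_mul_inv_iff_mul_eq]
    refine Units.ext ?_
    simp only [Units.val_mul, coe_GL_coe_matrix]
    exact (triangular_mul_uSL hk (gl_two_diag_ne_zero hk).2 t).symm
  constructor
  · intro hg
    have h1 := (Subgroup.mem_normalizer_iff.1 hg (toGL (uSL (1 : F)))).1
      (mem_uSubgroupGL_iff.2 ⟨1, rfl⟩)
    obtain ⟨t, ht⟩ := mem_uSubgroupGL_iff.1 h1
    rw [eq_mul_inv_iff_mul_eq] at ht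
    exact apply_one_zero_of_mul_eq one_ne_zero
      (by simpa using (congrArg Units.val ht).symm)
  · intro hg
    refine Subgroup.mem_normalizer_iff.2 fun h => ⟨conj_mem g hg h, fun hh => ?_⟩
    have hi : (g⁻¹).1 1 0 = 0 := by
      rw [GeneralLinearGroup.coe_inv, Matrix.inv_def, Matrix.smul_apply, Matrix.adjugate_fin_two]
      simp [hg]
    have := conj_mem g⁻¹ hi _ hh
    simpa [mul_assoc] using this

/-- Triangular invertible matrices are parametrised by `Fˣ × Fˣ × F`. -/
def triangularEquiv : {g : GL (Fin 2) F // g.1 1 0 = 0} ≃ Fˣ × Fˣ × F where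
  toFun g := (Units.mk0 (g.1.1 0 0) (gl_two_diag_ne_zero g.2).1,
    Units.mk0 (g.1.1 1 1) (gl_two_diag_ne_zero g.2).2, g.1.1 0 1)
  invFun p := ⟨GeneralLinearGroup.mkOfDetNeZero !![(p.1 : F), p.2.2; 0, (p.2.1 : F)]
    (by simp [Matrix.det_fin_two_of, mul_ne_zero]), rfl⟩
  left_inv := by
    rintro ⟨g, hg⟩
    refine Subtype.ext (Units.ext ?_)
    ext i j
    fin_cases i <;> fin_cases j <;> simp [GeneralLinearGroup.val_mkOfDetNeZero, hg]
  right_inv := by
    rintro ⟨a, d, b⟩
    simp [GeneralLinearGroup.val_mkOfDetNeZero]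

theorem card_normalizer_uSubgroupGL [Finite F] :
    Nat.card (Subgroup.normalizer (uSubgroupGL F : Set (GL (Fin 2) F))) =
      Nat.card F * (Nat.card F - 1) ^ 2 := by
  rw [Nat.card_congr ((Equiv.subtypeEquivRight fun g => mem_normalizer_uSubgroupGL_iff).trans
    triangularEquiv), Nat.card_prod, Nat.card_prod, card_units_field]
  ring

section Sylow

variable [Finite F] (p : ℕ) [Fact p.Prime] [CharP F p]

theorem card_eq_charPow : ∃ k : ℕ, 0 < k ∧ Nat.card F = p ^ k := by
  have := Fintype.ofFinite F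
  obtain ⟨k, -, hk⟩ := FiniteField.card F p
  exact ⟨k, k.pos, by rw [Nat.card_eq_fintype_card, hk]⟩

theorem not_dvd_sq_sub_one : ¬ p ∣ Nat.card F ^ 2 - 1 := by
  obtain ⟨k, hk, he⟩ := card_eq_charPow (F := F) p
  intro h
  have h0 : p ∣ Nat.card F ^ 2 := by rw [he, ← pow_mul]; exact dvd_pow_self p (by omega)
  have h1 : 1 ≤ Nat.card F ^ 2 := Nat.one_le_pow _ _ Nat.card_pos
  exact (Fact.out : p.Prime).one_lt.ne'
    (Nat.dvd_one.1 ((Nat.dvd_sub h0 h).trans (by rw [Nat.sub_sub_self h1])))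

theorem isSylow_uSubgroup :
    Nat.card (uSubgroup F) =
      p ^ (Nat.card (Matrix.SpecialLinearGroup (Fin 2) F)).factorization p := by
  obtain ⟨k, hk, he⟩ := card_eq_charPow (F := F) p
  have hne : Nat.card F ^ 2 - 1 ≠ 0 := fun h => not_dvd_sq_sub_one (F := F) p (h ▸ dvd_zero p)
  rw [card_uSubgroup, card_SL_two, Nat.factorization_mul Nat.card_pos.ne' hne, Finsupp.add_apply,
    Nat.factorization_eq_zero_of_not_dvd (not_dvd_sq_sub_one (F := F) p), add_zero, he,
    (Fact.out : p.Prime).factorization_pow, Finsupp.single_eq_same]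

theorem isSylow_uSubgroupGL :
    Nat.card (uSubgroupGL F) = p ^ (Nat.card (GL (Fin 2) F)).factorization p := by
  obtain ⟨k, hk, he⟩ := card_eq_charPow (F := F) p
  have hnd : ¬ p ∣ Nat.card F - 1 := by
    intro h
    refine not_dvd_sq_sub_one (F := F) p (h.trans ⟨Nat.card F + 1, ?_⟩)
    rw [mul_comm, ← Nat.sq_sub_sq]
  have h1 : 1 < Nat.card F := Finite.one_lt_card
  rw [card_GL_two, ← card_SL_two, Nat.factorization_mul (by omega) Nat.card_pos.ne',
    Finsupp.add_apply, Nat.factorization_eq_zero_of_not_dvd hnd, zero_add,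
    ← isSylow_uSubgroup (F := F) p, card_uSubgroupGL, card_uSubgroup]

/-- The upper unitriangular Sylow subgroup of `SL₂`. -/
noncomputable def uSylow : Sylow p (Matrix.SpecialLinearGroup (Fin 2) F) :=
  Sylow.ofCard (uSubgroup F) (isSylow_uSubgroup p)

/-- The upper unitriangular Sylow subgroup of `GL₂`. -/
noncomputable def uSylowGL : Sylow p (GL (Fin 2) F) :=
  Sylow.ofCard (uSubgroupGL F) (isSylow_uSubgroupGL p)

theorem sylow_card_eq_index {G : Type*} [Group G] [Finite G] (P : Sylow p G) :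
    Nat.card (Sylow p G) = (Subgroup.normalizer ((P : Subgroup G) : Set G)).index :=
  P.card_eq_index_normalizer

theorem sylow_smul_eq_self {G : Type*} [Group G] {P : Sylow p G} {g : G}
    (h : g ∈ Subgroup.normalizer ((P : Subgroup G) : Set G)) : g • P = P :=
  Sylow.smul_eq_iff_mem_normalizer.2 h

theorem mem_sylow_smul {G : Type*} [Group G] {P : Sylow p G} {g x : G} :
    x ∈ (↑(g • P) : Subgroup G) ↔ ∃ u ∈ (P : Subgroup G), g * u * g⁻¹ = x :=
  Subgroup.mem_map

theorem card_normalizer_sylowGL (P : Sylow p (GL (Fin 2) F)) :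
    Nat.card (Subgroup.normalizer ((P : Subgroup (GL (Fin 2) F)) : Set (GL (Fin 2) F))) =
      Nat.card F * (Nat.card F - 1) ^ 2 := by
  have h1 : (Subgroup.normalizer ((P : Subgroup (GL (Fin 2) F)) : Set (GL (Fin 2) F))).index =
      (Subgroup.normalizer (((uSylowGL (F := F) p) : Subgroup (GL (Fin 2) F)) :
        Set (GL (Fin 2) F))).index := by
    rw [← sylow_card_eq_index, ← sylow_card_eq_index]
  have h2 := Subgroup.card_mul_index
    (Subgroup.normalizer ((P : Subgroup (GL (Fin 2) F)) : Set (GL (Fin 2) F)))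
  rw [h1, ← Subgroup.card_mul_index
    (Subgroup.normalizer (((uSylowGL (F := F) p) : Subgroup (GL (Fin 2) F)) :
      Set (GL (Fin 2) F)))] at h2
  rw [← card_normalizer_uSubgroupGL]
  exact Nat.eq_of_mul_eq_mul_right (Nat.pos_of_ne_zero Subgroup.index_ne_zero_of_finite) h2

theorem card_sylowGL : Nat.card (Sylow p (GL (Fin 2) F)) = Nat.card F + 1 := by
  have h := Subgroup.card_mul_index
    (Subgroup.normalizer (((uSylowGL (F := F) p) : Subgroup (GL (Fin 2) F)) :
      Set (GL (Fin 2) F)))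
  rw [← sylow_card_eq_index, card_normalizer_sylowGL, card_GL_two] at h
  have h1 : 1 < Nat.card F := Finite.one_lt_card
  obtain ⟨r, hr⟩ : ∃ r, Nat.card F = r + 2 := ⟨Nat.card F - 2, by omega⟩
  rw [hr] at h ⊢
  rw [show (r + 2) ^ 2 - 1 = (r + 1) * (r + 3) from Nat.sub_eq_of_eq_add (by ring),
    show r + 2 - 1 = r + 1 by omega] at h
  refine Nat.eq_of_mul_eq_mul_left (show 0 < (r + 2) * (r + 1) ^ 2 by positivity) (h.trans ?_)
  ring

theorem sylowGL_inf_eq_bot {P Q : Sylow p (GL (Fin 2) F)} (h : P ≠ Q) :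
    (P : Subgroup (GL (Fin 2) F)) ⊓ (Q : Subgroup (GL (Fin 2) F)) = ⊥ := by
  obtain ⟨g, hg⟩ := MulAction.exists_smul_eq (GL (Fin 2) F) (uSylowGL (F := F) p) P
  obtain ⟨k, hk⟩ := MulAction.exists_smul_eq (GL (Fin 2) F) (uSylowGL (F := F) p) Q
  by_contra hne
  obtain ⟨x, hx, hx1⟩ := (Subgroup.bot_or_exists_ne_one _).resolve_left hne
  obtain ⟨hxP, hxQ⟩ := Subgroup.mem_inf.1 hx
  rw [← hg] at hxP
  rw [← hk] at hxQ
  rw [Sylow.coe_subgroup_smul, Subgroup.mem_pointwise_smul_iff_inv_smul_mem] at hxP hxQ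
  obtain ⟨s, hs⟩ := mem_uSubgroupGL_iff.1 (show _ ∈ uSubgroupGL F from hxP)
  obtain ⟨t, ht⟩ := mem_uSubgroupGL_iff.1 (show _ ∈ uSubgroupGL F from hxQ)
  simp only [MulAut.smul_def, MulAut.inv_apply, MulAut.conj_symm_apply] at hs ht
  have hs0 : s ≠ 0 := by
    rintro rfl
    simp only [uSL, transvection_coeff_zero, map_one] at hs
    exact hx1 (by simpa [eq_comm, mul_eq_one_iff_eq_inv, inv_mul_eq_iff_eq_mul] using hs)
  have h10 : ((k⁻¹ * g : GL (Fin 2) F)).1 1 0 = 0 := by
    refine apply_one_zero_of_mul_eq (t := t) hs0 ?_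
    have : k⁻¹ * g * toGL (uSL s) = toGL (uSL t) * (k⁻¹ * g) := by rw [hs, ht]; group
    simpa using congrArg Units.val this
  refine h ?_
  rw [← hg, ← hk, ← mul_inv_cancel_left k g, mul_smul,
    sylow_smul_eq_self p (P := uSylowGL (F := F) p) (mem_normalizer_uSubgroupGL_iff.2 h10)]

theorem card_centralizer_sylowGL (P : Sylow p (GL (Fin 2) F)) {a : GL (Fin 2) F} (ha : a ∈ P)
    (ha1 : a ≠ 1) :
    Nat.card (Subgroup.centralizer ({a} : Set (GL (Fin 2) F))) =
      Nat.card F * (Nat.card F - 1) := by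
  obtain ⟨g, hg⟩ := MulAction.exists_smul_eq (GL (Fin 2) F) (uSylowGL (F := F) p) P
  rw [← hg] at ha
  obtain ⟨u, hu, rfl⟩ := (mem_sylow_smul p).1 ha
  obtain ⟨s, rfl⟩ := mem_uSubgroupGL_iff.1 (show u ∈ uSubgroupGL F from hu)
  have hs : s ≠ 0 := by rintro rfl; simp at ha1
  have hkey : ∀ h : GL (Fin 2) F, h * toGL (uSL s) = toGL (uSL s) * h ↔
      h.1 1 0 = 0 ∧ h.1 0 0 = h.1 1 1 := by
    intro h
    rw [Units.ext_iff, Units.val_mul, Units.val_mul, coe_GL_coe_matrix]
    constructor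
    · intro he
      refine ⟨apply_one_zero_of_mul_eq hs he, ?_⟩
      have := congrFun (congrFun he 0) 1
      simp [uSL_coe, Matrix.mul_apply, Fin.sum_univ_two] at this
      exact mul_right_cancel₀ hs (by linear_combination this)
    · rintro ⟨h10, hd⟩
      rw [triangular_mul_uSL h10 (gl_two_diag_ne_zero h10).2 s, hd,
        mul_div_cancel_left₀ _ (gl_two_diag_ne_zero h10).2]
  have hcong : Nat.card (Subgroup.centralizer ({toGL (uSL s)} : Set (GL (Fin 2) F))) =
      Nat.card (Subgroup.centralizer ({g * toGL (uSL s) * g⁻¹} : Set (GL (Fin 2) F))) := by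
    refine Nat.card_congr ((MulAut.conj g).toEquiv.subtypeEquiv fun h => ?_)
    simp [Subgroup.mem_centralizer_singleton_iff, mul_assoc]
    rw [← mul_assoc, ← mul_assoc, mul_left_inj]
  rw [← hcong]
  have : Nat.card (Subgroup.centralizer ({toGL (uSL s)} : Set (GL (Fin 2) F))) =
      Nat.card (Fˣ × F) := by
    refine Nat.card_congr ((Equiv.subtypeEquivRight fun h =>
      (Subgroup.mem_centralizer_singleton_iff)).trans ?_)
    exact ((Equiv.subtypeEquivRight fun h => hkey h).trans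
      { toFun := fun h => (Units.mk0 (h.1.1 0 0) (gl_two_diag_ne_zero h.2.1).1, h.1.1 0 1)
        invFun := fun p => ⟨GeneralLinearGroup.mkOfDetNeZero !![(p.1 : F), p.2; 0, (p.1 : F)]
          (by simp [Matrix.det_fin_two_of, mul_ne_zero]), rfl, rfl⟩
        left_inv := by
          rintro ⟨h, h10, hd⟩
          refine Subtype.ext (Units.ext ?_)
          ext i j
          fin_cases i <;> fin_cases j <;>
            simp [GeneralLinearGroup.val_mkOfDetNeZero, h10, hd]
        right_inv := by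
          rintro ⟨a, b⟩
          simp [GeneralLinearGroup.val_mkOfDetNeZero] })
  rw [this, Nat.card_prod, card_units_field, mul_comm]

theorem sylowSL_sup_eq_top {P Q : Sylow p (Matrix.SpecialLinearGroup (Fin 2) F)} (h : P ≠ Q) :
    (P : Subgroup (Matrix.SpecialLinearGroup (Fin 2) F)) ⊔
      (Q : Subgroup (Matrix.SpecialLinearGroup (Fin 2) F)) = ⊤ := by
  obtain ⟨g, hg⟩ := MulAction.exists_smul_eq (Matrix.SpecialLinearGroup (Fin 2) F)
    (uSylow (F := F) p) P
  obtain ⟨k, hk⟩ := MulAction.exists_smul_eq (Matrix.SpecialLinearGroup (Fin 2) F)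
    (uSylow (F := F) p) Q
  set H := (P : Subgroup (Matrix.SpecialLinearGroup (Fin 2) F)) ⊔
    (Q : Subgroup (Matrix.SpecialLinearGroup (Fin 2) F)) with hH
  have hP : ∀ t, g * uSL t * g⁻¹ ∈ H := fun t => Subgroup.mem_sup_left <| by
    rw [← hg]
    exact (mem_sylow_smul p).2 ⟨_, mem_uSubgroup_iff.2 ⟨t, rfl⟩, rfl⟩
  have hQ : ∀ t, k * uSL t * k⁻¹ ∈ H := fun t => Subgroup.mem_sup_right <| by
    rw [← hk]
    exact (mem_sylow_smul p).2 ⟨_, mem_uSubgroup_iff.2 ⟨t, rfl⟩, rfl⟩
  set r := g⁻¹ * k with hr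
  have hc : r.1 1 0 ≠ 0 := by
    intro h10
    refine h ?_
    rw [← hg, ← hk, ← mul_inv_cancel_left g k, mul_smul, ← hr,
      sylow_smul_eq_self p (G := Matrix.SpecialLinearGroup (Fin 2) F) (g := r) (P := uSylow (F := F) p) ?_]
    refine (Subgroup.mem_normalizer_iff (G := Matrix.SpecialLinearGroup (Fin 2) F)).2 fun y => ?_
    have key := (Subgroup.mem_normalizer_iff (G := GL (Fin 2) F)).1
      ((mem_normalizer_uSubgroupGL_iff (g := toGL r)).2 h10) (toGL y)
    rw [← map_inv, ← map_mul, ← map_mul, uSubgroupGL, Subgroup.mem_map_iff_mem toGL_injective,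
      Subgroup.mem_map_iff_mem toGL_injective] at key
    exact key
  have hK : H.comap (MulAut.conj g).toMonoidHom = ⊤ := by
    refine eq_top_of_transvection_mem _ fun i j hij c => ?_
    have hu : ∀ t, uSL t ∈ H.comap (MulAut.conj g).toMonoidHom := hP
    have hl : ∀ t, r * uSL t * r⁻¹ ∈ H.comap (MulAut.conj g).toMonoidHom := fun t => by
      have := hQ t
      simpa [hr, mul_assoc] using this
    fin_cases i <;> fin_cases j <;> try exact absurd rfl hij
    · exact hu c
    · have key : uSL (-(r.1 0 0) / r.1 1 0) * (r * uSL (-c / r.1 1 0 ^ 2)) =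
          lSL c * (uSL (-(r.1 0 0) / r.1 1 0) * r) := by
        have hdet := r.2
        rw [Matrix.det_fin_two] at hdet
        refine Subtype.ext ?_
        simp only [coe_mul, uSL_coe, lSL_coe]
        ext a b
        fin_cases a <;> fin_cases b <;> simp [Matrix.mul_apply, Fin.sum_univ_two, Matrix.vecMul, dotProduct]
        all_goals try field_simp
        all_goals first | ring1 | linear_combination c * hdet | linear_combination (-c) * hdet |
          linear_combination hdet | linear_combination -hdet | simp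
      have : lSL c = uSL (-(r.1 0 0) / r.1 1 0) * (r * uSL (-c / r.1 1 0 ^ 2) * r⁻¹) *
          (uSL (-(r.1 0 0) / r.1 1 0))⁻¹ := by
        rw [eq_mul_inv_iff_mul_eq, ← mul_assoc, eq_mul_inv_iff_mul_eq, key, mul_assoc]
      rw [show (transvection hij c : Matrix.SpecialLinearGroup (Fin 2) F) = lSL c from rfl, this]
      exact mul_mem (mul_mem (hu _) (hl _)) (inv_mem (hu _))
  rw [eq_top_iff]
  intro x _
  have : (MulAut.conj g).symm x ∈ H.comap (MulAut.conj g).toMonoidHom :=
    hK ▸ Subgroup.mem_top _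
  simpa [mul_assoc] using this

end Sylow

/-- The only involution of `SL₂` in odd characteristic is `-1`. -/
theorem sl2_sq_eq_one (h2 : (2 : F) ≠ 0) {g : Matrix.SpecialLinearGroup (Fin 2) F}
    (hg : g * g = 1) : g.1 = 1 ∨ g.1 = -1 := by
  have hi : g.1 = Matrix.adjugate g.1 := by
    rw [← coe_inv, ← eq_inv_of_mul_eq_one_left hg]
  rw [Matrix.adjugate_fin_two] at hi
  have h00 : g.1 0 0 = g.1 1 1 := by simpa using congrFun (congrFun hi 0) 0
  have h01 : g.1 0 1 = 0 := by
    have : g.1 0 1 = -(g.1 0 1) := by simpa using congrFun (congrFun hi 0) 1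
    exact (mul_eq_zero.1 (by linear_combination this : (2 : F) * g.1 0 1 = 0)).resolve_left h2
  have h10 : g.1 1 0 = 0 := by
    have : g.1 1 0 = -(g.1 1 0) := by simpa using congrFun (congrFun hi 1) 0
    exact (mul_eq_zero.1 (by linear_combination this : (2 : F) * g.1 1 0 = 0)).resolve_left h2
  have hd := g.2
  rw [Matrix.det_fin_two, h01, zero_mul, sub_zero, ← h00, ← pow_two, sq_eq_one_iff] at hd
  rcases hd with hd | hd
  · left; ext i j; fin_cases i <;> fin_cases j <;> simp [h01, h10, hd, ← h00]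
  · right; ext i j; fin_cases i <;> fin_cases j <;> simp [h01, h10, hd, ← h00]

theorem two_ne_zero_of_odd_card [Finite F] (h : Odd (Nat.card F)) : (2 : F) ≠ 0 := by
  intro h2
  have := Fintype.ofFinite F
  have hchar : ringChar F = 2 :=
    CharP.ringChar_of_prime_eq_zero Nat.prime_two (by exact_mod_cast h2)
  have := FiniteField.even_card_iff_char_two.1 hchar
  rw [← Nat.card_eq_fintype_card] at this
  obtain ⟨k, hk⟩ := h
  omega

end CfsgLib.Classical
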