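import Mathlib
import Cfsg.Agent.Lib.Geometry.POmegaStd
import Cfsg.Agent.Lib.Geometry.OmegaMore
import Cfsg.Agent.Lib.Geometry.OmegaMem
import Cfsg.Agent.Lib.Classical.GL2
import Cfsg.Agent.Lib.Classical.PSLSimple

/-! A common frame for the exceptional isomorphisms between small classical groups: a homomorphism
into the isometry group of a quadratic form whose image is the commutator subgroup. -/

set_option autoImplicit false

namespace CfsgLib.Classical

open QuadraticMap CfsgLib.Geometry Matrix

section Omega

variable {F : Type*} [Field F] [Finite F] {ι : Type} [Fintype ι] [DecidableEq ι]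
variable {Q : QuadraticForm F (ι → F)} {H P : Type*} [Group H] [Group P] [Finite H]

/-- If the image of `f` lies in the commutator subgroup and is at least as large, then `POmega` is
the quotient of `H` by its central kernel of `π`. -/
theorem pOmega_equiv_of_hom (f : H →* orth Q) (π : H →* P) (hπ : Function.Surjective π)
    (hZ : Subgroup.center P = ⊥) (hker : f.ker ≤ π.ker) (hπc : π.ker ≤ Subgroup.center H)
    (hle : f.range ≤ commutator (orth Q)) {c : ℕ} (hc : Nat.card f.ker ≤ c)
    (hcard : c * Nat.card (orth Q) ≤ Nat.card H * (commutator (orth Q)).index) :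
    Nonempty (Cfsg.POmega F ⇑Q ≃* P) := by
  have hfin : Finite (orth Q) := Finite.of_equiv _ (isomEquiv Q).toEquiv
  have heq : f.range = commutator (orth Q) := by
    refine Subgroup.eq_of_le_of_card_ge hle ?_
    have h1 : Nat.card H = Nat.card f.range * Nat.card f.ker := by
      rw [Subgroup.card_eq_card_quotient_mul_card_subgroup f.ker,
        Nat.card_congr (QuotientGroup.quotientKerEquivRange f).toEquiv]
    have h2 := (commutator (orth Q)).card_mul_index
    have hk : 0 < Nat.card f.ker := Nat.card_pos
    have hi : 0 < (commutator (orth Q)).index := Nat.pos_of_ne_zero Subgroup.index_ne_zero_of_finite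
    have h3 : Nat.card f.ker * (Nat.card (commutator (orth Q)) * (commutator (orth Q)).index) ≤
        (Nat.card f.range * Nat.card f.ker) * (commutator (orth Q)).index := by
      rw [h2, ← h1]
      exact (Nat.mul_le_mul_right _ hc).trans hcard
    rw [← mul_assoc] at h3
    exact Nat.le_of_mul_le_mul_left (by
      have := Nat.le_of_mul_le_mul_right h3 hi
      rwa [mul_comm (Nat.card f.range)] at this) hk
  set g : H →* commutator (orth Q) :=
    f.codRestrict _ fun h => heq ▸ ⟨h, rfl⟩ with hgdef
  have hg : Function.Surjective g := fun x => by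
    obtain ⟨h, hh⟩ := heq.ge x.2
    exact ⟨h, Subtype.ext hh⟩
  have hgker : ∀ h, g h = 1 → π h = 1 := fun h hh =>
    MonoidHom.mem_ker.1 (hker (MonoidHom.mem_ker.2 (congrArg Subtype.val hh)))
  set ψ : H →* commutator (orth Q) ⧸ Subgroup.center (commutator (orth Q)) :=
    (QuotientGroup.mk' _).comp g with hψdef
  have hψ : ψ.ker = π.ker := by
    ext h
    rw [hψdef, MonoidHom.mem_ker, MonoidHom.comp_apply, QuotientGroup.mk'_apply,
      QuotientGroup.eq_one_iff]
    constructor
    · intro hh
      have hpc : π h ∈ Subgroup.center P := Subgroup.mem_center_iff.2 fun p => by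
        obtain ⟨y, rfl⟩ := hπ p
        have hc : g (y * h * y⁻¹ * h⁻¹) = 1 := by
          rw [map_mul, map_mul, map_mul, map_inv, map_inv,
            Subgroup.mem_center_iff.1 hh (g y)]
          group
        have := hgker _ hc
        rwa [map_mul, map_mul, map_mul, map_inv, map_inv, mul_inv_eq_one, mul_inv_eq_iff_eq_mul]
          at this
      rw [hZ, Subgroup.mem_bot] at hpc
      exact hpc
    · intro hh
      refine Subgroup.mem_center_iff.2 fun x => ?_
      obtain ⟨y, rfl⟩ := hg x
      rw [← map_mul, ← map_mul, Subgroup.mem_center_iff.1 (hπc hh) y]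
  have hψs : Function.Surjective ψ := (QuotientGroup.mk'_surjective _).comp hg
  exact ⟨(pOmegaEquiv Q).trans <|
    ((QuotientGroup.quotientKerEquivOfSurjective ψ hψs).symm.trans
      (QuotientGroup.quotientMulEquivOfEq hψ)).trans
        (QuotientGroup.quotientKerEquivOfSurjective π hπ)⟩

omit [Finite F] [Finite H] in
theorem range_le_commutator_of_perfect (f : H →* orth Q) (hH : commutator H = ⊤) :
    f.range ≤ commutator (orth Q) := by
  rw [MonoidHom.range_eq_map, ← hH, commutator_def, Subgroup.map_commutator, commutator_def]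
  exact Subgroup.commutator_mono le_top le_top

omit [Finite F] in
/-- The matrix isometry group has the order of the orthogonal group. -/
theorem card_orth_eq : Nat.card (orth Q) = Nat.card (Cfsg.isometryGroup F ⇑Q) :=
  (Nat.card_congr (isomEquiv Q).toEquiv).symm

/-- `|O : Ω| = 2·gcd(2, q - 1)`. -/
theorem index_commutator_orth (hQ : (polarBilin Q).Nondegenerate) (hn : 2 ≤ Fintype.card ι)
    (hR : reflGroup Q = orth Q) :
    (commutator (orth Q)).index = 2 * Nat.gcd 2 (Nat.card F - 1) := by
  have := Fintype.ofFinite F
  have hn' : 2 ≤ Module.finrank F (ι → F) := by simpa using hn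
  rcases Nat.even_or_odd (Nat.card F) with he | ho
  · have : CharP F 2 := ringChar.of_eq (FiniteField.even_card_iff_char_two.2
      (Nat.even_iff.1 (by rwa [Nat.card_eq_fintype_card] at he)))
    rw [gcd_two_card_sub_one_of_even he, index_commutator_orth_even hQ hn' hR]
  · rw [gcd_two_card_sub_one_of_odd ho,
      index_commutator_orth_odd hQ hn' (two_ne_zero_of_odd_card ho) hR]

end Omega

section Center

/-- A simple image of a perfect group has trivial centre. -/
theorem center_eq_bot_of_perfect {G : Type*} [Group G] [IsSimpleGroup G]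
    (hG : commutator G = ⊤) : Subgroup.center G = ⊥ := by
  refine (Subgroup.Normal.eq_bot_or_eq_top inferInstance).resolve_right fun h => ?_
  have hcomm : commutator G = ⊥ := by
    rw [commutator_def, Subgroup.commutator_eq_bot_iff_le_centralizer]
    intro x _ y _
    exact (Subgroup.mem_center_iff.1 (h ▸ Subgroup.mem_top x) y)
  exact absurd (hG.symm.trans hcomm) top_ne_bot

/-- A simple quotient of a perfect group has trivial centre. -/
theorem center_quotient_eq_bot {G : Type*} [Group G] (hG : commutator G = ⊤) (N : Subgroup G)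
    [N.Normal] [IsSimpleGroup (G ⧸ N)] : Subgroup.center (G ⧸ N) = ⊥ := by
  refine center_eq_bot_of_perfect ?_
  have h := congrArg (Subgroup.map (QuotientGroup.mk' N)) hG
  rwa [commutator_def, Subgroup.map_commutator,
    Subgroup.map_top_of_surjective _ (QuotientGroup.mk'_surjective N), ← commutator_def] at h

end Center

section Embed

variable {F : Type*} [Field F] {V M : Type*} [AddCommGroup V] [Module F V] [AddCommGroup M]
  [Module F M] {H : Type*} [Group H]

/-- An action on `M` that preserves the image of an embedded quadratic space, restricted to it. -/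
structure EmbeddedAct (Q : QuadraticForm F V) (mk : V →ₗ[F] M) (act : H → M →ₗ[F] M) : Prop where
  inj : Function.Injective mk
  map_one : act 1 = LinearMap.id
  map_mul : ∀ g h, act (g * h) = (act g).comp (act h)
  stable : ∀ h v, ∃ w, mk w = act h (mk v)
  isom : ∀ h v w, mk w = act h (mk v) → Q w = Q v

variable {Q : QuadraticForm F V} {mk : V →ₗ[F] M} {act : H → M →ₗ[F] M}

/-- The endomorphism of the embedded space given by `h`. -/
noncomputable def EmbeddedAct.fn (e : EmbeddedAct Q mk act) (h : H) : V →ₗ[F] V where
  toFun v := (e.stable h v).choose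
  map_add' u v := e.inj (by
    have h1 := (e.stable h (u + v)).choose_spec
    have h2 := (e.stable h u).choose_spec
    have h3 := (e.stable h v).choose_spec
    rw [h1, mk.map_add, mk.map_add, (act h).map_add, h2, h3])
  map_smul' c v := e.inj (by
    have h1 := (e.stable h (c • v)).choose_spec
    have h2 := (e.stable h v).choose_spec
    rw [RingHom.id_apply, h1, mk.map_smul, mk.map_smul, (act h).map_smul, h2])

theorem EmbeddedAct.mk_fn (e : EmbeddedAct Q mk act) (h : H) (v : V) :
    mk (e.fn h v) = act h (mk v) := (e.stable h v).choose_spec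

theorem EmbeddedAct.fn_mul (e : EmbeddedAct Q mk act) (g h : H) (v : V) :
    e.fn (g * h) v = e.fn g (e.fn h v) := e.inj (by
  rw [e.mk_fn, e.mk_fn, e.mk_fn, e.map_mul, LinearMap.comp_apply])

theorem EmbeddedAct.fn_one (e : EmbeddedAct Q mk act) (v : V) : e.fn 1 v = v := e.inj (by
  rw [e.mk_fn, e.map_one, LinearMap.id_apply])

/-- The homomorphism into the orthogonal group given by an embedded action. -/
noncomputable def EmbeddedAct.toOrth (e : EmbeddedAct Q mk act) : H →* orth Q where
  toFun h := ⟨LinearEquiv.ofLinearMap (e.fn h) (e.fn h⁻¹)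
    (LinearMap.ext fun v => by
      rw [LinearMap.comp_apply, ← e.fn_mul, mul_inv_cancel, e.fn_one]; rfl)
    (LinearMap.ext fun v => by
      rw [LinearMap.comp_apply, ← e.fn_mul, inv_mul_cancel, e.fn_one]; rfl),
    fun v => e.isom h v _ (e.mk_fn h v)⟩
  map_one' := Subtype.ext (LinearEquiv.ext fun v => e.fn_one v)
  map_mul' g h := Subtype.ext (LinearEquiv.ext fun v => e.fn_mul g h v)

theorem EmbeddedAct.mem_ker (e : EmbeddedAct Q mk act) (h : H) :
    h ∈ e.toOrth.ker ↔ ∀ v, act h (mk v) = mk v := by
  rw [MonoidHom.mem_ker]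
  constructor
  · intro hh v
    rw [← e.mk_fn]
    exact congrArg mk (LinearEquiv.congr_fun (congrArg Subtype.val hh) v)
  · intro hh
    refine Subtype.ext (LinearEquiv.ext fun v => e.inj ?_)
    show mk (e.fn h v) = _
    rw [e.mk_fn, hh]
    rfl

end Embed

/-- A linear map through which a nondegenerate quadratic form factors is injective. -/
theorem injective_of_factor {F V M : Type*} [Field F] [AddCommGroup V] [Module F V]
    [AddCommGroup M] [Module F M] {Q : QuadraticForm F V} (hQ : (polarBilin Q).Nondegenerate)
    (mk : V →ₗ[F] M) (D : M → F) (hD : ∀ v, D (mk v) = Q v) : Function.Injective mk := by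
  rw [injective_iff_map_eq_zero]
  intro v hv
  refine hQ.1 v fun w => ?_
  have h0 : Q v = 0 := by rw [← hD, hv, ← mk.map_zero, hD, QuadraticMap.map_zero]
  have h1 : Q (v + w) = Q w := by rw [← hD, mk.map_add, hv, zero_add, hD]
  show polar Q v w = 0
  rw [polar, h1, h0]
  ring

section SL2

variable {F : Type*} [Field F]

theorem sl2_center_of_commute_transvections {g : Matrix.SpecialLinearGroup (Fin 2) F}
    (hu : g * uSL 1 = uSL 1 * g) (hl : g * lSL 1 = lSL 1 * g) :
    g ∈ Subgroup.center (Matrix.SpecialLinearGroup (Fin 2) F) := by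
  rw [Matrix.SpecialLinearGroup.mem_center_iff]
  have h1 := congrArg Subtype.val hu
  have h2 := congrArg Subtype.val hl
  simp only [Matrix.SpecialLinearGroup.coe_mul, uSL_coe, lSL_coe] at h1 h2
  have a := congrFun (congrFun h1 0) 0
  have b := congrFun (congrFun h1 0) 1
  have c := congrFun (congrFun h2 0) 0
  simp [Matrix.mul_apply, Fin.sum_univ_two] at a b c
  have hd : g.1 0 0 = g.1 1 1 := by linear_combination b
  have hdet : g.1.det = 1 := g.2
  rw [Matrix.det_fin_two, a, c, ← hd] at hdet
  refine ⟨g.1 0 0, by rw [Fintype.card_fin]; linear_combination hdet, ?_⟩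
  ext i j
  fin_cases i <;> fin_cases j <;> simp [a, c, hd]

/-- `PSL_2` over every field has trivial centre. -/
theorem center_PSL_two_eq_bot :
    Subgroup.center (Matrix.ProjectiveSpecialLinearGroup (Fin 2) F) = ⊥ := by
  rw [Subgroup.eq_bot_iff_forall]
  intro x hx
  obtain ⟨g, rfl⟩ := QuotientGroup.mk_surjective x
  rw [QuotientGroup.eq_one_iff]
  have key : ∀ h : Matrix.SpecialLinearGroup (Fin 2) F, h.1.trace = 2 → g * h = h * g := by
    intro h htr
    have hc := Subgroup.mem_center_iff.1 hx (QuotientGroup.mk h)
    rw [← QuotientGroup.mk_mul, ← QuotientGroup.mk_mul, QuotientGroup.eq,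
      Matrix.SpecialLinearGroup.mem_center_iff] at hc
    obtain ⟨r, hr, hmat⟩ := hc
    have e : h * g * ((h * g)⁻¹ * (g * h)) = g * h := mul_inv_cancel_left _ _
    have e' : g.1 * h.1 = r • (h.1 * g.1) := by
      rw [← Matrix.SpecialLinearGroup.coe_mul, ← Matrix.SpecialLinearGroup.coe_mul, ← e,
        Matrix.SpecialLinearGroup.coe_mul, ← hmat, Matrix.SpecialLinearGroup.coe_mul]
      simp [← Matrix.smul_one_eq_diagonal]
    have ht : (g.1 * h.1 * g⁻¹.1).trace = r * h.1.trace := by
      rw [e', Matrix.smul_mul, Matrix.mul_assoc, Matrix.trace_smul, ← Matrix.SpecialLinearGroup.coe_mul,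
        mul_inv_cancel, Matrix.SpecialLinearGroup.coe_one, Matrix.mul_one, smul_eq_mul]
    rw [Matrix.trace_mul_comm, ← Matrix.mul_assoc, ← Matrix.SpecialLinearGroup.coe_mul,
      inv_mul_cancel, Matrix.SpecialLinearGroup.coe_one, Matrix.one_mul, htr] at ht
    have hr2 : r * r = 1 := by rw [Fintype.card_fin] at hr; linear_combination hr
    have hr1 : r = 1 := by
      rcases eq_or_ne (2 : F) 0 with h2 | h2
      · exact sub_eq_zero.1 (mul_self_eq_zero.1 (by linear_combination hr2 + (1 - r) * h2))
      · exact mul_right_cancel₀ h2 (by linear_combination -ht)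
    refine Subtype.ext ?_
    rw [Matrix.SpecialLinearGroup.coe_mul, Matrix.SpecialLinearGroup.coe_mul, e', hr1, one_smul]
  refine sl2_center_of_commute_transvections (key _ ?_) (key _ ?_) <;>
    simp [Matrix.trace_fin_two, uSL_coe, lSL_coe] <;> norm_num

theorem transvection_pow {ι : Type*} [Fintype ι] [DecidableEq ι] {i j : ι} (hij : i ≠ j) (c : F)
    (n : ℕ) : (Matrix.SpecialLinearGroup.transvection hij c) ^ n =
      Matrix.SpecialLinearGroup.transvection hij (n * c) := by
  induction n with
  | zero => refine Subtype.ext ?_; simp [Matrix.transvection]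
  | succ n ih =>
    refine Subtype.ext ?_
    rw [pow_succ, ih]
    show Matrix.transvection i j ((n : F) * c) * Matrix.transvection i j c =
      Matrix.transvection i j (((n + 1 : ℕ) : F) * c)
    rw [Matrix.transvection_mul_transvection_same _ _ hij, Nat.cast_succ, add_mul, one_mul]

/-- The image of an `SL_n` over a field of odd order lies in `Omega` once the index is a power of `2`. -/
theorem sl_range_le_commutator [Finite F] {F' : Type*} [Field F'] {V : Type*} [AddCommGroup V]
    [Module F' V] {Q : QuadraticForm F' V} {ι : Type*} [Fintype ι] [DecidableEq ι]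
    (f : Matrix.SpecialLinearGroup ι F →* orth Q) {k : ℕ}
    (hk : (commutator (orth Q)).index ∣ 2 ^ k) (hodd : Odd (Nat.card F)) :
    f.range ≤ commutator (orth Q) := by
  have htop : Subgroup.comap f (commutator (orth Q)) = ⊤ := by
    refine eq_top_of_transvection_mem _ fun i j hij c => ?_
    have hq : (Matrix.SpecialLinearGroup.transvection hij c) ^ Nat.card F = 1 := by
      have := Fintype.ofFinite F
      rw [transvection_pow, Nat.card_eq_fintype_card, FiniteField.cast_card_eq_zero, zero_mul]
      exact Subtype.ext (Matrix.transvection_zero _ _)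
    rw [Subgroup.mem_comap, ← QuotientGroup.eq_one_iff (N := commutator (orth Q))]
    set y : orth Q ⧸ commutator (orth Q) :=
      QuotientGroup.mk (f (Matrix.SpecialLinearGroup.transvection hij c))
    have hyp : y ^ Nat.card F = 1 := by
      rw [← QuotientGroup.mk_pow, ← map_pow, hq, map_one, QuotientGroup.mk_one]
    have hy4 : y ^ 2 ^ k = 1 := by
      obtain ⟨d, hd⟩ := hk
      rw [hd, pow_mul, show y ^ (commutator (orth Q)).index = 1 from pow_card_eq_one', one_pow]
    have := (pow_gcd_eq_one (a := y)).2 ⟨hyp, hy4⟩
    rwa [(Nat.coprime_two_right.2 hodd).pow_right k, pow_one] at this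
  rw [MonoidHom.range_eq_map, ← htop]
  exact Subgroup.map_comap_le _ _

end SL2

end CfsgLib.Classical
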