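import Cfsg.Agent.Lib.Classical.UnitaryGen

/-!
Perfectness and simplicity for the special unitary groups.
-/

set_option autoImplicit false

namespace CfsgLib.Classical.Unitary

open Matrix

variable {F : Type*} [Field F] [Finite F] {σ : F →+* F} {q n : ℕ}

theorem exists_std_iso (hF : Nat.card F = q ^ 2) (h : UFrob σ q) (hn : 3 ≤ n) :
    ∃ u : Fin n → F, u ≠ 0 ∧ uh σ u u = 0 ∧
      uh σ (Pi.single ⟨2, by omega⟩ 1) u = 0 := by
  obtain ⟨t, ht⟩ := exists_pow_succ_eq hF (c := -1) (by rw [← h.pow, map_neg, map_one])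
  rw [pow_succ', ← h.pow] at ht
  refine ⟨Pi.single ⟨0, by omega⟩ 1 + Pi.single ⟨1, by omega⟩ t, fun h0 => ?_, ?_, ?_⟩
  · simpa [Pi.single_apply, Fin.ext_iff] using congrFun h0 ⟨0, by omega⟩
  · simp [uh_add_left, uh_single_left]
    linear_combination ht
  · simp [uh_single_left]

/-- Every transvection is a commutator. -/
theorem utv_mem_commutatorSet (hF : Nat.card F = q ^ 2) (h : UFrob σ q) (hn : 3 ≤ n)
    (v : Fin n → F) (c : F) (hv : uh σ v v = 0) (hc : c + σ c = 0) :
    utv h v c hv hc ∈ commutatorSet (Cfsg.SU n F q) := by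
  rcases eq_or_ne v 0 with rfl | hv0
  · refine ⟨1, 1, ?_⟩
    rw [commutatorElement_self]
    exact su_ext fun x => by simp
  obtain ⟨u, hu0, huu, hwu⟩ := exists_std_iso hF h hn
  obtain ⟨g, hg, hgu⟩ := exists_gu_map_one h hu0 hv0 (by rw [huu, hv])
  obtain ⟨a, b, hab⟩ := utv_mem_commutatorSet_of_perp h huu hwu (uh_single_self h _) c hc
  refine ⟨guConj h g hg a, guConj h g hg b, ?_⟩
  rw [← map_commutatorElement, hab, guConj_utv]
  exact su_ext fun x => by simp [hgu]

theorem su_commutator_eq_top (hF : Nat.card F = q ^ 2) (h : UFrob σ q) (hn : 3 ≤ n)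
    (h32 : n = 3 → 3 ≤ q) : commutator (Cfsg.SU n F q) = ⊤ := by
  refine eq_top_iff.2 ?_
  rw [← transvGroup_eq_top hF h n (by omega) h32]
  refine mem_of_eq_utv h fun v c hv hc => ?_
  rw [commutator_eq_closure]
  exact Subgroup.subset_closure (utv_mem_commutatorSet hF h hn v c hv hc)

omit [Finite F] in
theorem det_mem_normOne_iff {x : Fˣ} : x ∈ normOne F q ↔ (x : F) ^ (q + 1) = 1 := by
  rw [normOne, MonoidHom.mem_ker, powMonoidHom_apply]
  exact ⟨fun e => by rw [← Units.val_pow_eq_pow_val, e, Units.val_one],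
    fun e => Units.ext (by simpa using e)⟩

theorem gu_det_norm (hF : Nat.card F = q ^ 2) (h : UFrob σ q) (hn : 1 ≤ n) {g : GL (Fin n) F}
    (hg : g ∈ Cfsg.GU n F q) : g.1.det * σ g.1.det = 1 := by
  have hmem : guDet n F q ⟨g, hg⟩ ∈ (guDet n F q).range := ⟨⟨g, hg⟩, rfl⟩
  rw [guDet_range hF hn] at hmem
  have := det_mem_normOne_iff.1 hmem
  rw [h.pow, ← pow_succ']
  simpa [guDet] using this

omit [Finite F] in
theorem su_of_gu (h : UFrob σ q) {g : GL (Fin n) F} (hg : g ∈ Cfsg.GU n F q)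
    (m : Matrix (Fin n) (Fin n) F) (hm : ∀ x y, uh σ (m *ᵥ x) (m *ᵥ y) = uh σ x y)
    (hdet : m.det * g.1.det = 1) :
    ∃ k : Cfsg.SU n F q, ∀ x, k.1.1 *ᵥ x = m *ᵥ (g.1 *ᵥ x) := by
  refine ⟨⟨⟨m * g.1, by rw [det_mul, hdet]⟩, mem_SU_iff.2 fun x y => ?_⟩,
    fun x => (mulVec_mulVec x m g.1).symm⟩
  show Cfsg.hermForm n F q ((m * g.1) *ᵥ x) ((m * g.1) *ᵥ y) = _
  rw [h.hermForm_eq, h.hermForm_eq, ← mulVec_mulVec, ← mulVec_mulVec, hm, gu_uh h hg]

omit [Finite F] in
theorem exists_perp_two (h : UFrob σ q) (hn : 3 ≤ n) (x y : Fin n → F) :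
    ∃ z : Fin n → F, z ≠ 0 ∧ uh σ z x = 0 ∧ uh σ z y = 0 := by
  let φ : (Fin n → F) →ₗ[F] Fin 2 → F :=
    Matrix.mulVecLin (Matrix.of ![σ ∘ x, σ ∘ y])
  have : LinearMap.ker φ ≠ ⊥ := LinearMap.ker_ne_bot_of_finrank_lt (by simp; omega)
  obtain ⟨z, hz, hz0⟩ := Submodule.exists_mem_ne_zero_of_ne_bot this
  rw [LinearMap.mem_ker] at hz
  refine ⟨z, hz0, ?_, ?_⟩
  · have := congrFun hz 0
    simp [φ] at this
    simpa [uh, dotProduct, mulVec, mul_comm] using this
  · have := congrFun hz 1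
    simp [φ] at this
    simpa [uh, dotProduct, mulVec, mul_comm] using this

/-- `SU` moves non-orthogonal isotropic point pairs to each other. -/
theorem move_nonorth (hF : Nat.card F = q ^ 2) (h : UFrob σ q) (hn : 3 ≤ n)
    {x y x' y' : Fin n → F} (hx : uh σ x x = 0) (hy : uh σ y y = 0) (hx' : uh σ x' x' = 0)
    (hy' : uh σ y' y' = 0) (hxy : uh σ x y ≠ 0) (hxy' : uh σ x' y' ≠ 0) :
    ∃ (k : Cfsg.SU n F q) (c : F), c ≠ 0 ∧ k.1.1 *ᵥ x = x' ∧ k.1.1 *ᵥ y = c • y' := by
  have li : ∀ {a b : Fin n → F}, uh σ a a = 0 → uh σ a b ≠ 0 → LinearIndependent F ![a, b] := by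
    intro a b ha hab
    refine LinearIndependent.pair_iff.2 fun s t hst => ?_
    have ht : t = 0 := by
      have := congrArg (fun z => uh σ a z) hst
      simpa [uh_add_right, uh_smul_right, uh_zero_right, ha, hab] using this
    subst ht
    rw [zero_smul, add_zero] at hst
    refine ⟨(smul_eq_zero.1 hst).resolve_right ?_, rfl⟩
    rintro rfl
    simp [uh_zero_left] at hab
  set c := σ (uh σ x y / uh σ x' y') with hc
  have hc0 : c ≠ 0 := (map_ne_zero σ).2 (div_ne_zero hxy hxy')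
  have hcxy : uh σ x' (c • y') = uh σ x y := by
    rw [uh_smul_right, hc, h.invol, div_mul_cancel₀ _ hxy']
  obtain ⟨g, hg, hgv⟩ := exists_gu_map h ![x, y] ![x', c • y'] (li hx hxy)
    (li hx' (by rw [hcxy]; exact hxy)) fun i j => by
      fin_cases i <;> fin_cases j
      · simp [hx, hx']
      · simpa using hcxy.symm
      · show uh σ y x = uh σ (c • y') x'
        rw [← h.symm x, ← h.symm x', hcxy]
      · simp [hy, hy', uh_smul_left, uh_smul_right]
  obtain ⟨z, hz0, hzx, hzy⟩ := exists_perp_two h hn x' y'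
  obtain ⟨w, hww, hwx, hwy⟩ : ∃ w, uh σ w w = 1 ∧ uh σ w x' = 0 ∧ uh σ w y' = 0 := by
    by_cases hzz : uh σ z z = 0
    · obtain ⟨θ, hθ⟩ := exists_trace h
      have hzH : z ∉ Submodule.span F ({x', y'} : Set (Fin n → F)) := by
        intro hmem
        obtain ⟨a, b, rfl⟩ := Submodule.mem_span_pair.1 hmem
        simp [uh_add_left, uh_smul_left, hx', h.swap_zero, hy'] at hzx hzy
        have hyx : uh σ y' x' ≠ 0 := fun e => hxy' (h.swap_zero e)
        simp_all
      obtain ⟨e, hee, hze, hez, he⟩ := exists_partner h _ hzH hzz fun a ha => by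
        obtain ⟨s, t, rfl⟩ := Submodule.mem_span_pair.1 ha
        simp [uh_add_left, uh_smul_left, h.swap_zero hzx, h.swap_zero hzy]
      refine ⟨z + σ θ • e, ?_, ?_, ?_⟩
      · simp [uh_add_left, uh_add_right, uh_smul_left, uh_smul_right, hzz, hze, hez, hee, h.invol]
        linear_combination hθ
      · simp [uh_add_left, uh_smul_left, hzx, (he x' (Submodule.subset_span (by simp))).2]
      · simp [uh_add_left, uh_smul_left, hzy, (he y' (Submodule.subset_span (by simp))).2]
    · obtain ⟨s, hs⟩ := exists_pow_succ_eq hF (c := uh σ z z) (by rw [← h.pow, h.symm])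
      rw [pow_succ', ← h.pow] at hs
      have hs0 : s ≠ 0 := by rintro rfl; exact hzz (by simpa using hs.symm)
      refine ⟨s⁻¹ • z, ?_, by simp [uh_smul_left, hzx], by simp [uh_smul_left, hzy]⟩
      rw [uh_smul_left, uh_smul_right, map_inv₀, ← hs]
      field_simp [(map_ne_zero σ).2 hs0]
  have hdg := gu_det_norm hF h (show 1 ≤ n by omega) hg
  have hd0 : g.1.det ≠ 0 := left_ne_zero_of_mul_eq_one hdg
  set e := (g.1.det)⁻¹ - 1 with he
  have hek : e + σ e + e * σ e = 0 := by
    have : (g.1.det)⁻¹ * σ (g.1.det)⁻¹ = 1 := by rw [map_inv₀, ← mul_inv, hdg, inv_one]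
    rw [he, map_sub, map_one]; linear_combination this
  obtain ⟨k, hk⟩ := su_of_gu h hg (tMat σ w e) (fun a b => by
      simp only [tMat_mulVec, uh_add_left, uh_add_right, uh_smul_left, uh_smul_right, map_mul,
        h.symm, hww]
      linear_combination (uh σ a w * uh σ w b) * hek)
    (by rw [det_tMat, hww, mul_one, he, add_sub_cancel, inv_mul_cancel₀ hd0])
  refine ⟨k, c, hc0, ?_, ?_⟩
  · rw [hk, show g.1 *ᵥ x = x' from hgv 0, tMat_mulVec, h.swap_zero hwx, mul_zero, zero_smul,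
      add_zero]
  · rw [hk, show g.1 *ᵥ y = c • y' from hgv 1, tMat_mulVec, uh_smul_left, h.swap_zero hwy,
      mul_zero, mul_zero, zero_smul, add_zero]

omit [Finite F] in
theorem exists_ratio (h : UFrob σ q) {d : F} (hd : d * σ d = 1) :
    ∃ l : F, l ≠ 0 ∧ l = d * σ l := by
  obtain ⟨a, ha⟩ : ∃ a : F, a + d * σ a ≠ 0 := by
    by_contra hh
    push Not at hh
    refine h.ne (RingHom.ext fun a => ?_)
    have h1 := hh 1
    rw [map_one, mul_one] at h1
    have := hh a
    show σ a = a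
    linear_combination -this + σ a * h1
  refine ⟨a + d * σ a, ha, ?_⟩
  rw [map_add, map_mul, h.invol]
  linear_combination (-a) * hd

/-- `SU` moves orthogonal isotropic point pairs to each other. -/
theorem move_orth (hF : Nat.card F = q ^ 2) (h : UFrob σ q) {x y x' y' : Fin n → F}
    (hn : 1 ≤ n) (hx : uh σ x x = 0) (hy : uh σ y y = 0) (hx' : uh σ x' x' = 0)
    (hy' : uh σ y' y' = 0) (hxy : uh σ x y = 0) (hxy' : uh σ x' y' = 0)
    (hli : LinearIndependent F ![x, y]) (hli' : LinearIndependent F ![x', y']) :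
    ∃ (k : Cfsg.SU n F q) (c : F), c ≠ 0 ∧ k.1.1 *ᵥ x = c • x' ∧ k.1.1 *ᵥ y = y' := by
  obtain ⟨g, hg, hgv⟩ := exists_gu_map h ![x, y] ![x', y'] hli hli' fun i j => by
    fin_cases i <;> fin_cases j <;> simp [hx, hy, hx', hy', hxy, hxy', h.swap_zero hxy,
      h.swap_zero hxy']
  have hx'H : x' ∉ Submodule.span F ({y'} : Set (Fin n → F)) := fun hmem => by
    obtain ⟨a, ha⟩ := Submodule.mem_span_singleton.1 hmem
    have := (LinearIndependent.pair_iff.1 hli') 1 (-a) (by rw [← ha]; module)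
    exact one_ne_zero this.1
  obtain ⟨e, hee, hxe, hex, he⟩ := exists_partner h _ hx'H hx' fun a ha => by
    obtain ⟨s, rfl⟩ := Submodule.mem_span_singleton.1 ha
    rw [uh_smul_left, h.swap_zero hxy', mul_zero]
  obtain ⟨hye, -⟩ := he y' (Submodule.mem_span_singleton_self _)
  have hdg := gu_det_norm hF h hn hg
  obtain ⟨l, hl0, hl⟩ := exists_ratio h (d := (g.1.det)⁻¹)
    (by rw [map_inv₀, ← mul_inv, hdg, inv_one])
  have hσl : σ l ≠ 0 := (map_ne_zero σ).2 hl0
  let M := 1 + ((l - 1) • r1 σ x' e + ((σ l)⁻¹ - 1) • r1 σ e x')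
  have hM : ∀ u, M *ᵥ u = u + ((l - 1) * uh σ u e) • x' + (((σ l)⁻¹ - 1) * uh σ u x') • e :=
    fun u => by
      simp only [M, add_mulVec, one_mulVec, smul_mulVec, r1_mulVec, smul_smul]
      abel
  have hdM : M.det = l / σ l := by
    let P : Matrix (Fin n) (Fin 2) F := Matrix.of fun i j => ![x' i, e i] j
    let Q : Matrix (Fin 2) (Fin n) F := Matrix.of ![fun i => (l - 1) * σ (e i),
      fun i => ((σ l)⁻¹ - 1) * σ (x' i)]
    have hPQ : M = 1 + P * Q := by
      ext i j
      simp [M, r1, vecMulVec, Matrix.mul_apply, P, Q, Fin.sum_univ_two]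
      ring
    have h1 : ∑ i, σ (e i) * x' i = 1 := by
      rw [← hxe]; exact Finset.sum_congr rfl fun i _ => mul_comm _ _
    have h2 : ∑ i, σ (e i) * e i = 0 := by
      rw [← hee]; exact Finset.sum_congr rfl fun i _ => mul_comm _ _
    have h3 : ∑ i, σ (x' i) * x' i = 0 := by
      rw [← hx']; exact Finset.sum_congr rfl fun i _ => mul_comm _ _
    have h4 : ∑ i, σ (x' i) * e i = 1 := by
      rw [← hex]; exact Finset.sum_congr rfl fun i _ => mul_comm _ _
    rw [hPQ, det_one_add_mul_comm, det_fin_two]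
    simp [P, Q, vecMul, dotProduct, mul_assoc, ← Finset.mul_sum, h1, h2, h3, h4, div_eq_mul_inv]
  obtain ⟨k, hk⟩ := su_of_gu h hg M (fun a b => by
      simp only [hM, uh_add_left, uh_add_right, uh_smul_left, uh_smul_right, map_mul, map_sub,
        map_one, map_inv₀, h.invol, h.symm, hxe, hex, hee, hx']
      field_simp
      ring)
    (by
      rw [hdM, show l / σ l = (g.1.det)⁻¹ by rw [div_eq_iff hσl]; exact hl,
        inv_mul_cancel₀ (left_ne_zero_of_mul_eq_one hdg)])
  refine ⟨k, l, hl0, ?_, ?_⟩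
  · rw [hk, show g.1 *ᵥ x = x' from hgv 0, hM, hxe, hx']
    module
  · rw [hk, show g.1 *ᵥ y = y' from hgv 1, hM, hye, h.swap_zero hxy']
    simp

/-- A normal subgroup of `SU` is central or everything. -/
theorem normal_su_le_center_or_eq_top (hF : Nat.card F = q ^ 2) (h : UFrob σ q) (hn : 3 ≤ n)
    (h32 : n = 3 → 3 ≤ q) (N : Subgroup (Cfsg.SU n F q)) [hN : N.Normal] :
    N ≤ Subgroup.center (Cfsg.SU n F q) ∨ N = ⊤ := by
  have hgen := transvGroup_eq_top hF h n (by omega) h32
  have hperf := su_commutator_eq_top hF h hn h32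
  have hpartner : ∀ x : Fin n → F, x ≠ 0 → uh σ x x = 0 →
      ∃ e, uh σ e e = 0 ∧ uh σ x e = 1 ∧ uh σ e x = 1 := fun x hx0 hx => by
    obtain ⟨e, h1, h2, h3, -⟩ := exists_partner h ⊥ (d := x) (by simpa using hx0) hx
      (fun a ha => by rw [(Submodule.mem_bot F).1 ha, uh_zero_left])
    exact ⟨e, h1, h2, h3⟩
  by_cases hfix : ∀ m ∈ N, ∀ v : Fin n → F, uh σ v v = 0 → ∃ c : F, m.1.1 *ᵥ v = c • v
  · left
    intro m hm
    rw [Subgroup.mem_center_iff]
    suffices hh : transvGroup n F q ≤ Subgroup.centralizer {m} by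
      intro g
      have := hh (hgen ▸ Subgroup.mem_top g)
      exact (Subgroup.mem_centralizer_iff.1 this m (Set.mem_singleton m)).symm
    refine mem_of_eq_utv h fun v c hv hc => ?_
    refine Subgroup.mem_centralizer_iff.2 fun m' hm' => ?_
    rw [Set.mem_singleton_iff] at hm'
    subst hm'
    rcases eq_or_ne v 0 with rfl | hv0
    · rw [show utv h (0 : Fin n → F) c hv hc = 1 from su_ext fun x => by simp, mul_one, one_mul]
    obtain ⟨e, hee, hve, hev⟩ := hpartner v hv0 hv
    obtain ⟨a, ha⟩ := hfix m' hm v hv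
    obtain ⟨b, hb⟩ := hfix m' hm e hee
    obtain ⟨k, hk0, hks⟩ := exists_skew h
    obtain ⟨d, hd⟩ := hfix m' hm (v + k • e) (by
      simp [uh_add_left, uh_add_right, uh_smul_left, uh_smul_right, hv, hee, hve, hev]
      linear_combination hks)
    rw [mulVec_add, mulVec_smul, ha, hb] at hd
    have h1 := congrArg (fun z => uh σ z e) hd
    have h2 := congrArg (fun z => uh σ z v) hd
    simp [uh_add_left, uh_smul_left, hv, hee, hve, hev] at h1 h2
    have hab : a = b := h1.trans (mul_left_cancel₀ hk0 (by linear_combination -h2))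
    have hN1 := su_uh h m' v e
    rw [ha, hb, uh_smul_left, uh_smul_right, hve, mul_one, ← hab] at hN1
    refine su_ext fun x => ?_
    rw [su_mul_mulVec, su_mul_mulVec, utv_mulVec, utv_mulVec, mulVec_add, mulVec_smul, ha,
      smul_smul]
    congr 2
    have := su_uh h m' x v
    rw [ha, uh_smul_right] at this
    linear_combination (c * uh σ (m'.1.1 *ᵥ x) v) * hN1 - (c * a) * this
  right
  push Not at hfix
  obtain ⟨m, hm, x, hx, hmx⟩ := hfix
  set R : (Fin n → F) → (Fin n → F) → Prop :=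
    fun a b => ∃ k ∈ N, ∃ c : F, c ≠ 0 ∧ k.1.1 *ᵥ a = c • b with hR
  have rsymm : ∀ {a b}, R a b → R b a := by
    rintro a b ⟨k, hk, c, hc, he⟩
    refine ⟨k⁻¹, inv_mem hk, c⁻¹, inv_ne_zero hc, ?_⟩
    have := congrArg (fun z => (k⁻¹).1.1 *ᵥ z) he
    simp only [su_inv_mulVec, mulVec_smul] at this
    rw [this, inv_smul_smul₀ hc]
  have rtrans : ∀ {a b d}, R a b → R b d → R a d := by
    rintro a b d ⟨k, hk, c, hc, he⟩ ⟨k', hk', c', hc', he'⟩
    exact ⟨k' * k, mul_mem hk' hk, c * c', mul_ne_zero hc hc',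
      by rw [su_mul_mulVec, he, mulVec_smul, he', smul_smul]⟩
  have rG : ∀ (g : Cfsg.SU n F q) {a b}, R a b → R (g.1.1 *ᵥ a) (g.1.1 *ᵥ b) := by
    rintro g a b ⟨k, hk, c, hc, he⟩
    exact ⟨g * k * g⁻¹, hN.conj_mem k hk g, c, hc,
      by rw [su_mul_mulVec, su_mul_mulVec, su_inv_mulVec, he, mulVec_smul]⟩
  have rscale : ∀ {a b} (c : F), c ≠ 0 → R a b → R a (c • b) := by
    rintro a b c hc ⟨k, hk, c', hc', he⟩
    exact ⟨k, hk, c' / c, div_ne_zero hc' hc,
      by rw [smul_smul, div_mul_cancel₀ _ hc, he]⟩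
  have hx0 : x ≠ 0 := fun e => hmx 0 (by simp [e])
  set y := m.1.1 *ᵥ x with hy
  have hyy : uh σ y y = 0 := by rw [su_uh h, hx]
  have hxy : R x y := ⟨m, hm, 1, one_ne_zero, by rw [one_smul]⟩
  obtain ⟨a₀, b₀, ha₀, hb₀, hab₀, hr₀⟩ : ∃ a b, uh σ a a = 0 ∧ uh σ b b = 0 ∧ uh σ a b ≠ 0 ∧
      R a b := by
    by_cases hxy0 : uh σ x y = 0
    · have li : LinearIndependent F ![x, y] :=
        (LinearIndependent.pair_iff' hx0).2 fun c hc => hmx c hc.symm
      have hxH : x ∉ Submodule.span F ({y} : Set (Fin n → F)) := fun hmem => by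
        obtain ⟨a, ha⟩ := Submodule.mem_span_singleton.1 hmem
        exact one_ne_zero ((LinearIndependent.pair_iff.1 li) 1 (-a) (by rw [← ha]; module)).1
      obtain ⟨e, hee, hxe, hex, he⟩ := exists_partner h _ hxH hx fun a ha => by
        obtain ⟨s, rfl⟩ := Submodule.mem_span_singleton.1 ha
        rw [uh_smul_left, h.swap_zero hxy0, mul_zero]
      obtain ⟨hye, -⟩ := he y (Submodule.mem_span_singleton_self _)
      have hy0 : y ≠ 0 := li.ne_zero 1
      have li' : LinearIndependent F ![y, e] := by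
        refine (LinearIndependent.pair_iff' hy0).2 fun c hc => ?_
        rw [← hc, uh_smul_right, hxy0, mul_zero] at hxe
        exact zero_ne_one hxe
      obtain ⟨k, c, hc, h1, h2⟩ := move_orth hF h (by omega) hx hyy hyy hee hxy0 hye li li'
      refine ⟨x, e, hx, hee, by rw [hxe]; exact one_ne_zero, rtrans hxy ?_⟩
      have := rG k hxy
      rw [h1, h2] at this
      exact rsymm (by
        simpa [smul_smul, inv_mul_cancel₀ hc] using rscale c⁻¹ (inv_ne_zero hc) (rsymm this))
    · exact ⟨x, y, hx, hyy, hxy0, hxy⟩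
  have hall : ∀ a b, uh σ a a = 0 → uh σ b b = 0 → uh σ a b ≠ 0 → R a b := by
    intro a b ha hb hab
    obtain ⟨k, c, hc, h1, h2⟩ := move_nonorth hF h hn ha₀ hb₀ ha hb hab₀ hab
    have := rG k hr₀
    rw [h1, h2] at this
    simpa [smul_smul, inv_mul_cancel₀ hc] using rscale c⁻¹ (inv_ne_zero hc) this
  obtain ⟨e, he0, hee, -⟩ := exists_std_iso hF h hn
  have hev : ∀ v, v ≠ 0 → uh σ v v = 0 → R e v := by
    intro v hv0 hv
    by_cases hev0 : uh σ e v = 0
    · by_cases hdep : ∃ c : F, v = c • e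
      · obtain ⟨c, rfl⟩ := hdep
        have hc : c ≠ 0 := fun hc => hv0 (by simp [hc])
        exact ⟨1, one_mem _, c⁻¹, inv_ne_zero hc, by rw [su_one_mulVec, inv_smul_smul₀ hc]⟩
      push Not at hdep
      have heH : e ∉ Submodule.span F ({v} : Set (Fin n → F)) := fun hmem => by
        obtain ⟨a, ha⟩ := Submodule.mem_span_singleton.1 hmem
        have ha0 : a ≠ 0 := fun h0 => he0 (by simp [← ha, h0])
        exact hdep a⁻¹ (by rw [← ha, inv_smul_smul₀ ha0])
      obtain ⟨f, hff, hef, hfe, hf⟩ := exists_partner h _ heH hee fun a ha => by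
        obtain ⟨s, rfl⟩ := Submodule.mem_span_singleton.1 ha
        rw [uh_smul_left, h.swap_zero hev0, mul_zero]
      obtain ⟨hvf, -⟩ := hf v (Submodule.mem_span_singleton_self _)
      have hvH : v ∉ Submodule.span F ({e, f} : Set (Fin n → F)) := fun hmem => by
        obtain ⟨a, b, hab⟩ := Submodule.mem_span_pair.1 hmem
        have h1 := congrArg (fun z => uh σ z e) hab
        simp [uh_add_left, uh_smul_left, hee, hfe, h.swap_zero hev0] at h1
        exact hdep a (by rw [← hab, h1, zero_smul, add_zero])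
      obtain ⟨g, hgg, hvg, hgv, hg⟩ := exists_partner h _ hvH hv fun a ha => by
        obtain ⟨s, t, rfl⟩ := Submodule.mem_span_pair.1 ha
        simp [uh_add_left, uh_smul_left, hev0, h.swap_zero hvf]
      obtain ⟨heg, hge⟩ := hg e (Submodule.subset_span (by simp))
      obtain ⟨hfg, hgf⟩ := hg f (Submodule.subset_span (by simp))
      have hz : uh σ (f + g) (f + g) = 0 := by
        simp [uh_add_left, uh_add_right, hff, hgg, hfg, hgf]
      exact rtrans (hall e (f + g) hee hz (by simp [uh_add_right, hef, heg]))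
        (hall (f + g) v hz hv (by simp [uh_add_left, h.swap_zero hvf, hgv]))
    · exact hall e v hee hv hev0
  let T : Subgroup (Cfsg.SU n F q) :=
    { carrier := {g | ∃ (a : F) (ha : a + σ a = 0), g = utv h e a hee ha}
      mul_mem' := by
        rintro _ _ ⟨a, ha, rfl⟩ ⟨b, hb, rfl⟩; exact ⟨a + b, add_skew ha hb, utv_mul h e hee ha hb⟩
      one_mem' := ⟨0, by simp, su_ext fun x => by simp⟩
      inv_mem' := by
        rintro _ ⟨a, ha, rfl⟩
        have hna : -a + σ (-a) = 0 := by rw [map_neg]; linear_combination -ha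
        refine ⟨-a, hna, inv_eq_of_mul_eq_one_right ?_⟩
        rw [utv_mul]
        exact su_ext fun x => by simp }
  have hT : IsMulCommutative T := ⟨⟨by
    rintro ⟨_, a, ha, rfl⟩ ⟨_, b, hb, rfl⟩
    refine Subtype.ext ?_
    show utv h e a hee ha * utv h e b hee hb = utv h e b hee hb * utv h e a hee ha
    rw [utv_mul, utv_mul]
    exact su_ext fun x => by simp [add_comm a b]⟩⟩
  have htop : N ⊔ T = ⊤ := by
    refine eq_top_iff.2 ?_
    rw [← hgen]
    refine mem_of_eq_utv h fun v a hv ha => ?_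
    rcases eq_or_ne v 0 with rfl | hv0
    · rw [show utv h (0 : Fin n → F) a hv ha = 1 from su_ext fun x => by simp]
      exact one_mem _
    obtain ⟨k, hk, c, hc, hkv⟩ := hev v hv0 hv
    have hb : a / (c * σ c) + σ (a / (c * σ c)) = 0 := by
      have : σ c ≠ 0 := (map_ne_zero σ).2 hc
      rw [map_div₀, map_mul, h.invol]
      field_simp
      linear_combination ha
    have : utv h v a hv ha = k * utv h e (a / (c * σ c)) hee hb * k⁻¹ := su_ext fun x => by
      have : σ c ≠ 0 := (map_ne_zero σ).2 hc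
      have hkx := su_uh h k ((k⁻¹).1.1 *ᵥ x) e
      rw [su_mulVec_inv, hkv, uh_smul_right] at hkx
      rw [su_mul_mulVec, su_mul_mulVec, utv_mulVec, utv_mulVec, mulVec_add, mulVec_smul,
        su_mulVec_inv, hkv, ← hkx, smul_smul]
      congr 2
      field_simp
    rw [this]
    exact mul_mem (mul_mem (Subgroup.mem_sup_left hk) (Subgroup.mem_sup_right ⟨_, _, rfl⟩))
      (inv_mem (Subgroup.mem_sup_left hk))
  exact top_le_iff.1 (hperf ▸ hN.commutator_le_of_self_sup_commutative_eq_top htop hT)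

theorem isSimpleGroup_PSU (hF : Nat.card F = q ^ 2) (hn : 3 ≤ n) (h32 : n = 3 → 3 ≤ q) :
    IsSimpleGroup (Cfsg.PSU n F q) := by
  obtain ⟨σ, h⟩ := exists_uFrob hF
  have hnt : Nontrivial (Cfsg.PSU n F q) := by
    obtain ⟨u, hu0, huu, -⟩ := exists_std_iso hF h hn
    obtain ⟨e, hee, hue, heu, -⟩ := exists_partner h ⊥ (d := u) (by simpa using hu0) huu
      (fun a ha => by rw [(Submodule.mem_bot F).1 ha, uh_zero_left])
    obtain ⟨k, hk0, hks⟩ := exists_skew h
    refine ⟨⟨QuotientGroup.mk (utv h u k huu hks), 1, fun h1 => ?_⟩⟩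
    rw [QuotientGroup.eq_one_iff] at h1
    obtain ⟨c, -, -, hc⟩ := SU_center_scalar hF (by omega) h1
    have h2 : (utv h u k huu hks).1.1 *ᵥ e = c • e := by
      rw [hc]; funext i; simp [mulVec_diagonal]
    rw [utv_mulVec, heu, mul_one] at h2
    have h3 := congrArg (fun z => uh σ z e) h2
    simp [uh_add_left, uh_smul_left, hee, hue] at h3
    exact hk0 h3
  refine { eq_bot_or_eq_top_of_normal := fun H hH => ?_ }
  have := hH.comap (QuotientGroup.mk' (Subgroup.center (Cfsg.SU n F q)))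
  rcases normal_su_le_center_or_eq_top hF h hn h32 (H.comap (QuotientGroup.mk' _)) with h' | h'
  · left
    refine eq_bot_iff.2 fun x hx => ?_
    obtain ⟨g, rfl⟩ := QuotientGroup.mk_surjective x
    exact Subgroup.mem_bot.2 ((QuotientGroup.eq_one_iff g).2 (h' hx))
  · right
    refine eq_top_iff.2 fun x _ => ?_
    obtain ⟨g, rfl⟩ := QuotientGroup.mk_surjective x
    exact (h' ▸ Subgroup.mem_top g : g ∈ H.comap (QuotientGroup.mk' _))

end CfsgLib.Classical.Unitary
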