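import Cfsg.Prelude.Def_LieClassical
import Cfsg.Agent.Lib.Classical.Order
import Cfsg.Agent.Lib.Geometry.Hermitian
import Cfsg.Agent.Lib.Geometry.MatrixEquiv

/-!
The Hermitian form `Σ uᵢ vᵢ^q`: vector counts, and the order of `GU`.
-/

set_option autoImplicit false

namespace CfsgLib.Classical

open Matrix CfsgLib.Geometry

variable {F : Type*} [Field F] [Finite F] {q : ℕ}

omit [Finite F] in
theorem two_le_q (hF : Nat.card F = q ^ 2) [Finite F] : 2 ≤ q := by
  have h := Finite.one_lt_card (α := F)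
  rcases q with _ | _ | q <;> simp_all

theorem exists_frob (hF : Nat.card F = q ^ 2) :
    ∃ σ : F →+* F, (∀ x, σ x = x ^ q) ∧ σ ≠ RingHom.id F ∧ ∀ x, σ (σ x) = x := by
  have := Fintype.ofFinite F
  obtain ⟨p, hp⟩ := CharP.exists F
  have : Fact p.Prime := ⟨CharP.char_is_prime F p⟩
  obtain ⟨n, -, hn⟩ := FiniteField.card F p
  rw [← Nat.card_eq_fintype_card, hF] at hn
  obtain ⟨k, -, hk⟩ := (Nat.dvd_prime_pow (Fact.out : p.Prime)).1
    (hn ▸ dvd_pow_self q two_ne_zero : q ∣ p ^ (n : ℕ))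
  refine ⟨iterateFrobenius F p k, fun x => by rw [iterateFrobenius_def, ← hk], fun h => ?_,
    fun x => ?_⟩
  · obtain ⟨g, hg⟩ := IsCyclic.exists_generator (α := Fˣ)
    have hq := two_le_q hF
    have hx := RingHom.congr_fun h (g : F)
    rw [iterateFrobenius_def, ← hk, RingHom.id_apply] at hx
    have h1 : g ^ (q - 1) = 1 := by
      refine Units.ext (mul_right_cancel₀ g.ne_zero ?_)
      rw [Units.val_one, one_mul, Units.val_pow_eq_pow_val, ← pow_succ,
        Nat.sub_add_cancel (by omega), hx]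
    have h2 := Nat.le_of_dvd (by omega) (orderOf_dvd_of_pow_eq_one h1)
    rw [orderOf_eq_card_of_forall_mem_zpowers hg, card_units_field, hF] at h2
    have : 2 * q ≤ q ^ 2 := by rw [sq]; exact Nat.mul_le_mul_right _ hq
    omega
  · simp only [iterateFrobenius_def, ← hk]
    rw [← pow_mul, ← sq, ← hF, Nat.card_eq_fintype_card, FiniteField.pow_card]

/-- The fixed elements are the values of the norm `x ↦ x^(q+1)`. -/
theorem exists_pow_succ_eq (hF : Nat.card F = q ^ 2) {c : F} (hc : c ^ q = c) :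
    ∃ t : F, t ^ (q + 1) = c := by
  obtain ⟨σ, hσ, hσne, hσ2⟩ := exists_frob hF
  obtain ⟨t, ht⟩ := exists_norm_eq hσne hσ2 (c := c) (by rw [hσ, hc])
  exact ⟨t, by rw [pow_succ', ← hσ, ht]⟩

theorem pow_succ_fixed (hF : Nat.card F = q ^ 2) (x : F) : (x ^ (q + 1)) ^ q = x ^ (q + 1) := by
  obtain ⟨σ, hσ, -, hσ2⟩ := exists_frob hF
  rw [← hσ, pow_succ', ← hσ, map_mul, hσ2, mul_comm]

/-- The units of norm one. -/
def normOne (F : Type*) [Field F] (q : ℕ) : Subgroup Fˣ := (powMonoidHom (q + 1) : Fˣ →* Fˣ).ker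

theorem card_normOne (hF : Nat.card F = q ^ 2) : Nat.card (normOne F q) = q + 1 := by
  rw [normOne, IsCyclic.card_powMonoidHom_ker, card_units_field, hF]
  refine Nat.gcd_eq_right ⟨q - 1, ?_⟩
  rw [← Nat.sq_sub_sq, one_pow]

theorem card_pow_succ_eq_one (hF : Nat.card F = q ^ 2) :
    Nat.card {x : F // x ^ (q + 1) = 1} = q + 1 := by
  refine (Nat.card_congr
    { toFun := fun x => ⟨Units.mk0 x.1 (fun h => by simpa [h] using x.2), MonoidHom.mem_ker.2 (Units.ext x.2)⟩
      invFun := fun u => ⟨(u.1 : F), congrArg Units.val u.2⟩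
      left_inv := fun x => rfl
      right_inv := fun u => Subtype.ext (Units.ext rfl) }).trans (card_normOne hF)

/-- Number of vectors of norm `c`. -/
noncomputable def normCount (F : Type*) [Field F] (q n : ℕ) (c : F) : ℕ :=
  Nat.card {v : Fin n → F // ∑ i, v i ^ (q + 1) = c}

theorem normCount_eq_one (hF : Nat.card F = q ^ 2) (n : ℕ) {c : F} (hc : c ^ q = c) (hc0 : c ≠ 0) :
    normCount F q n c = normCount F q n 1 := by
  obtain ⟨t, rfl⟩ := exists_pow_succ_eq hF hc
  have ht : t ≠ 0 := fun h => hc0 (by simp [h])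
  refine (Nat.card_congr ((Equiv.piCongrRight fun _ => Equiv.mulLeft₀ t ht).subtypeEquiv
    fun v => ?_)).symm
  simp only [Equiv.piCongrRight_apply, Equiv.mulLeft₀_apply, Pi.map_apply, mul_pow,
    ← Finset.mul_sum]
  constructor
  · intro h; rw [h, mul_one]
  · intro h
    exact mul_left_cancel₀ (pow_ne_zero _ ht) (h.trans (mul_one _).symm)

theorem normCount_zero_dim (c : F) [Decidable (c = 0)] :
    normCount F q 0 c = if c = 0 then 1 else 0 := by
  split_ifs with h
  · subst h
    have : Unique {v : Fin 0 → F // ∑ i, v i ^ (q + 1) = 0} :=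
      ⟨⟨⟨0, by simp⟩⟩, fun v => Subtype.ext (Subsingleton.elim _ _)⟩
    exact Nat.card_unique
  · have : IsEmpty {v : Fin 0 → F // ∑ i, v i ^ (q + 1) = c} :=
      ⟨fun v => h (by simpa using v.2.symm)⟩
    exact Nat.card_of_isEmpty

/-- Splitting off the first coordinate. -/
def normSuccEquiv (F : Type*) [Field F] (q n : ℕ) (c : F) :
    {v : Fin (n + 1) → F // ∑ i, v i ^ (q + 1) = c} ≃
      Σ x : F, {w : Fin n → F // ∑ i, w i ^ (q + 1) = c - x ^ (q + 1)} where
  toFun v := ⟨v.1 0, Fin.tail v.1, by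
    have := v.2
    rw [Fin.sum_univ_succ] at this
    rw [eq_sub_iff_add_eq, add_comm]
    simpa [Fin.tail] using this⟩
  invFun s := ⟨Fin.cons s.1 s.2.1, by
    rw [Fin.sum_univ_succ]
    simp [s.2.2]⟩
  left_inv v := Subtype.ext (Fin.cons_self_tail v.1)
  right_inv s := by
    obtain ⟨x, w, hw⟩ := s
    rfl

theorem normCount_rec (hF : Nat.card F = q ^ 2) (n : ℕ) :
    (normCount F q (n + 1) 0 : ℤ) =
        normCount F q n 0 + ((q : ℤ) ^ 2 - 1) * normCount F q n 1 ∧
      (normCount F q (n + 1) 1 : ℤ) =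
        ((q : ℤ) + 1) * normCount F q n 0 + ((q : ℤ) ^ 2 - q - 1) * normCount F q n 1 := by
  classical
  have := Fintype.ofFinite F
  have hc : (Fintype.card F : ℤ) = (q : ℤ) ^ 2 := by
    rw [← Nat.card_eq_fintype_card, hF]; push_cast; rfl
  have hsum : ∀ c : F, (normCount F q (n + 1) c : ℤ) =
      ∑ x : F, (normCount F q n (c - x ^ (q + 1)) : ℤ) := by
    intro c
    rw [normCount, Nat.card_congr (normSuccEquiv F q n c), Nat.card_sigma, Nat.cast_sum]
    rfl
  constructor
  · rw [hsum, Fintype.sum_eq_add_sum_compl 0, Finset.sum_congr rfl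
      (g := fun _ => (normCount F q n 1 : ℤ)) fun x hx => ?_, Finset.sum_const, Finset.card_compl,
      Finset.card_singleton, zero_pow (by omega), sub_zero, nsmul_eq_mul,
      Nat.cast_sub Fintype.card_pos, hc]
    · simp
    · rw [Nat.cast_inj]
      refine normCount_eq_one hF n ?_ ?_
      · obtain ⟨σ, hσ, -, -⟩ := exists_frob hF
        rw [← hσ, map_sub, map_zero, hσ, pow_succ_fixed hF]
      · simpa using hx
  · have e1 : ∀ x ∈ Finset.univ.filter (fun x : F => x ^ (q + 1) = 1),
        (normCount F q n (1 - x ^ (q + 1)) : ℤ) = normCount F q n 0 := fun x hx => by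
      rw [(Finset.mem_filter.1 hx).2, sub_self]
    have e2 : ∀ x ∈ Finset.univ.filter (fun x : F => ¬ x ^ (q + 1) = 1),
        (normCount F q n (1 - x ^ (q + 1)) : ℤ) = normCount F q n 1 := fun x hx => by
      rw [Nat.cast_inj]
      obtain ⟨σ, hσ, -, -⟩ := exists_frob hF
      refine normCount_eq_one hF n ?_ (sub_ne_zero.2 (Ne.symm (Finset.mem_filter.1 hx).2))
      rw [← hσ, map_sub, map_one, hσ, pow_succ_fixed hF]
    rw [hsum, ← Finset.sum_filter_add_sum_filter_not Finset.univ (fun x : F => x ^ (q + 1) = 1),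
      Finset.sum_congr rfl e1, Finset.sum_congr rfl e2]
    have h1 : (Finset.univ.filter (fun x : F => x ^ (q + 1) = 1)).card = q + 1 := by
      exact ((card_pow_succ_eq_one hF).symm.trans
        (by rw [Nat.card_eq_fintype_card, Fintype.card_subtype])).symm
    have h2 : ((Finset.univ.filter (fun x : F => ¬ x ^ (q + 1) = 1)).card : ℤ) =
        (q : ℤ) ^ 2 - (q + 1) := by
      have h3 := Finset.card_filter_add_card_filter_not (s := (Finset.univ : Finset F))
        (fun x : F => x ^ (q + 1) = 1)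
      rw [h1, Finset.card_univ] at h3
      rw [← hc, ← h3]; push_cast; ring
    rw [Finset.sum_const, Finset.sum_const, nsmul_eq_mul, nsmul_eq_mul, h1, h2]
    push_cast
    ring

theorem normCount_closed (hF : Nat.card F = q ^ 2) (n : ℕ) :
    (q : ℤ) * normCount F q n 0 = (q : ℤ) ^ (2 * n) + (-1) ^ n * q ^ n * ((q : ℤ) - 1) ∧
      (q : ℤ) * normCount F q n 1 = (q : ℤ) ^ (2 * n) - (-1) ^ n * q ^ n := by
  classical
  induction n with
  | zero => simp [normCount_zero_dim]
  | succ n ih =>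
    obtain ⟨h0, h1⟩ := normCount_rec hF n
    rw [h0, h1]
    constructor
    · linear_combination ih.1 + ((q : ℤ) ^ 2 - 1) * ih.2
    · linear_combination ((q : ℤ) + 1) * ih.1 + ((q : ℤ) ^ 2 - q - 1) * ih.2

theorem normCount_one_eq (hF : Nat.card F = q ^ 2) (n : ℕ) :
    normCount F q (n + 1) 1 = q ^ n * (if Even n then q ^ (n + 1) + 1 else q ^ (n + 1) - 1) := by
  have h := (normCount_closed hF (n + 1)).2
  have hq : (q : ℤ) ≠ 0 := by have := two_le_q hF; omega
  have h1 : 1 ≤ q ^ (n + 1) := Nat.one_le_pow _ _ (by have := two_le_q hF; omega)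
  rw [← @Nat.cast_inj ℤ]
  refine mul_left_cancel₀ hq (h.trans ?_)
  split_ifs with he
  · rw [pow_succ (-1 : ℤ) n, he.neg_one_pow]; push_cast; ring
  · rw [pow_succ (-1 : ℤ) n, (Nat.not_even_iff_odd.1 he).neg_one_pow]
    push_cast [Nat.cast_sub h1]; ring

omit [Finite F] in
theorem hermForm_self (n : ℕ) (v : Fin n → F) :
    Cfsg.hermForm n F q v v = ∑ i, v i ^ (q + 1) := by
  simp [Cfsg.hermForm, pow_succ']

/-- `(u, v) ↦ Σ σ(uᵢ) vᵢ`. -/
noncomputable def hermB (σ : F →+* F) (n : ℕ) : (Fin n → F) →ₛₗ[σ] (Fin n → F) →ₗ[F] F :=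
  LinearMap.mk₂'ₛₗ σ (RingHom.id F) (fun u v => ∑ i, σ (u i) * v i)
    (fun u u' v => by simp [add_mul, Finset.sum_add_distrib])
    (fun c u v => by simp [Finset.mul_sum, mul_assoc])
    (fun u v v' => by simp [mul_add, Finset.sum_add_distrib])
    (fun c u v => by simp [Finset.mul_sum, mul_left_comm])

omit [Finite F] in
theorem hermB_apply (σ : F →+* F) (n : ℕ) (u v : Fin n → F) :
    hermB σ n u v = ∑ i, σ (u i) * v i := rfl

omit [Finite F] in
theorem hermB_eq {σ : F →+* F} (hσ : ∀ x, σ x = x ^ q) (n : ℕ) (u v : Fin n → F) :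
    hermB σ n u v = Cfsg.hermForm n F q v u := by
  simp [hermB_apply, Cfsg.hermForm, hσ, mul_comm]

omit [Finite F] in
theorem hermB_isSymm {σ : F →+* F} (hσ2 : ∀ x, σ (σ x) = x) (n : ℕ) :
    (hermB σ n).IsSymm :=
  ⟨fun u v => by simp [hermB_apply, map_sum, hσ2, mul_comm]⟩

omit [Finite F] in
theorem hermB_nondeg {σ : F →+* F} (hσ2 : ∀ x, σ (σ x) = x) (n : ℕ) :
    (hermB σ n).Nondegenerate := by
  refine ⟨fun u h => funext fun i => ?_, fun v h => funext fun i => ?_⟩
  · have := h (Pi.single i 1)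
    rw [hermB_apply, Finset.sum_eq_single i (fun j _ hj => by simp [hj]) (by simp)] at this
    simp only [Pi.single_eq_same, mul_one] at this
    exact (map_eq_zero σ).1 this
  · have := h (Pi.single i 1)
    rw [hermB_apply, Finset.sum_eq_single i (fun j _ hj => by simp [hj]) (by simp)] at this
    simpa using this

/-- Orthonormal `k`-frames for the standard Hermitian form. -/
abbrev Frame (F : Type*) [Field F] (q n k : ℕ) : Type _ :=
  {f : Fin k → Fin n → F // ∀ i j, Cfsg.hermForm n F q (f i) (f j) = if i = j then 1 else 0}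

omit [Finite F] in
theorem frame_li {n k : ℕ} {σ : F →+* F} (hσ : ∀ x, σ x = x ^ q) (f : Frame F q n k) :
    LinearIndependent F f.1 :=
  Fintype.linearIndependent_iff.2 fun c hc j => by
    have := congrArg (fun z => hermB σ n (f.1 j) z) hc
    rw [map_sum, map_zero, Finset.sum_congr rfl fun i _ => by
      rw [map_smul, hermB_eq hσ, f.2, smul_eq_mul]] at this
    simpa using this

theorem card_frame_fiber (hF : Nat.card F = q ^ 2) {k j : ℕ} (f : Frame F q (k + j) k) :
    Nat.card {v : Fin (k + j) → F //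
        Cfsg.hermForm (k + j) F q v v = 1 ∧ ∀ i, Cfsg.hermForm (k + j) F q (f.1 i) v = 0} =
      normCount F q j 1 := by
  obtain ⟨σ, hσ, hσne, hσ2⟩ := exists_frob hF
  let B := hermB σ (k + j)
  let e : Fin k → Fin (k + j) → F := fun i => Pi.single (Fin.castAdd j i) 1
  have he : ∀ i i', Cfsg.hermForm (k + j) F q (e i) (e i') = if i = i' then 1 else 0 := by
    intro i i'
    rw [Cfsg.hermForm, Finset.sum_eq_single (Fin.castAdd j i) (fun l _ hl => by simp [e, hl])
      (by simp)]
    rcases eq_or_ne i i' with rfl | h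
    · simp [e]
    · have : q ≠ 0 := by have := two_le_q hF; omega
      simp [e, h, this]
  have hsymm : B.IsSymm := hermB_isSymm hσ2 _
  obtain ⟨g, hg, hgi⟩ := herm_extend hσne hσ2 hsymm (hermB_nondeg hσ2 _) e f.1
    (frame_li hσ ⟨e, he⟩) (frame_li hσ f)
    (fun i i' => by rw [hermB_eq hσ, hermB_eq hσ, he, f.2])
  have hgh : ∀ u v, Cfsg.hermForm (k + j) F q (g u) (g v) = Cfsg.hermForm (k + j) F q u v :=
    fun u v => by rw [← hermB_eq hσ, ← hermB_eq hσ]; exact hg v u
  have hq0 : q ≠ 0 := by have := two_le_q hF; omega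
  have hev : ∀ (i : Fin k) (v : Fin (k + j) → F),
      Cfsg.hermForm (k + j) F q (e i) v = v (Fin.castAdd j i) ^ q := by
    intro i v
    rw [Cfsg.hermForm, Finset.sum_eq_single (Fin.castAdd j i) (fun l _ hl => by simp [e, hl])
      (by simp)]
    simp [e]
  rw [normCount]
  refine Nat.card_congr (Equiv.trans (g.toEquiv.subtypeEquiv (p := fun v =>
    (∑ i, v i ^ (q + 1) = 1) ∧ ∀ i : Fin k, v (Fin.castAdd j i) = 0) fun v => ?_).symm
      { toFun := fun v => ⟨fun i => v.1 (Fin.natAdd k i), ?_⟩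
        invFun := fun w => ⟨Fin.append (fun _ => 0) w.1, ?_, fun i => by simp⟩
        left_inv := ?_
        right_inv := fun w => by ext i; simp })
  · simp only [LinearEquiv.coe_toEquiv, ← hgi, hgh, hermForm_self, hev, pow_eq_zero_iff hq0]
  · have := v.2.1
    rw [Fin.sum_univ_add, Finset.sum_eq_zero (fun i _ => by simp [v.2.2 i]), zero_add] at this
    exact this
  · rw [Fin.sum_univ_add]
    simp [w.2]
  · intro v
    refine Subtype.ext (funext fun i => ?_)
    refine Fin.addCases (fun i => ?_) (fun i => ?_) i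
    · simp [v.2.2 i]
    · simp

theorem card_frame (hF : Nat.card F = q ^ 2) : ∀ k j : ℕ, Nat.card (Frame F q (k + j) k) =
      ∏ i ∈ Finset.range k, normCount F q (j + i + 1) 1 := by
  classical
  intro k
  induction k with
  | zero =>
    intro j
    have : Unique (Frame F q (0 + j) 0) :=
      ⟨⟨⟨fun i => i.elim0, fun i => i.elim0⟩⟩, fun f => Subtype.ext (Subsingleton.elim _ _)⟩
    rw [Finset.range_zero, Finset.prod_empty]
    exact Nat.card_unique
  | succ k ih =>
    intro j
    obtain ⟨σ, hσ, -, hσ2⟩ := exists_frob hF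
    have hswap : ∀ u v : Fin (k + 1 + j) → F, Cfsg.hermForm (k + 1 + j) F q u v = 0 →
        Cfsg.hermForm (k + 1 + j) F q v u = 0 := fun u v h => by
      rw [← hermB_eq hσ, ← (hermB_isSymm hσ2 _).eq, hermB_eq hσ, h, map_zero]
    have e : Frame F q (k + 1 + j) (k + 1) ≃ Σ f : Frame F q (k + 1 + j) k,
        {v : Fin (k + 1 + j) → F // Cfsg.hermForm _ F q v v = 1 ∧
          ∀ i, Cfsg.hermForm _ F q (f.1 i) v = 0} :=
      { toFun := fun f => ⟨⟨Fin.tail f.1, fun i i' => by simpa [Fin.tail] using f.2 i.succ i'.succ⟩,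
          f.1 0, by simpa using f.2 0 0, fun i => by
            simpa [Fin.tail, Fin.succ_ne_zero] using f.2 i.succ 0⟩
        invFun := fun s => ⟨Fin.cons s.2.1 s.1.1, fun i i' => by
          induction i using Fin.cases <;> induction i' using Fin.cases
          · simp [s.2.2.1]
          · simp [(Fin.succ_ne_zero _).symm, hswap _ _ (s.2.2.2 _)]
          · simp [Fin.succ_ne_zero, s.2.2.2]
          · simp [s.1.2]⟩
        left_inv := fun f => Subtype.ext (Fin.cons_self_tail f.1)
        right_inv := fun s => rfl }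
    have : Fintype (Frame F q (k + 1 + j) k) := Fintype.ofFinite _
    have hc : ∀ f : Frame F q (k + 1 + j) k, Nat.card {v : Fin (k + 1 + j) → F //
        Cfsg.hermForm _ F q v v = 1 ∧ ∀ i, Cfsg.hermForm _ F q (f.1 i) v = 0} =
        normCount F q (j + 1) 1 := by
      rw [show k + 1 + j = k + (j + 1) by ring]
      exact fun f => card_frame_fiber hF f
    rw [Nat.card_congr e, Nat.card_sigma, Finset.sum_congr rfl fun f _ => hc f, Finset.sum_const,
      Finset.card_univ, ← Nat.card_eq_fintype_card, show k + 1 + j = k + (j + 1) by ring, ih,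
      smul_eq_mul, Finset.prod_range_succ' (fun i => normCount F q (j + i + 1) 1)]
    congr 1
    exact Finset.prod_congr rfl fun i _ => by congr 1; ring

omit [Finite F] in
theorem mem_GU_iff {n : ℕ} {g : GL (Fin n) F} :
    g ∈ Cfsg.GU n F q ↔ ∀ u v, Cfsg.hermForm n F q (g.1 *ᵥ u) (g.1 *ᵥ v) =
      Cfsg.hermForm n F q u v := Iff.rfl

omit [Finite F] in
theorem mem_GU_iff_cols {n : ℕ} {σ : F →+* F} (hσ : ∀ x, σ x = x ^ q) (hq : q ≠ 0)
    {g : GL (Fin n) F} :
    g ∈ Cfsg.GU n F q ↔ ∀ i j, Cfsg.hermForm n F q (g.1.col i) (g.1.col j) =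
      if i = j then 1 else 0 := by
  have hstd : ∀ i j : Fin n, Cfsg.hermForm n F q (Pi.single i 1) (Pi.single j 1) =
      if i = j then (1 : F) else 0 := by
    intro i j
    rw [Cfsg.hermForm, Finset.sum_eq_single i (fun l _ hl => by simp [hl]) (by simp)]
    rcases eq_or_ne i j with rfl | h <;> simp [*]
  rw [mem_GU_iff]
  constructor
  · intro h i j
    have := h (Pi.single i 1) (Pi.single j 1)
    rwa [mulVec_single_one, mulVec_single_one, hstd] at this
  · intro h u v
    have hexp : ∀ w, g.1 *ᵥ w = ∑ i, w i • g.1.col i := fun w => by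
      rw [mulVec_eq_sum]; simp [Matrix.col, Matrix.row, Matrix.transpose]
    rw [← hermB_eq hσ, ← hermB_eq hσ, hexp, hexp]
    simp only [map_sum, LinearMap.map_smulₛₗ, RingHom.id_apply, LinearMap.sum_apply,
      LinearMap.smul_apply, smul_eq_mul, hermB_eq hσ n (g.1.col _) (g.1.col _), h]
    simp [hermB_apply, Finset.sum_ite_eq, mul_comm]

theorem card_GU (hF : Nat.card F = q ^ 2) (n : ℕ) :
    Nat.card (Cfsg.GU n F q) = q ^ (n * (n - 1) / 2) *
      ∏ i ∈ Finset.range n, (if Even i then q ^ (i + 1) + 1 else q ^ (i + 1) - 1) := by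
  obtain ⟨σ, hσ, -, -⟩ := exists_frob hF
  have hq0 : q ≠ 0 := by have := two_le_q hF; omega
  have e : Cfsg.GU n F q ≃ Frame F q n n :=
    { toFun := fun g => ⟨fun i => g.1.1.col i, (mem_GU_iff_cols hσ hq0).1 g.2⟩
      invFun := fun f => ⟨GeneralLinearGroup.mkOfDetNeZero (Matrix.of fun r i => f.1 i r) (by
          refine IsUnit.ne_zero ((Matrix.isUnit_iff_isUnit_det _).1 ?_)
          exact Matrix.linearIndependent_cols_iff_isUnit.1 (frame_li hσ f)),
        (mem_GU_iff_cols hσ hq0).2 fun i j => f.2 i j⟩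
      left_inv := fun g => Subtype.ext (Units.ext rfl)
      right_inv := fun f => rfl }
  have h := card_frame hF n 0
  rw [add_zero] at h
  rw [Nat.card_congr e, h, Finset.prod_congr rfl fun i _ => by
    rw [zero_add, normCount_one_eq hF i], Finset.prod_mul_distrib, Finset.prod_pow_eq_pow_sum,
    Finset.sum_range_id]

end CfsgLib.Classical
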