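import Cfsg.Agent.Lib.Classical.OrthOrder

/-!
Zero counts and orders for `quadFormOdd`, `quadFormPlus`, `quadFormMinus`.
-/

set_option autoImplicit false

namespace CfsgLib.Classical

open QuadraticMap CfsgLib.Geometry

variable {F : Type*} [Field F]

/-- Index change for the plus form. -/
noncomputable def plusEquiv (F : Type*) [Field F] (m : ℕ) :
    (Fin m ⊕ Fin m → F) ≃ₗ[F] ((Fin m ⊕ Fin m) ⊕ Empty → F) :=
  LinearEquiv.funCongrLeft F F (Equiv.sumEmpty (Fin m ⊕ Fin m) Empty)

theorem quadFormPlus_eq (m : ℕ) (v : Fin m ⊕ Fin m → F) :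
    Cfsg.quadFormPlus m F v = splitForm m (emptyForm F) (plusEquiv F m v) := by
  simp [splitForm_apply, Cfsg.quadFormPlus, plusEquiv, emptyForm]

/-- Index change for the odd form. -/
noncomputable def oddEquiv (F : Type*) [Field F] (m : ℕ) :
    (Unit ⊕ (Fin m ⊕ Fin m) → F) ≃ₗ[F] ((Fin m ⊕ Fin m) ⊕ Unit → F) :=
  LinearEquiv.funCongrLeft F F (Equiv.sumComm (Fin m ⊕ Fin m) Unit)

theorem quadFormOdd_eq (m : ℕ) (v : Unit ⊕ (Fin m ⊕ Fin m) → F) :
    Cfsg.quadFormOdd m F v = splitForm m (lineForm F) (oddEquiv F m v) := by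
  simp [splitForm_apply, Cfsg.quadFormOdd, oddEquiv, lineForm_apply, add_comm]

theorem quadFormMinus_eq (k : ℕ) (a b : F) (v : (Fin k ⊕ Fin k) ⊕ Fin 2 → F) :
    Cfsg.quadFormMinus k F a b v = splitForm k (binForm a b) v := by
  simp [splitForm_apply, Cfsg.quadFormMinus, binForm_apply]

variable [Finite F]

theorem card_emptyForm_zeros : Nat.card {v // emptyForm F v = 0} = 1 := by
  have : Unique {v // emptyForm F v = 0} :=
    ⟨⟨⟨0, QuadraticMap.map_zero _⟩⟩, fun v => Subtype.ext (Subsingleton.elim _ _)⟩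
  exact Nat.card_unique

omit [Finite F] in
theorem card_lineForm_zeros : Nat.card {v // lineForm F v = 0} = 1 := by
  have : Unique {v // lineForm F v = 0} :=
    ⟨⟨⟨0, QuadraticMap.map_zero _⟩⟩, fun v => Subtype.ext (funext fun u => by
      have := v.2
      rw [lineForm_apply, pow_eq_zero_iff two_ne_zero] at this
      simpa using this)⟩
  exact Nat.card_unique

theorem card_zeros_plus (m : ℕ) :
    Nat.card {v // Cfsg.quadFormPlus m F v = 0} * Nat.card F + Nat.card F ^ m =
      Nat.card F ^ (m + 1) + Nat.card F ^ (2 * m) := by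
  have h := card_splitForm_zeros m (emptyForm F)
  rw [card_emptyForm_zeros, Fintype.card_empty, add_zero, mul_one, add_zero] at h
  rw [← h]
  congr 2
  exact Nat.card_congr ((plusEquiv F m).toEquiv.subtypeEquiv fun v => by
    rw [quadFormPlus_eq]; rfl)

theorem card_zeros_odd (m : ℕ) :
    Nat.card {v // Cfsg.quadFormOdd m F v = 0} = Nat.card F ^ (2 * m) := by
  have h := card_splitForm_zeros m (lineForm F)
  rw [card_lineForm_zeros, Fintype.card_unit, mul_one, add_comm (Nat.card F ^ (m + 1))] at h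
  have h' := Nat.add_right_cancel h
  refine Nat.eq_of_mul_eq_mul_right (Nat.card_pos : 0 < Nat.card F) ?_
  rw [← pow_succ, ← h']
  congr 1
  exact Nat.card_congr ((oddEquiv F m).toEquiv.subtypeEquiv fun v => by
    rw [quadFormOdd_eq]; rfl)

theorem card_zeros_minus (k : ℕ) {a b : F} (h : BinAniso a b) :
    Nat.card {v // Cfsg.quadFormMinus k F a b v = 0} * Nat.card F + Nat.card F ^ (k + 2) =
      Nat.card F ^ (k + 1) + Nat.card F ^ (2 * k + 2) := by
  have h' := card_splitForm_zeros k (binForm a b)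
  rw [card_binForm_zeros h, Fintype.card_fin, mul_one] at h'
  rw [← h']
  congr 2
  exact Nat.card_congr (Equiv.subtypeEquivRight fun v => by rw [quadFormMinus_eq])

theorem one_le_pow_card (n : ℕ) : 1 ≤ Nat.card F ^ n := Nat.one_le_pow _ _ Nat.card_pos

/-- `|O⁺_{2(k+1)}(q)|`. -/
theorem card_isometry_plus (k : ℕ) :
    Nat.card (Cfsg.isometryGroup F (Cfsg.quadFormPlus (k + 1) F)) =
      2 * Nat.card F ^ ((k + 1) * k) * (Nat.card F ^ (k + 1) - 1) *
        ∏ i ∈ Finset.range k, (Nat.card F ^ (2 * (i + 1)) - 1) := by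
  rw [card_isometryGroup _ _ (plusEquiv F (k + 1)) (quadFormPlus_eq (k + 1)),
    card_orth_splitForm emptyForm_nondeg, card_orth_emptyForm, one_mul, Fintype.card_empty]
  have hz : ∀ i, Nat.card {v // splitForm (i + 1) (emptyForm F) v = 0} - 1 =
      (Nat.card F ^ (i + 1) - 1) * (Nat.card F ^ i + 1) := by
    intro i
    have h := card_splitForm_zeros (i + 1) (emptyForm F)
    rw [card_emptyForm_zeros, Fintype.card_empty, add_zero, mul_one, add_zero] at h
    obtain ⟨Z, hZ⟩ : ∃ Z, Nat.card {v // splitForm (i + 1) (emptyForm F) v = 0} = Z + 1 :=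
      ⟨_, (Nat.succ_pred_eq_of_pos (Nat.card_pos_iff.2
        ⟨⟨⟨0, QuadraticMap.map_zero _⟩⟩, inferInstance⟩)).symm⟩
    obtain ⟨A, hA⟩ : ∃ A, Nat.card F ^ (i + 1) = A + 1 :=
      ⟨_, (Nat.sub_add_cancel (one_le_pow_card (F := F) (i + 1))).symm⟩
    rw [hZ, hA, Nat.add_sub_cancel, Nat.add_sub_cancel]
    refine Nat.eq_of_mul_eq_mul_right (Nat.card_pos : 0 < Nat.card F) ?_
    rw [hZ, pow_succ _ (i + 1), show 2 * (i + 1) = (i + 1) + (i + 1) by ring, pow_add (Nat.card F) (i + 1),
      hA] at h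
    rw [pow_succ] at hA
    rw [mul_assoc, add_mul, hA]
    linear_combination h
  simp only [hz, add_zero]
  induction k with
  | zero => simp [mul_comm]
  | succ k ih =>
    rw [Finset.prod_range_succ, ih, Finset.prod_range_succ]
    have hp : (Nat.card F ^ (k + 1) - 1) * (Nat.card F ^ (k + 1) + 1) =
        Nat.card F ^ (2 * (k + 1)) - 1 := by
      rw [mul_comm, ← Nat.sq_sub_sq, one_pow, ← pow_mul, mul_comm (k + 1) 2]
    rw [← hp]
    ring

/-- `|O_{2m+1}(q)|`, `q` odd. -/
theorem card_isometry_odd (h2 : (2 : F) ≠ 0) (m : ℕ) :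
    Nat.card (Cfsg.isometryGroup F (Cfsg.quadFormOdd m F)) =
      2 * Nat.card F ^ (m ^ 2) * ∏ i ∈ Finset.range m, (Nat.card F ^ (2 * (i + 1)) - 1) := by
  rw [card_isometryGroup _ _ (oddEquiv F m) (quadFormOdd_eq m),
    card_orth_splitForm (lineForm_nondeg h2), card_orth_lineForm h2, Fintype.card_unit]
  have hz : ∀ i, Nat.card {v // splitForm i (lineForm F) v = 0} = Nat.card F ^ (2 * i) := fun i => by
    rw [← card_zeros_odd (F := F) i]
    exact Nat.card_congr ((oddEquiv F i).toEquiv.subtypeEquiv fun v => by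
      rw [quadFormOdd_eq]; rfl).symm
  simp only [hz]
  rw [Finset.prod_mul_distrib, Finset.prod_pow_eq_pow_sum,
    show ∑ i ∈ Finset.range m, (2 * i + 1) = m ^ 2 by
      clear hz; induction m with
      | zero => rfl
      | succ m ih => rw [Finset.sum_range_succ, ih]; ring]
  ring

/-- `|O⁻_{2(k+1)}(q)|`. -/
theorem card_isometry_minus (k : ℕ) {a b : F} (h : BinAniso a b) :
    Nat.card (Cfsg.isometryGroup F (Cfsg.quadFormMinus k F a b)) =
      2 * Nat.card F ^ ((k + 1) * k) * (Nat.card F ^ (k + 1) + 1) *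
        ∏ i ∈ Finset.range k, (Nat.card F ^ (2 * (i + 1)) - 1) := by
  rw [card_isometryGroup _ _ (LinearEquiv.refl F _) (quadFormMinus_eq k a b),
    card_orth_splitForm (binForm_nondeg h), card_orth_binForm h, Fintype.card_fin]
  have hz : ∀ i, Nat.card {v // splitForm (i + 1) (binForm a b) v = 0} - 1 =
      (Nat.card F ^ (i + 1) - 1) * (Nat.card F ^ (i + 2) + 1) := by
    intro i
    have h' := card_splitForm_zeros (i + 1) (binForm a b)
    rw [card_binForm_zeros h, Fintype.card_fin, mul_one] at h'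
    obtain ⟨Z, hZ⟩ : ∃ Z, Nat.card {v // splitForm (i + 1) (binForm a b) v = 0} = Z + 1 :=
      ⟨_, (Nat.succ_pred_eq_of_pos (Nat.card_pos_iff.2
        ⟨⟨⟨0, QuadraticMap.map_zero _⟩⟩, inferInstance⟩)).symm⟩
    obtain ⟨A, hA⟩ : ∃ A, Nat.card F ^ (i + 1) = A + 1 :=
      ⟨_, (Nat.sub_add_cancel (one_le_pow_card (F := F) (i + 1))).symm⟩
    rw [hZ, hA, Nat.add_sub_cancel, Nat.add_sub_cancel]
    refine Nat.eq_of_mul_eq_mul_right (Nat.card_pos : 0 < Nat.card F) ?_
    rw [hZ] at h'
    rw [show i + 2 = (i + 1) + 1 by ring, pow_succ _ (i + 1), hA]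
    rw [show i + 1 + 2 = (i + 1) + 1 + 1 by ring,
      show Nat.card F ^ (2 * (i + 1) + 2) = (A + 1) * (A + 1) * Nat.card F * Nat.card F by
        rw [← hA]; ring,
      show Nat.card F ^ ((i + 1) + 1 + 1) = (A + 1) * Nat.card F * Nat.card F by rw [← hA]; ring,
      show Nat.card F ^ ((i + 1) + 1) = (A + 1) * Nat.card F by rw [← hA]; ring] at h'
    linear_combination h'
  simp only [hz]
  induction k with
  | zero => simp
  | succ k ih =>
    rw [Finset.prod_range_succ, ← mul_assoc, ih, Finset.prod_range_succ]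
    have hp : (Nat.card F ^ (k + 1) - 1) * (Nat.card F ^ (k + 1) + 1) =
        Nat.card F ^ (2 * (k + 1)) - 1 := by
      rw [mul_comm, ← Nat.sq_sub_sq, one_pow, ← pow_mul, mul_comm (k + 1) 2]
    rw [← hp]
    ring

end CfsgLib.Classical
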