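import Cfsg.Agent.Lib.Classical.UnitarySU
import Cfsg.Prelude.Def_ClassicalGeometry

/-!
Unitary transvections and Siegel transformations in `SU`, conjugation by `GU`.
-/

set_option autoImplicit false

namespace CfsgLib.Classical.Unitary

open Matrix

/-- `σ` is the involutive automorphism `x ↦ x ^ q`. -/
structure UFrob {F : Type*} [Field F] (σ : F →+* F) (q : ℕ) : Prop where
  pow : ∀ x, σ x = x ^ q
  ne : σ ≠ RingHom.id F
  invol : ∀ x, σ (σ x) = x

theorem exists_uFrob {F : Type*} [Field F] [Finite F] {q : ℕ} (hF : Nat.card F = q ^ 2) :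
    ∃ σ : F →+* F, UFrob σ q := by
  obtain ⟨σ, h1, h2, h3⟩ := exists_frob hF
  exact ⟨σ, h1, h2, h3⟩

variable {F : Type*} [Field F] {σ : F →+* F} {q n : ℕ}

/-- The Hermitian form, linear on the left. -/
def uh (σ : F →+* F) (u v : Fin n → F) : F := u ⬝ᵥ (σ ∘ v)

theorem uh_add_left (u v w : Fin n → F) : uh σ (u + v) w = uh σ u w + uh σ v w := add_dotProduct _ _ _

theorem uh_sub_left (u v w : Fin n → F) : uh σ (u - v) w = uh σ u w - uh σ v w := sub_dotProduct _ _ _

theorem uh_smul_left (c : F) (u v : Fin n → F) : uh σ (c • u) v = c * uh σ u v := by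
  simp [uh]

theorem uh_add_right (u v w : Fin n → F) : uh σ u (v + w) = uh σ u v + uh σ u w := by
  simp [uh, dotProduct, mul_add, Finset.sum_add_distrib]

theorem uh_sub_right (u v w : Fin n → F) : uh σ u (v - w) = uh σ u v - uh σ u w := by
  simp [uh, dotProduct, mul_sub, Finset.sum_sub_distrib]

theorem uh_smul_right (c : F) (u v : Fin n → F) : uh σ u (c • v) = σ c * uh σ u v := by
  simp [uh, dotProduct, Finset.mul_sum, mul_left_comm]

theorem uh_zero_left (v : Fin n → F) : uh σ 0 v = 0 := by simp [uh]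

theorem uh_zero_right (v : Fin n → F) : uh σ v 0 = 0 := by simp [uh, dotProduct]

theorem uh_single_left (i : Fin n) (c : F) (v : Fin n → F) :
    uh σ (Pi.single i c) v = c * σ (v i) := by simp [uh]

theorem uh_single_right (i : Fin n) (c : F) (v : Fin n → F) :
    uh σ v (Pi.single i c) = v i * σ c := by
  rw [uh, show σ ∘ (Pi.single i c : Fin n → F) = Pi.single i (σ c) from
    funext fun j => by rcases eq_or_ne j i with rfl | h <;> simp [*]]
  simp

theorem UFrob.symm (h : UFrob σ q) (u v : Fin n → F) : σ (uh σ u v) = uh σ v u := by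
  simp [uh, dotProduct, map_sum, h.invol, mul_comm]

theorem UFrob.swap_zero (h : UFrob σ q) {u v : Fin n → F} (hu : uh σ u v = 0) : uh σ v u = 0 := by
  rw [← h.symm, hu, map_zero]

theorem UFrob.hermForm_eq (h : UFrob σ q) (u v : Fin n → F) :
    Cfsg.hermForm n F q u v = uh σ u v := by
  simp [Cfsg.hermForm, uh, dotProduct, h.pow]

theorem exists_uh_eq_one (h : UFrob σ q) {v : Fin n → F} (hv : v ≠ 0) : ∃ x, uh σ x v = 1 := by
  obtain ⟨i, hi⟩ := Function.ne_iff.1 hv
  exact ⟨Pi.single i (σ (v i))⁻¹, by rw [uh_single_left, inv_mul_cancel₀]; simpa using hi⟩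

theorem uh_ext (h : UFrob σ q) {u v : Fin n → F} (he : ∀ x, uh σ x u = uh σ x v) : u = v := by
  funext i
  have := he (Pi.single i 1)
  simp only [uh_single_left, one_mul] at this
  exact σ.injective this

/-- The rank one map `x ↦ h(x,u) w`. -/
def r1 (σ : F →+* F) (w u : Fin n → F) : Matrix (Fin n) (Fin n) F := vecMulVec w (σ ∘ u)

theorem r1_mulVec (w u x : Fin n → F) : r1 σ w u *ᵥ x = uh σ x u • w := by
  ext i
  simp only [r1, vecMulVec, mulVec, dotProduct, uh, Matrix.of_apply, Pi.smul_apply, smul_eq_mul, Function.comp_apply, Finset.sum_mul]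
  exact Finset.sum_congr rfl fun j _ => by ring

/-- `x ↦ x + c h(x,v) v`. -/
def tMat (σ : F →+* F) (v : Fin n → F) (c : F) : Matrix (Fin n) (Fin n) F := 1 + c • r1 σ v v

theorem tMat_mulVec (v x : Fin n → F) (c : F) :
    tMat σ v c *ᵥ x = x + (c * uh σ x v) • v := by
  rw [tMat, add_mulVec, one_mulVec, smul_mulVec, r1_mulVec, smul_smul]

theorem UFrob.unitaryTransvection_eq (h : UFrob σ q) (v : Fin n → F) (c : F) :
    Cfsg.unitaryTransvection n q v c = tMat σ v c := by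
  rw [Cfsg.unitaryTransvection, tMat, r1]
  congr 3
  funext j
  exact (h.pow _).symm

theorem det_tMat (v : Fin n → F) (c : F) : (tMat σ v c).det = 1 + c * uh σ v v := by
  rw [tMat, r1, ← smul_vecMulVec, vecMulVec_eq Unit, det_one_add_replicateCol_mul_replicateRow,
    dotProduct_comm, smul_dotProduct, smul_eq_mul]
  rfl

theorem tMat_preserves_iff (h : UFrob σ q) {v : Fin n → F} (hv : v ≠ 0) (hvv : uh σ v v = 0)
    (c : F) : (∀ x y, uh σ (tMat σ v c *ᵥ x) (tMat σ v c *ᵥ y) = uh σ x y) ↔ c + σ c = 0 := by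
  have key : ∀ x y, uh σ (tMat σ v c *ᵥ x) (tMat σ v c *ᵥ y) =
      uh σ x y + (c + σ c) * (uh σ x v * uh σ v y) := fun x y => by
    simp only [tMat_mulVec, uh_add_left, uh_add_right, uh_smul_left, uh_smul_right, map_mul,
      h.symm, hvv]
    ring
  refine ⟨fun hp => ?_, fun hc x y => by rw [key, hc, zero_mul, add_zero]⟩
  obtain ⟨x, hx⟩ := exists_uh_eq_one h hv
  have := hp x x
  rw [key, hx, ← h.symm x v, hx, map_one, one_mul, mul_one] at this
  exact left_eq_add.1 this.symm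

/-- The transvection as an element of `SU`. -/
def utv (h : UFrob σ q) (v : Fin n → F) (c : F) (hv : uh σ v v = 0) (hc : c + σ c = 0) :
    Cfsg.SU n F q :=
  ⟨⟨tMat σ v c, by rw [det_tMat, hv, mul_zero, add_zero]⟩, mem_SU_iff.2 fun x y => by
    rw [h.hermForm_eq, h.hermForm_eq]
    rcases eq_or_ne v 0 with rfl | hv0
    · simp [tMat_mulVec]
    · exact (tMat_preserves_iff h hv0 hv c).2 hc x y⟩

theorem su_uh (h : UFrob σ q) (g : Cfsg.SU n F q) (x y : Fin n → F) :
    uh σ (g.1.1 *ᵥ x) (g.1.1 *ᵥ y) = uh σ x y := by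
  rw [← h.hermForm_eq, ← h.hermForm_eq]
  exact mem_SU_iff.1 g.2 x y

theorem su_ext {g k : Cfsg.SU n F q} (he : ∀ x, g.1.1 *ᵥ x = k.1.1 *ᵥ x) : g = k :=
  Subtype.ext (Subtype.ext (Matrix.ext_iff_mulVec.2 he))

theorem su_mul_mulVec (g k : Cfsg.SU n F q) (x : Fin n → F) :
    (g * k).1.1 *ᵥ x = g.1.1 *ᵥ (k.1.1 *ᵥ x) := by
  rw [mulVec_mulVec]; rfl

theorem su_one_mulVec (x : Fin n → F) : (1 : Cfsg.SU n F q).1.1 *ᵥ x = x := one_mulVec x

theorem su_inv_mulVec (g : Cfsg.SU n F q) (x : Fin n → F) :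
    (g⁻¹).1.1 *ᵥ (g.1.1 *ᵥ x) = x := by
  rw [← su_mul_mulVec, inv_mul_cancel, su_one_mulVec]

theorem su_mulVec_inv (g : Cfsg.SU n F q) (x : Fin n → F) :
    g.1.1 *ᵥ ((g⁻¹).1.1 *ᵥ x) = x := by
  rw [← su_mul_mulVec, mul_inv_cancel, su_one_mulVec]

@[simp] theorem utv_mulVec (h : UFrob σ q) (v : Fin n → F) (c : F) (hv : uh σ v v = 0)
    (hc : c + σ c = 0) (x : Fin n → F) :
    (utv h v c hv hc).1.1 *ᵥ x = x + (c * uh σ x v) • v := tMat_mulVec v x c

theorem add_skew {c d : F} (hc : c + σ c = 0) (hd : d + σ d = 0) : c + d + σ (c + d) = 0 := by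
  rw [map_add]; linear_combination hc + hd

theorem utv_mul (h : UFrob σ q) (v : Fin n → F) {c d : F} (hv : uh σ v v = 0)
    (hc : c + σ c = 0) (hd : d + σ d = 0) :
    utv h v c hv hc * utv h v d hv hd = utv h v (c + d) hv (add_skew hc hd) := by
  refine su_ext fun x => ?_
  simp only [su_mul_mulVec, utv_mulVec, uh_add_left, uh_smul_left, hv]
  module

/-- The subgroup generated by the unitary transvections. -/
def transvGroup (n : ℕ) (F : Type*) [Field F] (q : ℕ) : Subgroup (Cfsg.SU n F q) :=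
  Subgroup.closure {A : ↥(Cfsg.SU n F q) | ∃ (v : Fin n → F) (c : F),
    Cfsg.hermForm n F q v v = 0 ∧
      ((A : Matrix.SpecialLinearGroup (Fin n) F) : Matrix (Fin n) (Fin n) F) =
        Cfsg.unitaryTransvection n q v c}

theorem utv_mem (h : UFrob σ q) (v : Fin n → F) (c : F) (hv : uh σ v v = 0) (hc : c + σ c = 0) :
    utv h v c hv hc ∈ transvGroup n F q :=
  Subgroup.subset_closure ⟨v, c, by rw [h.hermForm_eq, hv], (h.unitaryTransvection_eq v c).symm⟩

theorem mem_of_eq_utv (h : UFrob σ q) {H : Subgroup (Cfsg.SU n F q)}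
    (hH : ∀ v c hv hc, utv h v c hv hc ∈ H) : transvGroup n F q ≤ H := by
  refine (Subgroup.closure_le _).2 ?_
  rintro A ⟨v, c, hv, hA⟩
  rw [h.hermForm_eq] at hv
  rw [h.unitaryTransvection_eq] at hA
  rcases eq_or_ne v 0 with rfl | hv0
  · have : A = 1 := su_ext fun x => by rw [hA, tMat_mulVec, smul_zero, add_zero, su_one_mulVec]
    rw [this]; exact one_mem _
  have hc : c + σ c = 0 :=
    (tMat_preserves_iff h hv0 hv c).1 fun x y => by rw [← hA]; exact su_uh h A x y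
  have : A = utv h v c hv hc := Subtype.ext (Subtype.ext hA)
  rw [this]; exact hH v c hv hc

theorem gu_uh (h : UFrob σ q) {g : GL (Fin n) F} (hg : g ∈ Cfsg.GU n F q) (x y : Fin n → F) :
    uh σ (g.1 *ᵥ x) (g.1 *ᵥ y) = uh σ x y := by
  rw [← h.hermForm_eq, ← h.hermForm_eq]
  exact hg x y

/-- Conjugation of `SU` by an element of `GU`. -/
def guConj (h : UFrob σ q) (g : GL (Fin n) F) (hg : g ∈ Cfsg.GU n F q) :
    Cfsg.SU n F q →* Cfsg.SU n F q where
  toFun k := ⟨⟨g.1 * k.1.1 * (g⁻¹).1, by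
      rw [det_mul, det_mul, k.1.2, mul_one, ← det_mul, g.mul_inv, det_one]⟩,
    mem_SU_iff.2 fun x y => by
      show Cfsg.hermForm n F q ((g.1 * k.1.1 * (g⁻¹).1) *ᵥ x) ((g.1 * k.1.1 * (g⁻¹).1) *ᵥ y) = _
      rw [h.hermForm_eq, h.hermForm_eq, ← mulVec_mulVec, ← mulVec_mulVec, ← mulVec_mulVec,
        ← mulVec_mulVec, gu_uh h hg, su_uh h, gu_uh h (inv_mem hg)]⟩
  map_one' := Subtype.ext (Subtype.ext (by
    show g.1 * 1 * (g⁻¹).1 = 1
    rw [mul_one, g.mul_inv]))
  map_mul' a b := Subtype.ext (Subtype.ext (by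
    show g.1 * (a.1.1 * b.1.1) * (g⁻¹).1 = g.1 * a.1.1 * (g⁻¹).1 * (g.1 * b.1.1 * (g⁻¹).1)
    simp only [mul_assoc]
    rw [← mul_assoc (g⁻¹).1 g.1, g.inv_mul, one_mul]))

theorem guConj_mulVec (h : UFrob σ q) (g : GL (Fin n) F) (hg : g ∈ Cfsg.GU n F q)
    (k : Cfsg.SU n F q) (x : Fin n → F) :
    (guConj h g hg k).1.1 *ᵥ (g.1 *ᵥ x) = g.1 *ᵥ (k.1.1 *ᵥ x) := by
  show (g.1 * k.1.1 * (g⁻¹).1) *ᵥ (g.1 *ᵥ x) = _
  rw [mulVec_mulVec, mul_assoc, g.inv_mul, mul_one, ← mulVec_mulVec]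

theorem guConj_utv (h : UFrob σ q) (g : GL (Fin n) F) (hg : g ∈ Cfsg.GU n F q) (v : Fin n → F)
    (c : F) (hv : uh σ v v = 0) (hc : c + σ c = 0) :
    guConj h g hg (utv h v c hv hc) = utv h (g.1 *ᵥ v) c (by rw [gu_uh h hg, hv]) hc := by
  refine su_ext fun y => ?_
  have hy : y = g.1 *ᵥ ((g⁻¹).1 *ᵥ y) := by rw [mulVec_mulVec, g.mul_inv, one_mulVec]
  rw [hy, guConj_mulVec, utv_mulVec, utv_mulVec, gu_uh h hg, mulVec_add, mulVec_smul]

theorem guConj_mem (h : UFrob σ q) (g : GL (Fin n) F) (hg : g ∈ Cfsg.GU n F q)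
    {k : Cfsg.SU n F q} (hk : k ∈ transvGroup n F q) : guConj h g hg k ∈ transvGroup n F q :=
  (mem_of_eq_utv h (H := (transvGroup n F q).comap (guConj h g hg)) fun v c hv hc => by
    rw [Subgroup.mem_comap, guConj_utv]
    exact utv_mem h _ _ _ _) hk

theorem transvGroup_normal (h : UFrob σ q) : (transvGroup n F q).Normal := by
  refine ⟨fun k hk g => ?_⟩
  have hg : Matrix.SpecialLinearGroup.toGL g.1 ∈ Cfsg.GU n F q := fun x y => g.2 x y
  have he : g * k * g⁻¹ = guConj h _ hg k := su_ext fun x => by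
    have hx : x = (Matrix.SpecialLinearGroup.toGL g.1).1 *ᵥ ((g⁻¹).1.1 *ᵥ x) :=
      (su_mulVec_inv g x).symm
    rw [su_mul_mulVec, su_mul_mulVec]
    conv_rhs => rw [hx, guConj_mulVec]
    rfl
  rw [he]
  exact guConj_mem h _ hg hk

/-- The Siegel transformation `x ↦ x + a h(x,u) w + (c h(x,u) - σa h(x,w)) u`. -/
def sMat (σ : F →+* F) (u w : Fin n → F) (a c : F) : Matrix (Fin n) (Fin n) F :=
  1 + (a • r1 σ w u + c • r1 σ u u - σ a • r1 σ u w)

theorem sMat_mulVec (u w x : Fin n → F) (a c : F) :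
    sMat σ u w a c *ᵥ x = x + (a * uh σ x u) • w + (c * uh σ x u - σ a * uh σ x w) • u := by
  simp only [sMat, add_mulVec, sub_mulVec, one_mulVec, smul_mulVec, r1_mulVec]
  module

theorem det_sMat (u w : Fin n → F) (a c : F) (hu : uh σ u u = 0) (hwu : uh σ w u = 0)
    (huw : uh σ u w = 0) : (sMat σ u w a c).det = 1 := by
  let P : Matrix (Fin n) (Fin 2) F := Matrix.of fun i j => ![u i, w i] j
  let Q : Matrix (Fin 2) (Fin n) F := Matrix.of ![fun i => c * σ (u i) - σ a * σ (w i),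
    fun i => a * σ (u i)]
  have hPQ : sMat σ u w a c = 1 + P * Q := by
    ext i j
    simp [sMat, r1, vecMulVec, Matrix.mul_apply, P, Q, Fin.sum_univ_two]
    ring
  have hu' : ∑ i, σ (u i) * u i = 0 := by
    rw [← hu]; exact Finset.sum_congr rfl fun i _ => mul_comm _ _
  have hwu' : ∑ i, σ (u i) * w i = 0 := by
    rw [← hwu]; exact Finset.sum_congr rfl fun i _ => mul_comm _ _
  have huw' : ∑ i, σ (w i) * u i = 0 := by
    rw [← huw]; exact Finset.sum_congr rfl fun i _ => mul_comm _ _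
  rw [hPQ, det_one_add_mul_comm, det_fin_two]
  simp [P, Q, vecMul, dotProduct, sub_mul, Finset.sum_sub_distrib, mul_assoc, ← Finset.mul_sum,
    hu', hwu', huw']

/-- The Siegel transformation as an element of `SU`. -/
def usg (h : UFrob σ q) (u w : Fin n → F) (a c : F) (hu : uh σ u u = 0) (hwu : uh σ w u = 0)
    (hc : c + σ c + a * σ a * uh σ w w = 0) : Cfsg.SU n F q :=
  ⟨⟨sMat σ u w a c, det_sMat u w a c hu hwu (h.swap_zero hwu)⟩, mem_SU_iff.2 fun x y => by
    show Cfsg.hermForm n F q (sMat σ u w a c *ᵥ x) (sMat σ u w a c *ᵥ y) = _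
    simp only [h.hermForm_eq, sMat_mulVec, uh_add_left, uh_add_right, uh_smul_left, uh_smul_right,
      map_sub, map_mul, h.invol, h.symm, hu, hwu, h.swap_zero hwu]
    linear_combination (uh σ x u * uh σ u y) * hc⟩

theorem usg_mulVec (h : UFrob σ q) (u w x : Fin n → F) (a c : F) (hu : uh σ u u = 0)
    (hwu : uh σ w u = 0) (hc : c + σ c + a * σ a * uh σ w w = 0) :
    (usg h u w a c hu hwu hc).1.1 *ᵥ x =
      x + (a * uh σ x u) • w + (c * uh σ x u - σ a * uh σ x w) • u :=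
  sMat_mulVec u w x a c

theorem exists_trace (h : UFrob σ q) : ∃ θ : F, θ + σ θ = 1 :=
  CfsgLib.Geometry.exists_trace_one h.ne h.invol

/-- A transvection at `u` is a commutator of two Siegel transformations at `u`. -/
theorem utv_mem_commutatorSet_of_perp (h : UFrob σ q) {u w : Fin n → F} (hu : uh σ u u = 0)
    (hwu : uh σ w u = 0) (hw : uh σ w w = 1) (k : F) (hk : k + σ k = 0) :
    utv h u k hu hk ∈ commutatorSet (Cfsg.SU n F q) := by
  obtain ⟨θ, hθ⟩ := exists_trace h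
  have hn : ∀ a : F, -(θ * (a * σ a)) + σ (-(θ * (a * σ a))) + a * σ a * uh σ w w = 0 := fun a => by
    simp only [map_neg, map_mul, h.invol, hw]
    linear_combination (-(a * σ a)) * hθ
  let s := -(θ * k)
  let E := usg h u w 1 _ hu hwu (hn 1)
  let G := usg h u w s _ hu hwu (hn s)
  refine ⟨E, G, ?_⟩
  have : E * G = utv h u k hu hk * (G * E) := by
    refine su_ext fun x => ?_
    simp only [E, G, su_mul_mulVec, usg_mulVec, utv_mulVec, uh_add_left, uh_smul_left, hu, hwu, hw,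
      h.swap_zero hwu, map_one]
    match_scalars
    · ring
    · ring
    · simp only [s, map_neg, map_mul]
      linear_combination (uh σ x u) * (k * hθ - σ θ * hk)
  rw [commutatorElement_def, this]
  group

end CfsgLib.Classical.Unitary
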