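import Mathlib
import Cfsg.Agent.Lib.Classical.UnitaryTransv

/-! The field of order `q²` over the field of order `q`, split by a given anisotropic binary form. -/

set_option autoImplicit false

namespace CfsgLib.Classical

open Polynomial Unitary

/-- `K = F(t)` where `t` and `σ t` are the roots of `T² - aT + b`, and `σ` generates the Galois group. -/
structure QuadExt (F K : Type*) [Field F] [Field K] [Algebra F K] (σ : K →+* K) (t : K) (a b : F) :
    Prop where
  fix : ∀ x : K, σ x = x → ∃ c : F, algebraMap F K c = x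
  map : ∀ c : F, σ (algebraMap F K c) = algebraMap F K c
  invol : ∀ x, σ (σ x) = x
  tsum : t + σ t = algebraMap F K a
  tprod : t * σ t = algebraMap F K b
  basis : ∀ x : K, ∃ z₁ z₂ : F, x = algebraMap F K z₁ + algebraMap F K z₂ * t
  tne : σ t - t ≠ 0

variable {F K : Type*} [Field F] [Field K] [Finite F] [Finite K]

theorem exists_quadExt {q : ℕ} (hF : Nat.card F = q) (hK : Nat.card K = q ^ 2) {a b : F}
    (hab : ∀ z₁ z₂ : F, z₁ ^ 2 + a * z₁ * z₂ + b * z₂ ^ 2 = 0 → z₁ = 0 ∧ z₂ = 0) :
    ∃ (_ : Algebra F K) (σ : K →+* K) (t : K), QuadExt F K σ t a b ∧ UFrob σ q := by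
  obtain ⟨σ, hσ⟩ := exists_uFrob hK
  let P : F[X] := X ^ 2 - C a * X + C b
  have hdeg : P.natDegree = 2 := by simp only [P]; compute_degree!
  have hmon : P.Monic := by simp only [P]; monicity!
  have hroot : ∀ z : F, P.eval z ≠ 0 := fun z hz => by
    refine one_ne_zero (hab (-z) 1 ?_).2
    simp [P] at hz
    linear_combination hz
  have hirr : Irreducible P := by
    rw [hmon.irreducible_iff_roots_eq_zero_of_degree_le_three (by omega) (by omega)]
    refine Multiset.eq_zero_of_forall_notMem fun z hz => ?_
    exact hroot z ((mem_roots hmon.ne_zero).1 hz)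
  haveI : Fact (Irreducible P) := ⟨hirr⟩
  have : Module.Finite F (AdjoinRoot P) := (AdjoinRoot.powerBasis hmon.ne_zero).finite
  have : Finite (AdjoinRoot P) := Module.finite_of_finite F
  have hcard : Nat.card (AdjoinRoot P) = Nat.card K := by
    rw [Module.natCard_eq_pow_finrank (K := F), (AdjoinRoot.powerBasis hmon.ne_zero).finrank,
      AdjoinRoot.powerBasis_dim, hdeg, hF, hK]
  have := Fintype.ofFinite (AdjoinRoot P)
  have := Fintype.ofFinite K
  have := Fintype.ofFinite F
  let e : AdjoinRoot P ≃+* K :=
    FiniteField.ringEquivOfCardEq (by simpa [Nat.card_eq_fintype_card] using hcard)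
  let alg : Algebra F K := (e.toRingHom.comp (AdjoinRoot.of P)).toAlgebra
  refine ⟨alg, σ, e (AdjoinRoot.root P), ?_, hσ⟩
  set t := e (AdjoinRoot.root P) with ht
  have hmap : ∀ c : F, σ (algebraMap F K c) = algebraMap F K c := fun c => by
    rw [hσ.pow, ← map_pow, ← hF, Nat.card_eq_fintype_card, FiniteField.pow_card]
  have ht0 : t ^ 2 - algebraMap F K a * t + algebraMap F K b = 0 := by
    have h := AdjoinRoot.eval₂_root P
    simp [P] at h
    have := congrArg e h
    simp only [map_add, map_sub, map_mul, map_pow, map_zero] at this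
    exact this
  have hinj : Function.Injective fun z : F × F => algebraMap F K z.1 + algebraMap F K z.2 * t := by
    intro u v huv
    have h : algebraMap F K (u.1 - v.1) + algebraMap F K (u.2 - v.2) * t = 0 := by
      simp only at huv
      rw [map_sub, map_sub]; linear_combination huv
    by_cases h2 : u.2 - v.2 = 0
    · rw [h2, map_zero, zero_mul, add_zero, map_eq_zero] at h
      exact Prod.ext (sub_eq_zero.1 h) (sub_eq_zero.1 h2)
    · refine absurd ?_ (hroot (-(u.1 - v.1) / (u.2 - v.2)))
      have ht' : algebraMap F K (-(u.1 - v.1) / (u.2 - v.2)) = t := by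
        rw [map_div₀, map_neg, div_eq_iff ((_root_.map_ne_zero _).2 h2)]
        linear_combination -h
      apply (algebraMap F K).injective
      rw [map_zero]
      generalize -(u.1 - v.1) / (u.2 - v.2) = z at ht'
      simp [P, ht']
      linear_combination ht0
  have hbij := ((Nat.bijective_iff_injective_and_card _).2
    ⟨hinj, by rw [Nat.card_prod, hF, hK]; ring⟩).2
  have hbasis : ∀ x : K, ∃ z₁ z₂ : F, x = algebraMap F K z₁ + algebraMap F K z₂ * t := fun x => by
    obtain ⟨z, hz⟩ := hbij x
    exact ⟨z.1, z.2, hz.symm⟩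
  have htne : σ t - t ≠ 0 := fun h => hσ.ne (RingHom.ext fun x => by
    obtain ⟨z₁, z₂, rfl⟩ := hbasis x
    simp [hmap, sub_eq_zero.1 h])
  have hst : σ t ^ 2 - algebraMap F K a * σ t + algebraMap F K b = 0 := by
    have := congrArg σ ht0
    simpa [hmap] using this
  have hsum : t + σ t = algebraMap F K a := by
    have : (σ t - t) * (t + σ t - algebraMap F K a) = 0 := by linear_combination hst - ht0
    exact sub_eq_zero.1 ((mul_eq_zero.1 this).resolve_left htne)
  refine ⟨fun x hx => ?_, hmap, hσ.invol, hsum, ?_, hbasis, htne⟩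
  · obtain ⟨z₁, z₂, rfl⟩ := hbasis x
    simp [hmap] at hx
    rcases hx with hx | hx
    · exact absurd (sub_eq_zero.2 hx) htne
    · exact ⟨z₁, by simp [hx]⟩
  · linear_combination t * hsum - ht0

end CfsgLib.Classical
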