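import Cfsg.Agent.Lib.Classical.ExcepFrame
import Cfsg.Agent.Lib.Classical.OrthStd
import Cfsg.Agent.Lib.Classical.QuadExt

/-! `PΩ⁻₄(q) ≅ PSL₂(q²)` through the action on Hermitian two by two matrices. -/

set_option autoImplicit false

namespace CfsgLib.Classical

open QuadraticMap CfsgLib.Geometry Matrix

variable {F K : Type*} [Field F] [Field K] [Algebra F K] {σ : K →+* K} {t : K} {a b : F}

theorem anisotropic_apply {a b : F} (hab : ∀ z₁ z₂ : F, z₁ ^ 2 + a * z₁ * z₂ + b * z₂ ^ 2 = 0 →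
    z₁ = 0 ∧ z₂ = 0) (z : Fin 2 → F) (h : z 0 ^ 2 + a * z 0 * z 1 + b * z 1 ^ 2 = 0) : z = 0 := by
  funext i; fin_cases i
  · exact (hab _ _ h).1
  · exact (hab _ _ h).2

/-- In Witt index one no two singular vectors are independent and orthogonal. -/
theorem splitSingular_minus_one {a b : F} (hab : ∀ z₁ z₂ : F,
    z₁ ^ 2 + a * z₁ * z₂ + b * z₂ ^ 2 = 0 → z₁ = 0 ∧ z₂ = 0) :
    SplitSingular (matQuad (minusMat 1 F a b)) := by
  intro e u he0 he heu hu
  left
  set Q := matQuad (minusMat 1 F a b) with hQ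
  have hx0 : ∀ v, v (.inl (.inl 0)) = 0 → Q v = 0 → v = Pi.single (.inl (.inr 0)) (v (.inl (.inr 0))) := by
    intro v hv hQv
    rw [hQ, coe_matQuad_minus] at hQv
    simp [Cfsg.quadFormMinus, hv] at hQv
    have hz := anisotropic_apply hab (fun i => v (.inr i)) hQv
    funext x
    rcases x with (x | x) | x
    · simp [Subsingleton.elim x 0, hv]
    · simp [Subsingleton.elim x 0]
    · simpa using congrFun hz x
  have hpol : ∀ (c : F) (v : (Fin 1 ⊕ Fin 1) ⊕ Fin 2 → F),
      polar Q (Pi.single (.inl (.inr 0)) c) v = c * v (.inl (.inl 0)) := fun c v => by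
    rw [hQ, polar, coe_matQuad_minus]
    simp [Cfsg.quadFormMinus]
    ring
  by_cases hex : e (.inl (.inl 0)) = 0
  · have he' := hx0 e hex he
    rw [he', hpol] at heu
    have hc : e (.inl (.inr 0)) ≠ 0 := fun h => he0 (by rw [he', h, Pi.single_zero])
    have hu' := hx0 u ((mul_eq_zero.1 heu).resolve_left hc) hu
    refine Submodule.mem_span_singleton.2 ⟨u (.inl (.inr 0)) / e (.inl (.inr 0)), ?_⟩
    rw [he', hu', ← Pi.single_smul]
    simp [hc]
  · set w := u (.inl (.inl 0)) • e - e (.inl (.inl 0)) • u with hw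
    have hee : polar Q e e = 0 := by rw [polar_self', he, mul_zero]
    have hw0 : w (.inl (.inl 0)) = 0 := by simp [hw]; ring
    have hQw : Q w = 0 := by
      rw [hw, sub_eq_add_neg, ← neg_smul, CfsgLib.Geometry.map_add', CfsgLib.Geometry.map_smul', CfsgLib.Geometry.map_smul', he, hu, polar_smul_left',
        polar_smul_right', heu]
      ring
    have hwe : polar Q w e = 0 := by
      rw [hw, polar_sub_left, polar_smul_left', polar_smul_left', hee, polar_comm Q u e, heu]
      ring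
    have hw' := hx0 w hw0 hQw
    rw [hw', hpol] at hwe
    have hwz : w = 0 := by
      rw [hw', (mul_eq_zero.1 hwe).resolve_right hex, Pi.single_zero]
    refine Submodule.mem_span_singleton.2 ⟨u (.inl (.inl 0)) / e (.inl (.inl 0)), ?_⟩
    rw [div_eq_inv_mul, mul_smul, sub_eq_zero.1 hwz, inv_smul_smul₀ hex]

variable (F) in
/-- Hermitian matrices as the space of the form `xy + N(z₁ + z₂t)`. -/
def hermEmb (σ : K →+* K) (t : K) (hmap : ∀ c : F, σ (algebraMap F K c) = algebraMap F K c) :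
    ((Fin 1 ⊕ Fin 1) ⊕ Fin 2 → F) →ₗ[F] Matrix (Fin 2) (Fin 2) K where
  toFun v := !![algebraMap F K (v (.inl (.inl 0))),
      algebraMap F K (v (.inr 0)) + algebraMap F K (v (.inr 1)) * t;
    σ (algebraMap F K (v (.inr 0)) + algebraMap F K (v (.inr 1)) * t),
      -algebraMap F K (v (.inl (.inr 0)))]
  map_add' u v := by ext i j; fin_cases i <;> fin_cases j <;> simp [hmap] <;> ring
  map_smul' c v := by
    ext i j; fin_cases i <;> fin_cases j <;> simp [hmap, Algebra.smul_def] <;> ring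

variable (F) in
/-- The action `X ↦ g X g*` of `SL₂` over the quadratic extension. -/
def sl2Herm (σ : K →+* K) (g : Matrix.SpecialLinearGroup (Fin 2) K) :
    Matrix (Fin 2) (Fin 2) K →ₗ[F] Matrix (Fin 2) (Fin 2) K where
  toFun X := g.1 * X * (g.1.map σ)ᵀ
  map_add' X Y := by rw [Matrix.mul_add, Matrix.add_mul]
  map_smul' c X := by rw [Matrix.mul_smul, Matrix.smul_mul]; rfl

theorem herm_surjective (h : QuadExt F K σ t a b) {Y : Matrix (Fin 2) (Fin 2) K}
    (hY : (Y.map σ)ᵀ = Y) : ∃ v, hermEmb F σ t h.map v = Y := by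
  have e : ∀ i j, σ (Y j i) = Y i j := fun i j => congrFun (congrFun hY i) j
  obtain ⟨x, hx⟩ := h.fix _ (e 0 0)
  obtain ⟨y, hy⟩ := h.fix _ (e 1 1)
  obtain ⟨z₁, z₂, hz⟩ := h.basis (Y 0 1)
  refine ⟨Sum.elim (Sum.elim (fun _ => x) (fun _ => -y)) ![z₁, z₂], ?_⟩
  ext i j
  fin_cases i <;> fin_cases j
  · simp [hermEmb, hx]
  · simp [hermEmb, hz]
  · have := e 1 0
    simp [hermEmb, ← this, hz]
  · simp [hermEmb, hy]

theorem herm_star (h : QuadExt F K σ t a b) (v : (Fin 1 ⊕ Fin 1) ⊕ Fin 2 → F) :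
    ((hermEmb F σ t h.map v).map σ)ᵀ = hermEmb F σ t h.map v := by
  ext i j
  fin_cases i <;> fin_cases j <;> simp [hermEmb, h.map, h.invol]

theorem herm_det (h : QuadExt F K σ t a b) (v : (Fin 1 ⊕ Fin 1) ⊕ Fin 2 → F) :
    (hermEmb F σ t h.map v).det = -algebraMap F K (matQuad (minusMat 1 F a b) v) := by
  rw [coe_matQuad_minus]
  simp [hermEmb, Matrix.det_fin_two, Cfsg.quadFormMinus, h.map]
  rw [← h.tsum, ← h.tprod]
  ring

theorem herm_embeddedAct (h : QuadExt F K σ t a b)
    (hQ : (polarBilin (matQuad (minusMat 1 F a b))).Nondegenerate) :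
    EmbeddedAct (matQuad (minusMat 1 F a b)) (hermEmb F σ t h.map) (sl2Herm F σ) where
  inj := injective_of_factor hQ _ (fun X => Function.invFun (algebraMap F K) (-X.det)) fun v => by
    rw [herm_det h, neg_neg]
    exact Function.leftInverse_invFun (algebraMap F K).injective _
  map_one := LinearMap.ext fun X => by simp [sl2Herm]
  map_mul g k := LinearMap.ext fun X => by
    simp [sl2Herm, Matrix.map_mul, Matrix.transpose_mul, Matrix.mul_assoc]
  stable g v := herm_surjective h (by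
    simp only [sl2Herm, LinearMap.coe_mk, AddHom.coe_mk, Matrix.map_mul, Matrix.transpose_mul,
      herm_star h, ← Matrix.transpose_map, Matrix.map_map]
    rw [show (σ ∘ σ : K → K) = id from funext h.invol]
    simp [Matrix.mul_assoc])
  isom g v w hw := by
    apply (algebraMap F K).injective
    apply neg_injective
    rw [← herm_det h, ← herm_det h, hw]
    simp only [sl2Herm, LinearMap.coe_mk, AddHom.coe_mk, Matrix.det_mul, Matrix.det_transpose, g.2,
      one_mul]
    rw [← RingHom.mapMatrix_apply, ← RingHom.map_det, g.2, map_one, mul_one]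

theorem herm_ker_le (h : QuadExt F K σ t a b)
    (hQ : (polarBilin (matQuad (minusMat 1 F a b))).Nondegenerate) :
    (herm_embeddedAct h hQ).toOrth.ker ≤ Subgroup.center (Matrix.SpecialLinearGroup (Fin 2) K) := by
  intro g hg
  rw [EmbeddedAct.mem_ker] at hg
  have hX : ∀ X : Matrix (Fin 2) (Fin 2) K, (X.map σ)ᵀ = X → g.1 * X * (g.1.map σ)ᵀ = X :=
    fun X hX => by
      obtain ⟨v, rfl⟩ := herm_surjective h hX
      exact hg v
  have h1 := hX 1 (by simp)
  rw [Matrix.mul_one] at h1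
  have h1' : (g.1.map σ)ᵀ * g.1 = 1 := mul_eq_one_comm.1 h1
  have hc : ∀ X : Matrix (Fin 2) (Fin 2) K, (X.map σ)ᵀ = X → g.1 * X = X * g.1 := fun X hXs => by
    conv_rhs => rw [← hX X hXs, Matrix.mul_assoc, h1', Matrix.mul_one]
  have h01 : g.1 * !![0, 1; 0, 0] = !![0, 1; 0, 0] * g.1 ∧
      g.1 * !![0, 0; 1, 0] = !![0, 0; 1, 0] * g.1 := by
    have c1 := hc !![0, 1; 1, 0] (by ext i j; fin_cases i <;> fin_cases j <;> simp)
    have ct := hc !![0, t; σ t, 0] (by ext i j; fin_cases i <;> fin_cases j <;> simp [h.invol])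
    constructor
    · have e : (!![0, 1; 0, 0] : Matrix (Fin 2) (Fin 2) K) =
          (σ t - t)⁻¹ • (σ t • !![0, 1; 1, 0] - !![0, t; σ t, 0]) := by
        ext i j; fin_cases i <;> fin_cases j <;> simp [h.tne]
      rw [e, Matrix.mul_smul, Matrix.smul_mul, Matrix.mul_sub, Matrix.sub_mul, Matrix.mul_smul,
        Matrix.smul_mul, c1, ct]
    · have e : (!![0, 0; 1, 0] : Matrix (Fin 2) (Fin 2) K) =
          (σ t - t)⁻¹ • (!![0, t; σ t, 0] - t • !![0, 1; 1, 0]) := by
        ext i j; fin_cases i <;> fin_cases j <;> simp [h.tne]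
      rw [e, Matrix.mul_smul, Matrix.smul_mul, Matrix.mul_sub, Matrix.sub_mul, Matrix.mul_smul,
        Matrix.smul_mul, c1, ct]
  refine sl2_center_of_commute_transvections (Subtype.ext ?_) (Subtype.ext ?_) <;>
    simp only [Matrix.SpecialLinearGroup.coe_mul, uSL_coe, lSL_coe]
  · rw [show (!![1, 1; 0, 1] : Matrix (Fin 2) (Fin 2) K) = 1 + !![0, 1; 0, 0] by
      ext i j; fin_cases i <;> fin_cases j <;> simp,
      Matrix.mul_add, Matrix.add_mul, h01.1, Matrix.mul_one, Matrix.one_mul]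
  · rw [show (!![1, 0; 1, 1] : Matrix (Fin 2) (Fin 2) K) = 1 + !![0, 0; 1, 0] by
      ext i j; fin_cases i <;> fin_cases j <;> simp,
      Matrix.mul_add, Matrix.add_mul, h01.2, Matrix.mul_one, Matrix.one_mul]

theorem pOmega_four_minus_equiv [Finite F] [Finite K] {q : ℕ} (hF : Nat.card F = q)
    (hK : Nat.card K = q ^ 2)
    (hab : ∀ z₁ z₂ : F, z₁ ^ 2 + a * z₁ * z₂ + b * z₂ ^ 2 = 0 → z₁ = 0 ∧ z₂ = 0)
    (h : QuadExt F K σ t a b) :
    Nonempty (Cfsg.POmega F (Cfsg.quadFormMinus 1 F a b) ≃*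
      Matrix.ProjectiveSpecialLinearGroup (Fin 2) K) := by
  set Q := matQuad (minusMat 1 F a b) with hQdef
  have hQ : (polarBilin Q).Nondegenerate :=
    nondegenerate_matQuad (by
      rw [det_minus_gram]
      exact mul_ne_zero (by simp) (binAniso_discr hab).1)
  have hR : reflGroup Q = orth Q :=
    le_antisymm (reflGroup_le_orth Q) fun g hg =>
      mem_reflGroup_of_fix hQ (splitSingular_minus_one hab)
        (Module.finrank F ((Fin 1 ⊕ Fin 1) ⊕ Fin 2 → F)) ⊥ (by simp)
        (Or.inl fun x hx _ => (Submodule.mem_bot F).1 hx) g hg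
        fun x hx => by rw [(Submodule.mem_bot F).1 hx, map_zero]
  have hq : 2 ≤ q := hF ▸ Finite.one_lt_card
  have hK4 : 4 ≤ Nat.card K := by rw [hK]; exact Nat.pow_le_pow_left hq 2
  have hgcd : Nat.gcd 2 (Nat.card K - 1) = Nat.gcd 2 (Nat.card F - 1) := by
    rcases Nat.even_or_odd (Nat.card F) with he | ho
    · rw [gcd_two_card_sub_one_of_even he, gcd_two_card_sub_one_of_even]
      rw [hK, ← hF]; exact he.pow_of_ne_zero two_ne_zero
    · rw [gcd_two_card_sub_one_of_odd ho, gcd_two_card_sub_one_of_odd]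
      rw [hK, ← hF]; exact ho.pow
  rw [← coe_matQuad_minus]
  refine pOmega_equiv_of_hom (herm_embeddedAct h hQ).toOrth (QuotientGroup.mk' _)
    (QuotientGroup.mk'_surjective _) center_PSL_two_eq_bot
    (by rw [QuotientGroup.ker_mk']; exact herm_ker_le h hQ) (by rw [QuotientGroup.ker_mk'])
    (range_le_commutator_of_perfect _ (SL_fin_commutator_eq_top 2 le_rfl fun _ => hK4))
    (c := Nat.gcd 2 (Nat.card K - 1)) ?_ ?_
  · refine (Subgroup.card_le_of_le (herm_ker_le h hQ)).trans ?_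
    rw [card_center_SL_fin 2 (by norm_num)]
  · rw [card_orth_eq, coe_matQuad_minus, card_isometry_minus 1 hab, card_SL_two,
      index_commutator_orth hQ (by simp) hR, hgcd, hK, hF]
    simp
    have : (q ^ 2 + 1) * (q ^ 2 - 1) = (q ^ 2) ^ 2 - 1 := by rw [← Nat.sq_sub_sq, one_pow]
    rw [← this]
    exact le_of_eq (by ring)

end CfsgLib.Classical
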