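import Cfsg.Agent.Lib.Classical.OmegaSixPlus
import Cfsg.Agent.Lib.Classical.OmegaFourMinus

/-! The alternating groups of degree 8 and 6 as `Ω⁺₆(2)` and `Ω⁻₄(3)` on permutation modules. -/

set_option autoImplicit false

namespace CfsgLib.Classical

open QuadraticMap CfsgLib.Geometry Matrix

section Model

variable {F : Type} [Field F] {n : ℕ} {ι : Type} [Fintype ι] [DecidableEq ι]

/-- A quadratic space presented as the sum-zero vectors modulo constants, with a symmetric form. -/
structure PermModel (Q : QuadraticForm F (ι → F)) (mk : (ι → F) →ₗ[F] (Fin n → F))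
    (coord : (Fin n → F) →ₗ[F] (ι → F)) : Prop where
  kills : coord (fun _ => 1) = 0
  sum_mk : ∀ v, ∑ i, mk v i = 0
  left : ∀ v, coord (mk v) = v
  repr : ∀ w, ∑ i, w i = 0 → ∃ c : F, mk (coord w) = w + fun _ => c
  inv : ∀ (w : Fin n → F) (σ : Equiv.Perm (Fin n)), ∑ i, w i = 0 →
    Q (coord (w ∘ σ)) = Q (coord w)

variable {Q : QuadraticForm F (ι → F)} {mk : (ι → F) →ₗ[F] (Fin n → F)}
  {coord : (Fin n → F) →ₗ[F] (ι → F)}

/-- The action of a permutation on the quotient module. -/
def permAct (mk : (ι → F) →ₗ[F] (Fin n → F)) (coord : (Fin n → F) →ₗ[F] (ι → F))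
    (s : alternatingGroup (Fin n)) : (ι → F) →ₗ[F] (ι → F) :=
  coord.comp ((LinearMap.funLeft F F ((s⁻¹ : alternatingGroup (Fin n)) : Equiv.Perm (Fin n))).comp mk)

theorem permAct_apply (s : alternatingGroup (Fin n)) (v : ι → F) :
    permAct mk coord s v =
      coord (mk v ∘ ((s⁻¹ : alternatingGroup (Fin n)) : Equiv.Perm (Fin n))) := rfl

theorem PermModel.embeddedAct (h : PermModel Q mk coord) :
    EmbeddedAct Q (LinearMap.id : (ι → F) →ₗ[F] (ι → F)) (permAct mk coord) where
  inj := fun _ _ e => e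
  map_one := LinearMap.ext fun v => by simp [permAct_apply, h.left]
  map_mul s u := LinearMap.ext fun v => by
    simp only [permAct_apply, LinearMap.comp_apply]
    set p : Equiv.Perm (Fin n) := ((s⁻¹ : alternatingGroup (Fin n)) : Equiv.Perm (Fin n)) with hp
    set r : Equiv.Perm (Fin n) := ((u⁻¹ : alternatingGroup (Fin n)) : Equiv.Perm (Fin n)) with hr
    obtain ⟨c, hc⟩ := h.repr (mk v ∘ r) ((Equiv.sum_comp r (mk v)).trans (h.sum_mk v))
    rw [hc, show ((mk v ∘ r + fun _ => c) ∘ p) = mk v ∘ r ∘ p + c • (fun _ => (1 : F)) from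
      funext fun i => by simp, map_add, _root_.map_smul, h.kills, smul_zero, add_zero,
      _root_.mul_inv_rev, Subgroup.coe_mul, Equiv.Perm.coe_mul]
  stable s v := ⟨_, rfl⟩
  isom s v w hw := by
    rw [show w = permAct mk coord s v from hw, permAct_apply, h.inv _ _ (h.sum_mk v), h.left]

/-- A permutation model of the right order gives `POmega ≃* A_n`. -/
theorem PermModel.equiv [Finite F] (h : PermModel Q mk coord) (hn : 5 ≤ n)
    (hQ : (polarBilin Q).Nondegenerate) (hι : 2 ≤ Fintype.card ι) (hR : reflGroup Q = orth Q)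
    (hne : ∃ s : alternatingGroup (Fin n), ∃ v, permAct mk coord s v ≠ v)
    (hcard : Nat.card (Cfsg.isometryGroup F ⇑Q) ≤
      Nat.card (alternatingGroup (Fin n)) * (2 * Nat.gcd 2 (Nat.card F - 1))) :
    Nonempty (Cfsg.POmega F ⇑Q ≃* alternatingGroup (Fin n)) := by
  have hsimp : IsSimpleGroup (alternatingGroup (Fin n)) :=
    alternatingGroup.isSimpleGroup (by simpa using hn)
  have hp : commutator (alternatingGroup (Fin n)) = ⊤ := by
    refine (Subgroup.Normal.eq_bot_or_eq_top inferInstance).resolve_left fun hb => ?_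
    rw [commutator_def, Subgroup.commutator_eq_bot_iff_le_centralizer] at hb
    have hcen : Subgroup.center (alternatingGroup (Fin n)) = ⊤ := eq_top_iff.2 fun x _ =>
      Subgroup.mem_center_iff.2 fun y => hb (Subgroup.mem_top x) y (Subgroup.mem_top y)
    rw [alternatingGroup.center_eq_bot (by simp; omega)] at hcen
    exact bot_ne_top hcen
  have hker : h.embeddedAct.toOrth.ker = ⊥ := by
    refine (Subgroup.Normal.eq_bot_or_eq_top inferInstance).resolve_right fun ht => ?_
    obtain ⟨s, v, hv⟩ := hne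
    exact hv ((h.embeddedAct.mem_ker s).1 (ht ▸ Subgroup.mem_top s) v)
  refine pOmega_equiv_of_hom h.embeddedAct.toOrth (MonoidHom.id _) Function.surjective_id
    (center_eq_bot_of_perfect hp) (by rw [hker]; exact bot_le) (by simp)
    (range_le_commutator_of_perfect _ hp) (c := 1) (by rw [hker]; simp) ?_
  rw [one_mul, card_orth_eq, index_commutator_orth hQ hι hR]
  exact hcard

end Model

theorem card_alternating_fin (n : ℕ) [Nontrivial (Fin n)] :
    2 * Nat.card (alternatingGroup (Fin n)) = n.factorial := by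
  rw [Nat.card_eq_fintype_card, two_mul_card_alternatingGroup, Fintype.card_perm, Fintype.card_fin]

section Eight

/-- Six weight-four vectors forming a hyperbolic basis. -/
def eightMk : (Fin 3 ⊕ Fin 3 → ZMod 2) →ₗ[ZMod 2] (Fin 8 → ZMod 2) where
  toFun v := v (.inl 0) • ![1, 1, 1, 1, 0, 0, 0, 0] + v (.inr 0) • ![1, 1, 1, 0, 1, 0, 0, 0] +
    v (.inl 1) • ![1, 1, 0, 0, 0, 1, 1, 0] + v (.inr 1) • ![1, 1, 0, 0, 0, 1, 0, 1] +
    v (.inl 2) • ![1, 0, 1, 0, 0, 0, 1, 1] + v (.inr 2) • ![1, 0, 0, 1, 1, 1, 0, 0]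
  map_add' u v := by simp only [Pi.add_apply]; module
  map_smul' c v := by simp only [Pi.smul_apply, smul_eq_mul, RingHom.id_apply]; module

/-- Coordinates by the polar form. -/
def eightCoord : (Fin 8 → ZMod 2) →ₗ[ZMod 2] (Fin 3 ⊕ Fin 3 → ZMod 2) where
  toFun w := Sum.elim ![w 0 + w 1 + w 2 + w 4, w 0 + w 1 + w 5 + w 7, w 0 + w 3 + w 4 + w 5]
    ![w 0 + w 1 + w 2 + w 3, w 0 + w 1 + w 5 + w 6, w 0 + w 2 + w 6 + w 7]
  map_add' u v := by
    ext j; rcases j with j | j <;> fin_cases j <;> simp <;> ring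
  map_smul' c v := by
    ext j; rcases j with j | j <;> fin_cases j <;> simp <;> ring

/-- Half the weight, modulo two. -/
def halfWeight (w : Fin 8 → ZMod 2) : ZMod 2 :=
  ((Finset.univ.filter fun i => w i ≠ 0).card / 2 : ℕ)

theorem eight_check : ∀ a b c d e f g : ZMod 2,
    Cfsg.quadFormPlus 3 (ZMod 2) (eightCoord ![a, b, c, d, e, f, g, a + b + c + d + e + f + g]) =
        halfWeight ![a, b, c, d, e, f, g, a + b + c + d + e + f + g] ∧
      ∃ r : ZMod 2, eightMk (eightCoord ![a, b, c, d, e, f, g, a + b + c + d + e + f + g]) =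
        ![a, b, c, d, e, f, g, a + b + c + d + e + f + g] + fun _ => r := by
  decide +kernel

theorem eight_left : ∀ v : Fin 3 ⊕ Fin 3 → ZMod 2,
    eightCoord (eightMk v) = v ∧ ∑ i, eightMk v i = 0 := by
  decide +kernel

theorem eight_expand {w : Fin 8 → ZMod 2} (h : ∑ i, w i = 0) :
    ![w 0, w 1, w 2, w 3, w 4, w 5, w 6, w 0 + w 1 + w 2 + w 3 + w 4 + w 5 + w 6] = w := by
  simp [Fin.sum_univ_eight] at h
  funext i
  fin_cases i <;> simp
  rw [eq_neg_of_add_eq_zero_right h]
  exact (CharTwo.neg_eq _).symm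

theorem eight_model : PermModel (matQuad (plusMat 3 (ZMod 2))) eightMk eightCoord where
  kills := by decide +kernel
  sum_mk v := (eight_left v).2
  left v := (eight_left v).1
  repr w hw := by
    have := (eight_check (w 0) (w 1) (w 2) (w 3) (w 4) (w 5) (w 6)).2
    rwa [eight_expand hw] at this
  inv w s hw := by
    have key : ∀ w : Fin 8 → ZMod 2, ∑ i, w i = 0 →
        matQuad (plusMat 3 (ZMod 2)) (eightCoord w) = halfWeight w := fun w hw => by
      have := (eight_check (w 0) (w 1) (w 2) (w 3) (w 4) (w 5) (w 6)).1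
      rw [eight_expand hw] at this
      rwa [coe_matQuad_plus]
    rw [key _ hw, key _ (by rw [← hw]; exact Equiv.sum_comp s w), halfWeight, halfWeight]
    congr 2
    exact Finset.card_equiv s fun i => by simp

theorem pOmega_six_two_equiv_A8 :
    Nonempty (Cfsg.POmega (ZMod 2) (Cfsg.quadFormPlus 3 (ZMod 2)) ≃* alternatingGroup (Fin 8)) := by
  rw [← coe_matQuad_plus]
  refine eight_model.equiv (by norm_num) nondeg_plus_three (by simp)
    (reflGroup_eq_orth nondeg_plus_three (Or.inl (by simp)))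
    ⟨⟨Equiv.swap 0 4 * Equiv.swap 1 2, by rw [Equiv.Perm.mem_alternatingGroup]; decide +kernel⟩, Sum.elim ![1, 0, 0] 0, by decide +kernel⟩ ?_
  rw [coe_matQuad_plus, card_isometry_plus (F := ZMod 2) 2]
  have := card_alternating_fin 8
  simp [Finset.prod_range_succ, Nat.factorial] at this ⊢
  omega

end Eight

section Six

/-- An orthogonal hyperbolic pair and two orthogonal vectors of norm one. -/
def sixMk : ((Fin 1 ⊕ Fin 1) ⊕ Fin 2 → ZMod 3) →ₗ[ZMod 3] (Fin 6 → ZMod 3) where
  toFun v := v (.inl (.inl 0)) • ![0, 0, 1, 1, 1, 0] + v (.inl (.inr 0)) • ![0, 1, 0, 1, 1, 0] +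
    v (.inr 0) • ![1, 2, 2, 0, 1, 0] + v (.inr 1) • ![1, 2, 2, 1, 0, 0]
  map_add' u v := by simp only [Pi.add_apply]; module
  map_smul' c v := by simp only [Pi.smul_apply, smul_eq_mul, RingHom.id_apply]; module

/-- Coordinates by the polar form. -/
def sixCoord : (Fin 6 → ZMod 3) →ₗ[ZMod 3] ((Fin 1 ⊕ Fin 1) ⊕ Fin 2 → ZMod 3) where
  toFun w := Sum.elim (Sum.elim (fun _ => 2 * (w 1 + w 3 + w 4)) (fun _ => 2 * (w 2 + w 3 + w 4)))
    ![w 0 + 2 * w 1 + 2 * w 2 + w 4, w 0 + 2 * w 1 + 2 * w 2 + w 3]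
  map_add' u v := by
    ext j; rcases j with (j | j) | j <;> fin_cases j <;> simp <;> ring
  map_smul' c v := by
    ext j; rcases j with (j | j) | j <;> fin_cases j <;> simp <;> ring

theorem six_check : ∀ a b c d e : ZMod 3,
    Cfsg.quadFormMinus 1 (ZMod 3) 0 1 (sixCoord ![a, b, c, d, e, -(a + b + c + d + e)]) =
        a ^ 2 + b ^ 2 + c ^ 2 + d ^ 2 + e ^ 2 + (a + b + c + d + e) ^ 2 ∧
      ∃ r : ZMod 3, sixMk (sixCoord ![a, b, c, d, e, -(a + b + c + d + e)]) =
        ![a, b, c, d, e, -(a + b + c + d + e)] + fun _ => r := by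
  decide +kernel

theorem six_left : ∀ v : (Fin 1 ⊕ Fin 1) ⊕ Fin 2 → ZMod 3,
    sixCoord (sixMk v) = v ∧ ∑ i, sixMk v i = 0 := by
  decide +kernel

theorem six_expand {w : Fin 6 → ZMod 3} (h : ∑ i, w i = 0) :
    ![w 0, w 1, w 2, w 3, w 4, -(w 0 + w 1 + w 2 + w 3 + w 4)] = w := by
  simp [Fin.sum_univ_six] at h
  funext i
  fin_cases i <;> simp
  linear_combination -h

theorem six_model : PermModel (matQuad (minusMat 1 (ZMod 3) 0 1)) sixMk sixCoord where
  kills := by decide +kernel
  sum_mk v := (six_left v).2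
  left v := (six_left v).1
  repr w hw := by
    have := (six_check (w 0) (w 1) (w 2) (w 3) (w 4)).2
    rwa [six_expand hw] at this
  inv w s hw := by
    have key : ∀ w : Fin 6 → ZMod 3, ∑ i, w i = 0 →
        matQuad (minusMat 1 (ZMod 3) 0 1) (sixCoord w) = ∑ i, w i ^ 2 := fun w hw => by
      have h1 := (six_check (w 0) (w 1) (w 2) (w 3) (w 4)).1
      have h2 := hw
      simp [Fin.sum_univ_six] at h2
      rw [six_expand hw] at h1
      rw [coe_matQuad_minus, h1, Fin.sum_univ_six, eq_neg_of_add_eq_zero_right h2, neg_sq]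
    rw [key _ hw, key _ (by rw [← hw]; exact Equiv.sum_comp s w)]
    exact Equiv.sum_comp s fun i => w i ^ 2

theorem aniso_zmod_three : ∀ z₁ z₂ : ZMod 3,
    z₁ ^ 2 + 0 * z₁ * z₂ + 1 * z₂ ^ 2 = 0 → z₁ = 0 ∧ z₂ = 0 := by decide +kernel

theorem pOmega_four_three_equiv_A6 :
    Nonempty (Cfsg.POmega (ZMod 3) (Cfsg.quadFormMinus 1 (ZMod 3) 0 1) ≃*
      alternatingGroup (Fin 6)) := by
  have hQ : (polarBilin (matQuad (minusMat 1 (ZMod 3) 0 1))).Nondegenerate :=
    nondegenerate_matQuad (by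
      rw [det_minus_gram]
      exact mul_ne_zero (by simp) (binAniso_discr aniso_zmod_three).1)
  rw [← coe_matQuad_minus]
  refine six_model.equiv (by norm_num) hQ (by simp)
    (reflGroup_eq_orth hQ (Or.inr ⟨2, by decide, by decide⟩))
    ⟨⟨Equiv.swap 0 5 * Equiv.swap 1 2, by rw [Equiv.Perm.mem_alternatingGroup]; decide +kernel⟩,
      Sum.elim (Sum.elim 1 0) 0, by decide +kernel⟩ ?_
  rw [coe_matQuad_minus, card_isometry_minus 1 aniso_zmod_three]
  have := card_alternating_fin 6
  simp [Finset.prod_range_succ, Nat.factorial] at this ⊢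
  omega

end Six

section Transfer

variable {ι : Type} [Fintype ι] [DecidableEq ι] {F F' : Type*} [Field F] [Field F']

/-- `PSL` over isomorphic fields. -/
theorem nonempty_PSL_congr (e : F ≃+* F') :
    Nonempty (Matrix.ProjectiveSpecialLinearGroup ι F ≃* Matrix.ProjectiveSpecialLinearGroup ι F') := by
  let E : Matrix.SpecialLinearGroup ι F ≃* Matrix.SpecialLinearGroup ι F' :=
    { toFun := Matrix.SpecialLinearGroup.map e.toRingHom
      invFun := Matrix.SpecialLinearGroup.map e.symm.toRingHom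
      left_inv := fun g => by ext i j; simp
      right_inv := fun g => by ext i j; simp
      map_mul' := map_mul _ }
  exact ⟨QuotientGroup.congr _ _ E (by
    ext x
    show x ∈ Subgroup.map E.toMonoidHom _ ↔ _
    rw [Subgroup.mem_map_equiv, Subgroup.mem_center_iff, Subgroup.mem_center_iff]
    constructor
    · intro h y
      simpa using congrArg E (h (E.symm y))
    · intro h y
      apply E.injective
      simpa using h (E y))⟩

end Transfer

end CfsgLib.Classical
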