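import Cfsg.Agent.Lib.Classical.Order
import Cfsg.Agent.Lib.Classical.GL2

/-!
The action of `PGL₂`, `SL₂`, `PSL₂` on the projective line.
-/

set_option autoImplicit false

namespace CfsgLib.Classical

open Matrix
open scoped LinearAlgebra.Projectivization

variable {F : Type*} [Field F]

/-- The point at infinity. -/
def pInf (F : Type*) [Field F] : ℙ F (Fin 2 → F) :=
  Projectivization.mk F ![1, 0] (fun h => by simpa using congrFun h 0)

/-- The point zero. -/
def pZero (F : Type*) [Field F] : ℙ F (Fin 2 → F) :=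
  Projectivization.mk F ![0, 1] (fun h => by simpa using congrFun h 1)

/-- The point one. -/
def pOne (F : Type*) [Field F] : ℙ F (Fin 2 → F) :=
  Projectivization.mk F ![1, 1] (fun h => by simpa using congrFun h 0)

theorem cross_ne_zero {u v : Fin 2 → F} (hu : u ≠ 0) (hv : v ≠ 0)
    (h : Projectivization.mk F u hu ≠ Projectivization.mk F v hv) :
    u 0 * v 1 - u 1 * v 0 ≠ 0 := by
  intro hd
  refine h.symm ((Projectivization.mk_eq_mk_iff' F v u hv hu).2 ?_)
  by_cases h0 : u 0 = 0
  · have h1 : u 1 ≠ 0 := fun h1 => hu (by ext i; fin_cases i <;> simp [h0, h1])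
    refine ⟨v 1 / u 1, ?_⟩
    rw [h0, zero_mul, zero_sub, neg_eq_zero, mul_eq_zero] at hd
    ext i; fin_cases i
    · simp [h0, hd.resolve_left h1]
    · simp; field_simp
  · refine ⟨v 0 / u 0, ?_⟩
    ext i; fin_cases i
    · simp; field_simp
    · simp; field_simp; linear_combination -hd

theorem gl_smul_mk (g : GL (Fin 2) F) {v : Fin 2 → F} (hv : v ≠ 0) :
    (Matrix.ProjGenLinGroup.mk g) • Projectivization.mk F v hv =
      Projectivization.mk F (g.1 *ᵥ v) (fun h => hv (by
        have := congrArg ((g⁻¹).1 *ᵥ ·) h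
        simpa only [Matrix.mulVec_mulVec, Units.inv_mul, Matrix.one_mulVec, Matrix.mulVec_zero] using this)) :=
  rfl

theorem exists_gl_three {a b c : ℙ F (Fin 2 → F)} (hab : a ≠ b) (hac : a ≠ c) (hbc : b ≠ c) :
    ∃ g : GL (Fin 2) F, (Matrix.ProjGenLinGroup.mk g) • pInf F = a ∧
      (Matrix.ProjGenLinGroup.mk g) • pZero F = b ∧ (Matrix.ProjGenLinGroup.mk g) • pOne F = c := by
  induction a using Projectivization.ind with | _ u hu =>
  induction b using Projectivization.ind with | _ v hv =>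
  induction c using Projectivization.ind with | _ w hw =>
  have hD := cross_ne_zero hu hv hab
  have hA := cross_ne_zero hv hw hbc
  have hB := cross_ne_zero hu hw hac
  set α := (w 0 * v 1 - w 1 * v 0) / (u 0 * v 1 - u 1 * v 0) with hα
  set β := (u 0 * w 1 - u 1 * w 0) / (u 0 * v 1 - u 1 * v 0) with hβ
  have hα0 : α ≠ 0 := div_ne_zero (fun h => hA (by linear_combination -h)) hD
  have hβ0 : β ≠ 0 := div_ne_zero hB hD
  have hdet : Matrix.det !![α * u 0, β * v 0; α * u 1, β * v 1] ≠ 0 := by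
    rw [Matrix.det_fin_two_of]
    have := mul_ne_zero (mul_ne_zero hα0 hβ0) hD
    intro h
    exact this (by linear_combination h)
  refine ⟨GeneralLinearGroup.mkOfDetNeZero _ hdet, ?_, ?_, ?_⟩
  · rw [pInf, gl_smul_mk, Projectivization.mk_eq_mk_iff']
    refine ⟨α, ?_⟩
    ext i; fin_cases i <;> simp [Matrix.mulVec, dotProduct]
  · rw [pZero, gl_smul_mk, Projectivization.mk_eq_mk_iff']
    refine ⟨β, ?_⟩
    ext i; fin_cases i <;> simp [Matrix.mulVec, dotProduct]
  · rw [pOne, gl_smul_mk, Projectivization.mk_eq_mk_iff']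
    refine ⟨1, ?_⟩
    ext i; fin_cases i <;> simp [Matrix.mulVec, dotProduct, hα, hβ]
    · rw [div_mul_eq_mul_div, div_mul_eq_mul_div, ← add_div, eq_div_iff hD]; ring
    · rw [div_mul_eq_mul_div, div_mul_eq_mul_div, ← add_div, eq_div_iff hD]; ring

theorem three_pretransitive_of_exists {G α : Type*} [Group G] [MulAction G α] (a b c : α)
    (h : ∀ x y z : α, x ≠ y → x ≠ z → y ≠ z → ∃ g : G, g • a = x ∧ g • b = y ∧ g • c = z) :
    MulAction.IsMultiplyPretransitive G α 3 := by
  rw [MulAction.isMultiplyPretransitive_iff]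
  intro x y
  obtain ⟨g, hg0, hg1, hg2⟩ := h (x 0) (x 1) (x 2) (x.injective.ne (by decide))
    (x.injective.ne (by decide)) (x.injective.ne (by decide))
  obtain ⟨k, hk0, hk1, hk2⟩ := h (y 0) (y 1) (y 2) (y.injective.ne (by decide))
    (y.injective.ne (by decide)) (y.injective.ne (by decide))
  refine ⟨k * g⁻¹, ?_⟩
  ext i
  rw [Function.Embedding.smul_apply, mul_smul]
  fin_cases i
  · simp [← hg0, ← hk0]
  · simp [← hg1, ← hk1]
  · simp [← hg2, ← hk2]

theorem pgl_three_pretransitive :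
    MulAction.IsMultiplyPretransitive (Matrix.ProjGenLinGroup (Fin 2) F) (ℙ F (Fin 2 → F)) 3 :=
  three_pretransitive_of_exists (pInf F) (pZero F) (pOne F) fun _ _ _ h1 h2 h3 =>
    let ⟨g, hg⟩ := exists_gl_three h1 h2 h3
    ⟨_, hg⟩

theorem mk_eq_one_of_fix_std {g : GL (Fin 2) F}
    (h1 : (Matrix.ProjGenLinGroup.mk g) • pInf F = pInf F)
    (h2 : (Matrix.ProjGenLinGroup.mk g) • pZero F = pZero F)
    (h3 : (Matrix.ProjGenLinGroup.mk g) • pOne F = pOne F) : Matrix.ProjGenLinGroup.mk g = 1 := by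
  rw [pInf, gl_smul_mk, Projectivization.mk_eq_mk_iff'] at h1
  rw [pZero, gl_smul_mk, Projectivization.mk_eq_mk_iff'] at h2
  rw [pOne, gl_smul_mk, Projectivization.mk_eq_mk_iff'] at h3
  obtain ⟨x, hx⟩ := h1
  obtain ⟨y, hy⟩ := h2
  obtain ⟨z, hz⟩ := h3
  have e10 := congrFun hx 1
  have e01 := congrFun hy 0
  have e00 := congrFun hz 0
  have e11 := congrFun hz 1
  simp [Matrix.mulVec, dotProduct] at e10 e01 e00 e11
  have d00 : g.1 0 0 = z := by rw [← e01, add_zero] at e00; exact e00.symm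
  have d11 : g.1 1 1 = z := by rw [← e10, zero_add] at e11; exact e11.symm
  have hz0 : z ≠ 0 := by
    rintro rfl
    refine g.det_ne_zero ?_
    simp [Matrix.det_fin_two, d00, ← e10]
  rw [← Matrix.ProjGenLinGroup.mk_scalar (n := Fin 2) (Units.mk0 z hz0)]
  refine congrArg _ (Units.ext ?_)
  ext i j
  fin_cases i <;> fin_cases j <;> simp [← e10, ← e01, d00, d11]

theorem pgl_sharp {g : Matrix.ProjGenLinGroup (Fin 2) F} {a b c : ℙ F (Fin 2 → F)} (hab : a ≠ b)
    (hac : a ≠ c) (hbc : b ≠ c) (ha : g • a = a) (hb : g • b = b) (hc : g • c = c) : g = 1 := by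
  obtain ⟨k, k1, k2, k3⟩ := exists_gl_three hab hac hbc
  induction g using Matrix.ProjGenLinGroup.induction_on with | mk g => ?_
  have key : Matrix.ProjGenLinGroup.mk (k⁻¹ * g * k) = 1 := by
    refine mk_eq_one_of_fix_std ?_ ?_ ?_
    · rw [map_mul, map_mul, mul_smul, mul_smul, k1, ha, map_inv, inv_smul_eq_iff, k1]
    · rw [map_mul, map_mul, mul_smul, mul_smul, k2, hb, map_inv, inv_smul_eq_iff, k2]
    · rw [map_mul, map_mul, mul_smul, mul_smul, k3, hc, map_inv, inv_smul_eq_iff, k3]
  have := congrArg (fun x => Matrix.ProjGenLinGroup.mk k * x * (Matrix.ProjGenLinGroup.mk k)⁻¹) key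
  simpa [mul_assoc] using this

theorem sl_smul_mk (g : Matrix.SpecialLinearGroup (Fin 2) F) {v : Fin 2 → F} (hv : v ≠ 0) :
    g • Projectivization.mk F v hv =
      (Matrix.ProjGenLinGroup.mk (Matrix.SpecialLinearGroup.toGL g)) • Projectivization.mk F v hv :=
  rfl

theorem sl_three_pretransitive_of_char_two [Finite F] (h : ringChar F = 2) :
    MulAction.IsMultiplyPretransitive (Matrix.SpecialLinearGroup (Fin 2) F)
      (ℙ F (Fin 2 → F)) 3 := by
  refine three_pretransitive_of_exists (pInf F) (pZero F) (pOne F) fun a b c h1 h2 h3 => ?_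
  obtain ⟨g, hg1, hg2, hg3⟩ := exists_gl_three h1 h2 h3
  obtain ⟨r, hr⟩ := FiniteField.isSquare_of_char_two h g.1.det
  have hd := g.det_ne_zero
  have hr0 : r ≠ 0 := by rintro rfl; simp at hr; exact hd hr
  let s : Matrix.SpecialLinearGroup (Fin 2) F := ⟨r⁻¹ • g.1, by
    rw [Matrix.det_smul, Fintype.card_fin, hr]; field_simp⟩
  have hs : Matrix.ProjGenLinGroup.mk (Matrix.SpecialLinearGroup.toGL s) =
      Matrix.ProjGenLinGroup.mk g := by
    rw [Matrix.ProjGenLinGroup.mk_eq_mk_iff]
    refine ⟨Units.mk0 r hr0, Units.ext ?_⟩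
    ext i j
    change ((r⁻¹ • g.1) * Matrix.scalar (Fin 2) r) i j = g.1 i j
    simp only [Matrix.scalar_apply, Matrix.mul_diagonal, Matrix.smul_apply, smul_eq_mul]
    field_simp
  refine ⟨s, ?_, ?_, ?_⟩
  · rw [pInf, sl_smul_mk, ← pInf, hs, hg1]
  · rw [pZero, sl_smul_mk, ← pZero, hs, hg2]
  · rw [pOne, sl_smul_mk, ← pOne, hs, hg3]

theorem char_two_of_sl_three_pretransitive [Finite F]
    (h : MulAction.IsMultiplyPretransitive (Matrix.SpecialLinearGroup (Fin 2) F)
      (ℙ F (Fin 2 → F)) 3) : ringChar F = 2 := by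
  by_contra hne
  obtain ⟨e, he⟩ := FiniteField.exists_nonsquare hne
  have he0 : e ≠ 0 := by rintro rfl; exact he ⟨0, by simp⟩
  have n1 : pInf F ≠ pZero F := by
    simp [pInf, pZero, Projectivization.mk_eq_mk_iff', funext_iff, Fin.forall_fin_two]
  have n2 : pInf F ≠ pOne F := by
    simp [pInf, pOne, Projectivization.mk_eq_mk_iff', funext_iff, Fin.forall_fin_two]
  have n3 : pZero F ≠ pOne F := by
    simp [pZero, pOne, Projectivization.mk_eq_mk_iff', funext_iff, Fin.forall_fin_two]
  let pe : ℙ F (Fin 2 → F) := Projectivization.mk F ![e, 1] fun h => he0 (by simpa using congrFun h 0)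
  have m2 : pInf F ≠ pe := by
    simp [pInf, pe, Projectivization.mk_eq_mk_iff', funext_iff, Fin.forall_fin_two]
  have m3 : pZero F ≠ pe := by
    simp [pZero, pe, Projectivization.mk_eq_mk_iff', funext_iff, Fin.forall_fin_two, he0]
  obtain ⟨g, hg⟩ := MulAction.isMultiplyPretransitive_iff.1 h
    ⟨![pInf F, pZero F, pOne F], by
      intro i j; fin_cases i <;> fin_cases j <;> simp [n1, n2, n3, n1.symm, n2.symm, n3.symm]⟩
    ⟨![pInf F, pZero F, pe], by
      intro i j; fin_cases i <;> fin_cases j <;> simp [n1, m2, m3, n1.symm, m2.symm, m3.symm]⟩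
  have g1 : g • pInf F = pInf F := DFunLike.congr_fun hg 0
  have g2 : g • pZero F = pZero F := DFunLike.congr_fun hg 1
  have g3 : g • pOne F = pe := DFunLike.congr_fun hg 2
  rw [pInf, sl_smul_mk, gl_smul_mk, Projectivization.mk_eq_mk_iff'] at g1
  rw [pZero, sl_smul_mk, gl_smul_mk, Projectivization.mk_eq_mk_iff'] at g2
  rw [pOne, sl_smul_mk, gl_smul_mk, Projectivization.mk_eq_mk_iff'] at g3
  obtain ⟨x, hx⟩ := g1
  obtain ⟨y, hy⟩ := g2
  obtain ⟨z, hz⟩ := g3
  have e10 := congrFun hx 1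
  have e01 := congrFun hy 0
  have e00 := congrFun hz 0
  have e11 := congrFun hz 1
  simp [Matrix.mulVec, dotProduct] at e10 e01 e00 e11
  have hdet := g.2
  rw [Matrix.det_fin_two] at hdet
  rw [← e10] at e11 hdet
  rw [← e01] at e00 hdet
  refine he ⟨(z)⁻¹, ?_⟩
  rw [add_zero] at e00
  rw [zero_add] at e11
  rw [← e00, ← e11] at hdet
  have hz0 : z ≠ 0 := by rintro rfl; simp at hdet
  field_simp
  linear_combination hdet

/-- The permutation representation of `PSL₂` on the projective line. -/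
noncomputable def psl2Perm {n : ℕ} (h : Nat.card (ℙ F (Fin 2 → F)) = n) [Finite F] :
    Matrix.ProjectiveSpecialLinearGroup (Fin 2) F →* Equiv.Perm (Fin n) :=
  ((Finite.equivFinOfCardEq h).permCongrHom : _ →* _).comp Projectivization.PSLAction.toPermHom

theorem psl2Perm_injective {n : ℕ} (h : Nat.card (ℙ F (Fin 2 → F)) = n) [Finite F] :
    Function.Injective (psl2Perm h) :=
  ((Finite.equivFinOfCardEq h).permCongrHom.injective).comp
    Matrix.ProjectiveSpecialLinearGroup.toPermHom_injective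

/-- A group of order `n!/2` embedded in `Sₙ` is `Aₙ`. -/
theorem nonempty_mulEquiv_alternatingGroup {G : Type*} [Group G] {n : ℕ} (hn : 2 ≤ n)
    (f : G →* Equiv.Perm (Fin n)) (hf : Function.Injective f)
    (hc : 2 * Nat.card G = n.factorial) : Nonempty (G ≃* alternatingGroup (Fin n)) := by
  have hidx : f.range.index = 2 := by
    have h1 := Subgroup.card_mul_index f.range
    rw [← Nat.card_congr (MonoidHom.ofInjective hf).toEquiv, Nat.card_perm, Nat.card_fin, ← hc,
      mul_comm] at h1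
    have hpos : 0 < Nat.card G := by
      have := n.factorial_pos
      omega
    exact Nat.eq_of_mul_eq_mul_right hpos h1
  have := Equiv.Perm.eq_alternatingGroup_of_index_eq_two hidx
  exact ⟨(MonoidHom.ofInjective hf).trans (MulEquiv.subgroupCongr this)⟩

end CfsgLib.Classical
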