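import Cfsg.Agent.Lib.Classical.UnitarySU

/-!
`SU₂(q) ≅ SL₂(q)`.
-/

set_option autoImplicit false

namespace CfsgLib.Classical

open Matrix

variable {F : Type*} [Field F] [Finite F] {q : ℕ}

omit [Finite F] in
theorem fixed_card_eq [Finite F] (hF : Nat.card F = q ^ 2) {σ : F →+* F} (hσ : ∀ x, σ x = x ^ q) :
    Nat.card (σ.eqLocusField (RingHom.id F)) = q := by
  have hq := two_le_q hF
  let K := σ.eqLocusField (RingHom.id F)
  have h1 : Nat.card Kˣ = Nat.card (powMonoidHom (q - 1) : Fˣ →* Fˣ).ker := by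
    refine Nat.card_congr
      { toFun := fun u => ⟨Units.map K.subtype.toMonoidHom u, MonoidHom.mem_ker.2 (Units.ext ?_)⟩
        invFun := fun v => Units.mk0 ⟨(v.1 : F), ?_⟩ fun h => v.1.ne_zero (congrArg Subtype.val h)
        left_inv := fun u => Units.ext rfl
        right_inv := fun v => Subtype.ext (Units.ext rfl) }
    · have hx0 : ((u : K) : F) ≠ 0 := fun h => u.ne_zero (Subtype.ext h)
      have hx : ((u : K) : F) ^ q = ((u : K) : F) := (hσ _).symm.trans (u : K).2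
      refine mul_right_cancel₀ hx0 ?_
      simp only [powMonoidHom_apply, Units.val_pow_eq_pow_val, Units.val_one, one_mul]
      show ((u : K) : F) ^ (q - 1) * _ = _
      rw [← pow_succ, Nat.sub_add_cancel (by omega), hx]
    · show σ (v.1 : F) = (v.1 : F)
      have := congrArg Units.val (MonoidHom.mem_ker.1 v.2)
      simp only [powMonoidHom_apply, Units.val_pow_eq_pow_val, Units.val_one] at this
      rw [hσ]
      calc (v.1 : F) ^ q = (v.1 : F) ^ (q - 1 + 1) := by rw [Nat.sub_add_cancel (by omega)]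
        _ = (v.1 : F) := by rw [pow_succ, this, one_mul]
  rw [IsCyclic.card_powMonoidHom_ker, card_units_field, card_units_field, hF,
    Nat.gcd_eq_right ⟨q + 1, by rw [mul_comm, ← Nat.sq_sub_sq, one_pow]⟩] at h1
  show Nat.card K = q
  have := Finite.one_lt_card (α := K)
  omega

omit [Finite F] in
theorem herm_mulVec_two {σ : F →+* F} (hσ : ∀ x, σ x = x ^ q) (M : Matrix (Fin 2) (Fin 2) F)
    (u v : Fin 2 → F) : Cfsg.hermForm 2 F q (M *ᵥ u) (M *ᵥ v) =
      u ⬝ᵥ ((Mᵀ * M.map σ) *ᵥ fun i => σ (v i)) := by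
  have h : ∀ i, (M *ᵥ v) i ^ q = (M.map σ *ᵥ fun j => σ (v j)) i := fun i => by
    rw [← hσ]; simp [Matrix.mulVec, dotProduct, map_sum]
  rw [← Matrix.mulVec_mulVec, dotProduct_mulVec, vecMul_transpose]
  simp only [Cfsg.hermForm, h]
  rfl

omit [Finite F] in
theorem herm_form_transport {σ : F →+* F} (hσ : ∀ x, σ x = x ^ q) {M : Matrix (Fin 2) (Fin 2) F}
    (h : Mᵀ * M.map σ = 1) (u v : Fin 2 → F) :
    Cfsg.hermForm 2 F q (M *ᵥ u) (M *ᵥ v) = Cfsg.hermForm 2 F q u v := by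
  rw [herm_mulVec_two hσ, h, one_mulVec]
  simp [Cfsg.hermForm, dotProduct, hσ]

/-- A change of basis turning the standard Hermitian form into `θ (u₀ v̄₁ - u₁ v̄₀)`. -/
theorem exists_skew_basis (hF : Nat.card F = q ^ 2) {σ : F →+* F} (hσ : ∀ x, σ x = x ^ q)
    (hσne : σ ≠ RingHom.id F) (hσ2 : ∀ x, σ (σ x) = x) :
    ∃ (P : GL (Fin 2) F) (θ : F), θ ≠ 0 ∧ (P.1)ᵀ * P.1.map σ = !![0, θ; -θ, 0] := by
  obtain ⟨x, hx, hx1⟩ := exists_normOne_sq_ne_one hF
  replace hx : x * σ x = 1 := by rw [hσ, ← pow_succ']; exact hx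
  have hxne : x ≠ 1 := fun h => hx1 (by rw [h, one_pow])
  obtain ⟨t0, ht0⟩ := exists_pow_succ_eq hF (c := -1) (by rw [← hσ, map_neg, map_one])
  have ht : t0 * σ t0 = -1 := by rw [hσ, ← pow_succ']; exact ht0
  obtain ⟨a, ha⟩ : ∃ a, σ a ≠ a := by
    by_contra h
    exact hσne (RingHom.ext fun a => not_not.1 fun h' => h ⟨a, h'⟩)
  set θ := a - σ a with hθdef
  have hθ : θ ≠ 0 := sub_ne_zero.2 (Ne.symm ha)
  have hθσ : σ θ = -θ := by rw [hθdef, map_sub, hσ2]; ring
  have hh : 1 - σ x ≠ 0 := fun h => hxne (by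
    have := congrArg σ (sub_eq_zero.1 h)
    rwa [hσ2, map_one, eq_comm] at this)
  set l := σ (θ / (1 - σ x)) with hl
  have hσl : σ l = θ / (1 - σ x) := hσ2 _
  have hl0 : l ≠ 0 := (map_ne_zero σ).2 (div_ne_zero hθ hh)
  have ht00 : t0 ≠ 0 := by rintro rfl; simp at ht
  have hdet : (!![1, l; t0, l * (t0 * x)] : Matrix (Fin 2) (Fin 2) F).det ≠ 0 := by
    rw [Matrix.det_fin_two_of]
    intro h
    exact hxne (mul_left_cancel₀ (mul_ne_zero hl0 ht00) (by linear_combination h))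
  refine ⟨GeneralLinearGroup.mkOfDetNeZero _ hdet, θ, hθ, ?_⟩
  have e1 : (1 - σ x) * σ l = θ := by rw [hσl, mul_div_cancel₀ _ hh]
  have hσhl : (1 - x) * l = -θ := by
    have := congrArg σ e1
    rwa [map_mul, map_sub, map_one, hσ2, hσ2, hθσ] at this
  rw [GeneralLinearGroup.val_mkOfDetNeZero]
  ext i j
  fin_cases i <;> fin_cases j <;> simp [Matrix.mul_apply, Fin.sum_univ_two]
  · linear_combination ht
  · linear_combination e1 + σ l * σ x * ht
  · linear_combination hσhl + l * x * ht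
  · linear_combination l * σ l * (x * σ x) * ht - l * σ l * hx

theorem SL2_equiv_SU2 {K : Type*} [Field K] [Finite K] (hF : Nat.card F = q ^ 2)
    (hK : Nat.card K = q) :
    Nonempty (Cfsg.SU 2 F q ≃* Matrix.SpecialLinearGroup (Fin 2) K) := by
  obtain ⟨σ, hσ, hσne, hσ2⟩ := exists_frob hF
  obtain ⟨P, θ, hθ, hP⟩ := exists_skew_basis hF hσ hσne hσ2
  let K0 := σ.eqLocusField (RingHom.id F)
  have hK0 : Nat.card K0 = q := fixed_card_eq hF hσ
  have := Fintype.ofFinite K
  have := Fintype.ofFinite K0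
  let e : K ≃+* K0 := FiniteField.ringEquivOfCardEq
    (by rw [← Nat.card_eq_fintype_card, ← Nat.card_eq_fintype_card, hK, hK0])
  let ι : K →+* F := K0.subtype.comp e.toRingHom
  have hι : ∀ k, σ (ι k) = ι k := fun k => (e k).2
  have hιinj : Function.Injective ι := ι.injective
  let Pinv := (P⁻¹ : GL (Fin 2) F)
  have hPP : P.1 * Pinv.1 = 1 := P.mul_inv
  have hPP' : Pinv.1 * P.1 = 1 := P.inv_mul
  let C : Matrix.SpecialLinearGroup (Fin 2) K →* Matrix.SpecialLinearGroup (Fin 2) F :=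
    { toFun := fun g => ⟨P.1 * (g.1.map ι) * Pinv.1, by
        rw [det_mul, det_mul, show (g.1.map ι).det = ι g.1.det from (ι.map_det _).symm, g.2, map_one,
          mul_one, ← det_mul, hPP, det_one]⟩
      map_one' := Subtype.ext (by simp [hPP])
      map_mul' := fun g h => Subtype.ext (by
        show P.1 * ((g.1 * h.1).map ι) * Pinv.1 =
          P.1 * (g.1.map ι) * Pinv.1 * (P.1 * (h.1.map ι) * Pinv.1)
        rw [Matrix.map_mul]
        simp only [Matrix.mul_assoc]
        rw [← Matrix.mul_assoc Pinv.1 P.1, hPP', Matrix.one_mul]) }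
  have hmem : ∀ g, C g ∈ Cfsg.SU 2 F q := by
    intro g
    refine mem_SU_iff.2 (herm_form_transport hσ ?_)
    show (P.1 * (g.1.map ι) * Pinv.1)ᵀ * (P.1 * (g.1.map ι) * Pinv.1).map σ = 1
    have hg : (g.1.map ι)ᵀ * !![0, θ; -θ, 0] * g.1.map ι = !![0, θ; -θ, 0] := by
      have hd : ι (g.1 0 0) * ι (g.1 1 1) - ι (g.1 0 1) * ι (g.1 1 0) = 1 := by
        rw [← map_mul, ← map_mul, ← map_sub, ← Matrix.det_fin_two, g.2, map_one]
      ext i j
      fin_cases i <;> fin_cases j <;> simp [Matrix.mul_apply, Fin.sum_univ_two]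
      · ring
      · linear_combination θ * hd
      · linear_combination (-θ) * hd
      · ring
    have hm : (g.1.map ι).map σ = g.1.map ι := by ext i j; simp [hι]
    rw [Matrix.map_mul, Matrix.map_mul, hm, transpose_mul, transpose_mul]
    calc Pinv.1ᵀ * ((g.1.map ι)ᵀ * P.1ᵀ) * (P.1.map σ * g.1.map ι * Pinv.1.map σ)
        = Pinv.1ᵀ * ((g.1.map ι)ᵀ * (P.1ᵀ * P.1.map σ) * g.1.map ι) * Pinv.1.map σ := by
          simp only [Matrix.mul_assoc]
      _ = Pinv.1ᵀ * (P.1ᵀ * P.1.map σ) * Pinv.1.map σ := by rw [hP, hg]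
      _ = (P.1 * Pinv.1)ᵀ * (P.1 * Pinv.1).map σ := by
          rw [transpose_mul, Matrix.map_mul]; simp only [Matrix.mul_assoc]
      _ = 1 := by rw [hPP, transpose_one, Matrix.map_one σ (map_zero σ) (map_one σ), Matrix.one_mul]
  let C' := C.codRestrict (Cfsg.SU 2 F q) hmem
  have hinj : Function.Injective C' := by
    intro g h hgh
    have h1 : P.1 * (g.1.map ι) * Pinv.1 = P.1 * (h.1.map ι) * Pinv.1 :=
      congrArg (fun k : Cfsg.SU 2 F q => k.1.1) hgh
    have h2 : g.1.map ι = h.1.map ι := by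
      have := congrArg (fun M => Pinv.1 * M * P.1) h1
      simpa [Matrix.mul_assoc, hPP', ← Matrix.mul_assoc Pinv.1 P.1] using this
    exact Subtype.ext (Matrix.map_injective hιinj h2)
  refine ⟨(MulEquiv.ofBijective C' ((Nat.bijective_iff_injective_and_card C').2 ⟨hinj, ?_⟩)).symm⟩
  have h1 := card_SU_mul hF (n := 2) (by norm_num)
  rw [card_GU hF, Finset.prod_range_succ, Finset.prod_range_succ, Finset.prod_range_zero] at h1
  norm_num at h1
  rw [card_SL_two, hK]
  exact (Nat.eq_of_mul_eq_mul_left (show 0 < q + 1 by omega) (h1.trans (by ring))).symm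

end CfsgLib.Classical
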