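import Cfsg.Agent.Lib.Classical.UnitaryFrame
import Cfsg.Agent.Lib.Classical.SU2

/-!
`SU n q` is generated by transvections for `n ≥ 3`, `(n, q) ≠ (3, 2)`.
-/

set_option autoImplicit false

namespace CfsgLib.Classical.Unitary

open Matrix

variable {F : Type*} [Field F] [Finite F] {σ : F →+* F} {q n : ℕ}

omit [Finite F] in
theorem isFrame_pair {x f : Fin n → F} (h : UFrob σ q) (hx : uh σ x x = 1) (hf : uh σ f f = 1)
    (hxf : uh σ f x = 0) : IsFrame σ (Matrix.of fun i j => ![x i, f i] j) := by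
  have hfx := h.swap_zero hxf
  simp only [uh, dotProduct, Function.comp_apply] at hx hf hxf hfx
  ext a b
  fin_cases a <;> fin_cases b <;> simp [Matrix.mul_apply, mul_comm]
  · exact hx
  · exact hxf
  · exact hfx
  · exact hf

omit [Finite F] in
theorem frame_pair_mulVec (x f : Fin n → F) (a : Fin 2 → F) :
    (Matrix.of fun i j => ![x i, f i] j) *ᵥ a = a 0 • x + a 1 • f := by
  funext i
  simp [mulVec, dotProduct, Fin.sum_univ_two, mul_comm]

/-- In a non-degenerate plane a product of transvections moves `x` to `y`. -/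
theorem step_plane (hF : Nat.card F = q ^ 2) (h : UFrob σ q) {x y : Fin n → F}
    (hx : uh σ x x = 1) (hy : uh σ y y = 1) (hD : uh σ y x * σ (uh σ y x) ≠ 1) :
    ∃ t ∈ transvGroup n F q, t.1.1 *ᵥ x = y ∧
      ∀ w, uh σ w x = 0 → uh σ w y = 0 → t.1.1 *ᵥ w = w := by
  set β := uh σ y x with hβ
  have hyx : uh σ x y = σ β := (h.symm y x).symm
  set D := 1 - β * σ β with hDdef
  have hD0 : D ≠ 0 := sub_ne_zero.2 (Ne.symm hD)
  have hDσ : D ^ q = D := by rw [← h.pow, hDdef, map_sub, map_mul, map_one, h.invol, mul_comm]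
  obtain ⟨s, hs⟩ := exists_pow_succ_eq hF hDσ
  rw [pow_succ', ← h.pow] at hs
  have hs0 : s ≠ 0 := by rintro rfl; exact hD0 (by simpa using hs.symm)
  set f := s⁻¹ • (y - β • x) with hf
  have hσs : σ s ≠ 0 := (map_ne_zero σ).2 hs0
  have hff : uh σ f f = 1 := by
    simp only [f, uh_smul_left, uh_smul_right, uh_sub_left, uh_sub_right, hx, hy, hyx, ← hβ,
      map_inv₀]
    field_simp
    linear_combination hDdef - hs
  have hfx : uh σ f x = 0 := by
    simp [f, uh_smul_left, uh_sub_left, hx, ← hβ]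
  let M : Matrix (Fin 2) (Fin 2) F := !![β, -σ s; s, σ β]
  have hMdet : M.det = 1 := by
    rw [det_fin_two_of]; linear_combination hs + hDdef
  have hM : (⟨M, hMdet⟩ : Matrix.SpecialLinearGroup (Fin 2) F) ∈ Cfsg.SU 2 F q := by
    refine mem_SU_iff.2 fun a b => ?_
    show Cfsg.hermForm 2 F q (M *ᵥ a) (M *ᵥ b) = _
    simp only [h.hermForm_eq, uh, dotProduct, Function.comp_apply, mulVec, Fin.sum_univ_two, M,
      Matrix.of_apply, Matrix.cons_val_zero, Matrix.cons_val_one, map_add, map_mul, map_neg,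
      h.invol]
    linear_combination (a 0 * σ (b 0) + a 1 * σ (b 1)) * (hs + hDdef)
  refine ⟨frameHom h _ (isFrame_pair h hx hff hfx) ⟨_, hM⟩,
    frameHom_two_mem hF h _ _ _, ?_, fun w hwx hwy => frameHom_fix h _ _ _ ?_⟩
  · have e : x = (Matrix.of fun i j => ![x i, f i] j) *ᵥ ![1, 0] := by
      rw [frame_pair_mulVec]; simp
    conv_lhs => arg 2; rw [e]
    rw [frameHom_frame, frame_pair_mulVec]
    simp only [mulVec, dotProduct, Fin.sum_univ_two, M, Matrix.of_apply, Matrix.cons_val_zero,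
      Matrix.cons_val_one, mul_one, mul_zero, add_zero]
    rw [hf, smul_smul, mul_inv_cancel₀ hs0, one_smul, add_sub_cancel]
  · have hwf : uh σ w f = 0 := by simp [f, uh_smul_right, uh_sub_right, hwx, hwy]
    simp only [uh, dotProduct, Function.comp_apply] at hwx hwf
    funext a
    fin_cases a <;> simp [mulVec, dotProduct, mul_comm]
    · exact hwx
    · exact hwf

omit [Finite F] in
theorem uh_single_self (h : UFrob σ q) (i : Fin n) :
    uh σ (Pi.single i (1 : F)) (Pi.single i 1) = 1 := by simp [uh_single_left]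

theorem exists_ne_norm (hF : Nat.card F = q ^ 2) (h : UFrob σ q) (h3 : 3 ≤ q) :
    ∃ a b : F, a ≠ 0 ∧ b ≠ 0 ∧ a * σ a + b * σ b = 1 := by
  classical
  have := Fintype.ofFinite (σ.eqLocusField (RingHom.id F))
  have hc : 2 < Fintype.card (σ.eqLocusField (RingHom.id F)) := by
    rw [← Nat.card_eq_fintype_card, fixed_card_eq hF h.pow]; omega
  obtain ⟨r, hr0, hr1⟩ : ∃ r : σ.eqLocusField (RingHom.id F), r ≠ 0 ∧ r ≠ 1 := by
    by_contra hh
    push Not at hh
    have hsub : Finset.univ ⊆ ({0, 1} : Finset (σ.eqLocusField (RingHom.id F))) := fun r _ => by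
      by_cases h0 : r = 0 <;> simp [h0, hh r]
    have := Finset.card_le_card hsub
    rw [Finset.card_univ] at this
    have := Finset.card_le_two (a := (0 : σ.eqLocusField (RingHom.id F))) (b := 1)
    omega
  have hrσ : σ (r : F) = r := r.2
  obtain ⟨a, ha⟩ := exists_pow_succ_eq hF (c := (r : F)) (by rw [← h.pow, hrσ])
  obtain ⟨b, hb⟩ := exists_pow_succ_eq hF (c := 1 - (r : F))
    (by rw [← h.pow, map_sub, map_one, hrσ])
  refine ⟨a, b, ?_, ?_, ?_⟩
  · rintro rfl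
    exact hr0 (Subtype.ext (by simpa using ha.symm))
  · rintro rfl
    exact hr1 (Subtype.ext (eq_comm.1 (sub_eq_zero.1 (by simpa using hb.symm))))
  · rw [h.pow, h.pow, ← pow_succ', ← pow_succ', ha, hb]; ring

omit [Finite F] in
theorem two_eq_zero_of_q_two [Finite F] (hF : Nat.card F = q ^ 2) (hq : q = 2) : (2 : F) = 0 := by
  have := Fintype.ofFinite F
  have h4 : ((Fintype.card F : ℕ) : F) = 0 := Nat.cast_card_eq_zero F
  rw [← Nat.card_eq_fintype_card, hF, hq] at h4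
  push_cast at h4
  exact pow_eq_zero_iff two_ne_zero |>.1 (show (2 : F) ^ 2 = 0 by linear_combination h4)

theorem exists_omega (hF : Nat.card F = q ^ 2) (h : UFrob σ q) (hq : q = 2) :
    ∃ ω : F, 1 + ω + ω ^ 2 = 0 ∧ ω ^ 3 = 1 ∧ σ ω = ω ^ 2 := by
  obtain ⟨ω, hω, hω1⟩ := exists_normOne_sq_ne_one hF
  subst hq
  refine ⟨ω, ?_, hω, h.pow ω⟩
  have hne : ω - 1 ≠ 0 := sub_ne_zero.2 (fun e => hω1 (by rw [e, one_pow]))
  exact (mul_eq_zero.1 (show (ω - 1) * (1 + ω + ω ^ 2) = 0 by linear_combination hω)).resolve_left hne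

theorem transitive_norm_one (hF : Nat.card F = q ^ 2) (h : UFrob σ q) (hn : 3 ≤ n)
    (h42 : 4 ≤ n ∨ 3 ≤ q) {x y : Fin n → F} (hx : uh σ x x = 1) (hy : uh σ y y = 1) :
    ∃ t ∈ transvGroup n F q, t.1.1 *ᵥ x = y := by
  set i₀ : Fin n := ⟨0, by omega⟩
  suffices hstd : ∀ y, uh σ y y = 1 →
      ∃ t ∈ transvGroup n F q, t.1.1 *ᵥ Pi.single i₀ 1 = y by
    obtain ⟨t, ht, htx⟩ := hstd x hx
    obtain ⟨s, hs, hsy⟩ := hstd y hy
    exact ⟨s * t⁻¹, mul_mem hs (inv_mem ht), by rw [su_mul_mulVec, ← htx, su_inv_mulVec, hsy]⟩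
  intro y hy
  have he := uh_single_self (n := n) h i₀
  suffices hz : ∃ z, uh σ z z = 1 ∧ z i₀ = 0 ∧ uh σ y z * σ (uh σ y z) ≠ 1 by
    obtain ⟨z, hzz, hz0, hz⟩ := hz
    obtain ⟨t, ht, htz, -⟩ := step_plane hF h he hzz
      (by simp [uh_single_right, hz0])
    obtain ⟨s, hs, hsy, -⟩ := step_plane hF h hzz hy hz
    exact ⟨s * t, mul_mem hs ht, by rw [su_mul_mulVec, htz, hsy]⟩
  by_cases hsome : ∃ i, i ≠ i₀ ∧ y i * σ (y i) ≠ 1
  · obtain ⟨i, hi, hyi⟩ := hsome
    exact ⟨Pi.single i 1, uh_single_self h i, by simp [hi.symm], by simpa [uh_single_right] using hyi⟩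
  push Not at hsome
  set i₁ : Fin n := ⟨1, by omega⟩
  set i₂ : Fin n := ⟨2, by omega⟩
  have h01 : i₁ ≠ i₀ := by simp [i₀, i₁]
  have h02 : i₂ ≠ i₀ := by simp [i₀, i₂]
  have h12 : i₁ ≠ i₂ := by simp [i₁, i₂]
  by_cases h3 : 3 ≤ q
  · obtain ⟨a, b, ha, hb, hab⟩ := exists_ne_norm hF h h3
    obtain ⟨ξ, hξ, hξ2⟩ := exists_normOne_sq_ne_one hF
    rw [pow_succ', ← h.pow] at hξ
    have hu := hsome i₁ h01
    have hw := hsome i₂ h02
    have hcand : ∀ ζ : F, ζ * σ ζ = 1 →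
        uh σ (Pi.single i₁ a + Pi.single i₂ (b * ζ)) (Pi.single i₁ a + Pi.single i₂ (b * ζ)) = 1 := by
      intro ζ hζ
      simp [uh_add_left, uh_single_left, h12, h12.symm]
      linear_combination hab + (b * σ b) * hζ
    by_contra hno
    push Not at hno
    have key : ∀ ζ : F, ζ * σ ζ = 1 →
        (y i₁ * σ a) * σ (y i₂ * σ b) * ζ + σ (y i₁ * σ a) * (y i₂ * σ b) * σ ζ = 0 := by
      intro ζ hζ
      have := hno _ (hcand ζ hζ) (by simp [h01.symm, h02.symm])
      simp only [uh_add_right, uh_single_right, map_add, map_mul, h.invol] at this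
      simp only [map_mul, h.invol]
      linear_combination this - (a * σ a) * hu - (b * σ b * ζ * σ ζ) * hw - (b * σ b) * hζ - hab
    have k1 := key 1 (by simp)
    have k2 := key ξ hξ
    rw [map_one, mul_one, mul_one] at k1
    set p := (y i₁ * σ a) * σ (y i₂ * σ b) with hp
    have hp0 : p ≠ 0 := by
      rw [hp]
      refine mul_ne_zero (mul_ne_zero ?_ ((map_ne_zero σ).2 ha))
        ((map_ne_zero σ).2 (mul_ne_zero ?_ ((map_ne_zero σ).2 hb)))
      · intro h0; simp [h0] at hu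
      · intro h0; simp [h0] at hw
    have : ξ = σ ξ := mul_left_cancel₀ hp0 (by linear_combination k2 - σ ξ * k1)
    exact hξ2 (by rw [sq]; nth_rw 2 [this]; exact hξ)
  · have hq : q = 2 := by have := two_le_q hF; omega
    obtain ⟨ω, hω, hω3, hωσ⟩ := exists_omega hF h hq
    have h2 := two_eq_zero_of_q_two hF hq
    set i₃ : Fin n := ⟨3, by omega⟩
    have h03 : i₃ ≠ i₀ := by simp [i₀, i₃]
    have h13 : i₁ ≠ i₃ := by simp [i₁, i₃]
    have h23 : i₂ ≠ i₃ := by simp [i₂, i₃]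
    refine ⟨Pi.single i₁ (y i₁) + Pi.single i₂ (y i₂ * ω) + Pi.single i₃ (y i₃ * ω ^ 2),
      ?_, by simp [h01.symm, h02.symm, h03.symm], ?_⟩
    · simp [uh_add_left, uh_single_left, h12, h12.symm, h13, h13.symm, h23, h23.symm, hωσ, map_pow]
      linear_combination hsome i₁ h01 + (ω ^ 3) * hsome i₂ h02 + (ω ^ 6) * hsome i₃ h03 +
        (ω ^ 3 + 2) * hω3 + h2
    · simp [uh_add_right, uh_single_right, hωσ, map_pow]
      have : y i₁ * σ (y i₁) + y i₂ * (σ (y i₂) * ω ^ 2) + y i₃ * (σ (y i₃) * (ω ^ 2) ^ 2) = 0 := by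
        linear_combination hsome i₁ h01 + (ω ^ 2) * hsome i₂ h02 + (ω ^ 4) * hsome i₃ h03 +
          ω * hω3 + hω
      simp [this]

theorem descend (h : UFrob σ q) {k : ℕ} (f : Fin k → Fin n) (hf : Function.Injective f)
    (hk : transvGroup k F q = ⊤) (g : Cfsg.SU n F q)
    (hg : ∀ j, (∀ i, f i ≠ j) → g.1.1 *ᵥ Pi.single j 1 = Pi.single j 1) :
    g ∈ transvGroup n F q := by
  obtain ⟨P, hP, M, rfl⟩ := exists_frameHom_eq h f hf g hg
  exact frameHom_mem h P hP (by rw [hk]; exact Subgroup.mem_top M)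

/-- `T(v₀) T(v₁) T(v₂) T(v₃)` fixes `e₃` and moves `e₀` to `e₀ + e₁ + e₂`. -/
theorem exists_weight_three (hF : Nat.card F = q ^ 2) (h : UFrob σ q) (hq : q = 2) :
    ∃ t ∈ transvGroup 4 F q, t.1.1 *ᵥ Pi.single 3 1 = Pi.single 3 1 ∧
      t.1.1 *ᵥ Pi.single 0 1 = ![1, 1, 1, 0] := by
  obtain ⟨ω, hω, hω3, hωσ⟩ := exists_omega hF h hq
  have h2 := two_eq_zero_of_q_two hF hq
  have hc : (1 : F) + σ 1 = 0 := by rw [map_one, one_add_one_eq_two, h2]
  have hn2 : ∀ a b : F, uh σ ![1, 0, 0, a] ![1, 0, 0, a] = 1 + a * σ a ∧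
      uh σ ![1, ω ^ 2, ω ^ 2, b] ![1, ω ^ 2, ω ^ 2, b] = 1 + ω ^ 6 + ω ^ 6 + b * σ b := fun a b => by
    constructor <;> simp [uh, dotProduct, Fin.sum_univ_four, hωσ, map_pow] <;> ring
  have i0 : uh σ ![1, ω ^ 2, ω ^ 2, ω ^ 2] ![1, ω ^ 2, ω ^ 2, ω ^ 2] = 0 := by
    rw [(hn2 0 _).2, map_pow, hωσ]; linear_combination 3 * (ω ^ 3 + 1) * hω3 + 2 * h2
  have i1 : uh σ ![1, ω ^ 2, ω ^ 2, 1] ![1, ω ^ 2, ω ^ 2, 1] = 0 := by
    rw [(hn2 0 _).2, map_one]; linear_combination 2 * (ω ^ 3 + 1) * hω3 + 2 * h2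
  have i2 : uh σ ![(1 : F), 0, 0, ω] ![1, 0, 0, ω] = 0 := by
    rw [(hn2 _ 0).1, hωσ]; linear_combination hω3 + h2
  have i3 : uh σ ![(1 : F), 0, 0, 1] ![1, 0, 0, 1] = 0 := by
    rw [(hn2 _ 0).1, map_one]; linear_combination h2
  have e3 : (Pi.single 3 1 : Fin 4 → F) = ![0, 0, 0, 1] := by
    funext i; fin_cases i <;> simp
  have e0 : (Pi.single 0 1 : Fin 4 → F) = ![1, 0, 0, 0] := by
    funext i; fin_cases i <;> simp
  rw [e0, e3]
  refine ⟨utv h _ 1 i0 hc * utv h _ 1 i1 hc * utv h _ 1 i2 hc * utv h _ 1 i3 hc,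
    mul_mem (mul_mem (mul_mem (utv_mem h _ _ _ _) (utv_mem h _ _ _ _)) (utv_mem h _ _ _ _))
      (utv_mem h _ _ _ _), ?_, ?_⟩
  all_goals
    simp only [su_mul_mulVec, utv_mulVec]
    funext i
    fin_cases i <;>
      simp [uh, dotProduct, Fin.sum_univ_four, hωσ, map_pow] <;>
      grobner

theorem base_four_two (hF : Nat.card F = q ^ 2) (h : UFrob σ q) (hq : q = 2)
    (g : Cfsg.SU 4 F q) (hg : g.1.1 *ᵥ Pi.single 3 1 = Pi.single 3 1) :
    g ∈ transvGroup 4 F q := by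
  suffices hz : ∀ z : Fin 4 → F, uh σ z z = 1 → z 3 = 0 →
      ∃ t ∈ transvGroup 4 F q, t.1.1 *ᵥ Pi.single 0 1 = z ∧
        t.1.1 *ᵥ Pi.single 3 1 = Pi.single 3 1 by
    set z := g.1.1 *ᵥ Pi.single 0 1 with hzdef
    have hz1 : uh σ z z = 1 := by rw [su_uh h, uh_single_self h]
    have hz3 : z 3 = 0 := by
      have := su_uh h g (Pi.single 0 1) (Pi.single 3 1)
      rw [hg, uh_single_right, uh_single_right] at this
      simpa [← hzdef] using this
    obtain ⟨t, ht, ht0, ht3⟩ := hz z hz1 hz3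
    have hfix : ∀ j, (∀ i, (![1, 2] : Fin 2 → Fin 4) i ≠ j) →
        (t⁻¹ * g).1.1 *ᵥ Pi.single j 1 = Pi.single j 1 := by
      intro j hj
      fin_cases j
      · show (t⁻¹ * g).1.1 *ᵥ Pi.single 0 1 = Pi.single 0 1
        rw [su_mul_mulVec, ← hzdef, ← ht0, su_inv_mulVec]
      · exact absurd rfl (hj 0)
      · exact absurd rfl (hj 1)
      · show (t⁻¹ * g).1.1 *ᵥ Pi.single 3 1 = Pi.single 3 1
        rw [su_mul_mulVec, hg]
        nth_rw 1 [← ht3]
        rw [su_inv_mulVec]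
    simpa using mul_mem ht
      (descend h ![1, 2] (by decide) (transvGroup_two hF h) _ hfix)
  intro z hz hz3
  have hN : ∀ a : F, a ≠ 0 → a * σ a = 1 := fun a ha => by
    have := Fintype.ofFinite F
    have h3 := FiniteField.pow_card_sub_one_eq_one a ha
    rw [← Nat.card_eq_fintype_card, hF, hq] at h3
    rw [h.pow, hq, ← pow_succ']
    exact h3
  have h3e : uh σ (Pi.single 3 1) (Pi.single (0 : Fin 4) (1 : F)) = 0 := by simp [uh_single_left]
  have hscal : ∀ a : F, a ≠ 0 → ∃ t ∈ transvGroup 4 F q,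
      t.1.1 *ᵥ Pi.single 0 1 = Pi.single 0 a ∧ t.1.1 *ᵥ Pi.single 3 1 = Pi.single 3 1 := by
    intro a ha
    obtain ⟨t, ht, htx, htf⟩ := step_plane hF h (uh_single_self h 0) (uh_single_self h (1 : Fin 4))
      (by simp [uh_single_left])
    obtain ⟨s, hs, hsx, hsf⟩ := step_plane hF h (uh_single_self h (1 : Fin 4))
      (y := Pi.single 0 a) (by simp [uh_single_left, hN a ha]) (by simp [uh_single_left])
    refine ⟨s * t, mul_mem hs ht, by rw [su_mul_mulVec, htx, hsx], ?_⟩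
    rw [su_mul_mulVec, htf _ h3e (by simp [uh_single_left]),
      hsf _ (by simp [uh_single_left]) (by simp [uh_single_left])]
  have h2 := two_eq_zero_of_q_two hF hq
  by_cases hone : ∃ i, z = Pi.single i (z i)
  · obtain ⟨i, hi⟩ := hone
    have hzi : z i ≠ 0 := fun h0 => by
      rw [hi, h0] at hz; simp [uh_zero_left] at hz
    rcases eq_or_ne i 0 with rfl | h0
    · rw [hi]; exact hscal _ hzi
    obtain ⟨t, ht, htx, htf⟩ := step_plane hF h (uh_single_self h 0) (y := z) hz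
      (by rw [hi]; simp [uh_single_left, h0])
    exact ⟨t, ht, htx, htf _ h3e (by rw [uh_single_left, hz3, map_zero, mul_zero])⟩
  push Not at hone
  have hnz : z 0 ≠ 0 ∧ z 1 ≠ 0 ∧ z 2 ≠ 0 := by
    have hsum : z 0 * σ (z 0) + z 1 * σ (z 1) + z 2 * σ (z 2) = 1 := by
      rw [← hz]; simp [uh, dotProduct, Fin.sum_univ_four, hz3]
    have h21 : (1 : F) + 1 ≠ 1 := fun e => one_ne_zero (by linear_combination e)
    by_cases a0 : z 0 = 0 <;> by_cases a1 : z 1 = 0 <;> by_cases a2 : z 2 = 0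
    all_goals first
      | exact ⟨a0, a1, a2⟩
      | (simp only [a0, map_zero, mul_zero, zero_add, add_zero, a1, a2] at hsum
         first
          | exact absurd hsum zero_ne_one
          | (refine absurd ?_ (hone 0); funext j; fin_cases j <;> simp [a1, a2, hz3]; done)
          | (refine absurd ?_ (hone 1); funext j; fin_cases j <;> simp [a0, a2, hz3]; done)
          | (refine absurd ?_ (hone 2); funext j; fin_cases j <;> simp [a0, a1, hz3]; done)
          | (rw [hN _ a0, hN _ a1] at hsum; exact absurd hsum h21)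
          | (rw [hN _ a0, hN _ a2] at hsum; exact absurd hsum h21)
          | (rw [hN _ a1, hN _ a2] at hsum; exact absurd hsum h21))
  obtain ⟨a0, a1, a2⟩ := hnz
  obtain ⟨t, ht, ht3, ht0⟩ := exists_weight_three hF h hq
  obtain ⟨s, hs, hs0, hs3⟩ := hscal (z 0) a0
  let D : Matrix (Fin 4) (Fin 4) F := Matrix.diagonal ![z 0, z 1, z 2, 1]
  have hDdet : D.det ≠ 0 := by
    rw [det_diagonal, Fin.prod_univ_four]
    simp [a0, a1, a2]
  let d := GeneralLinearGroup.mkOfDetNeZero D hDdet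
  have hd : d ∈ Cfsg.GU 4 F q := fun u v => by
    show Cfsg.hermForm 4 F q (D *ᵥ u) (D *ᵥ v) = _
    rw [diag_mulVec_herm]
    refine Finset.sum_congr rfl fun i _ => ?_
    rw [pow_succ', ← h.pow]
    fin_cases i <;> simp [hN _ a0, hN _ a1, hN _ a2]
  refine ⟨guConj h d hd t * s, mul_mem (guConj_mem h d hd ht) hs, ?_, ?_⟩
  · rw [su_mul_mulVec, hs0, show (Pi.single 0 (z 0) : Fin 4 → F) = d.1 *ᵥ Pi.single 0 1 from by
      funext j; fin_cases j <;> simp [d, D, mulVec_diagonal], guConj_mulVec, ht0]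
    funext j
    fin_cases j <;> simp [d, D, mulVec_diagonal, hz3]
  · have hd3 : d.1 *ᵥ Pi.single 3 1 = Pi.single 3 1 := by
      funext j; fin_cases j <;> simp [d, D, mulVec_diagonal]
    rw [su_mul_mulVec, hs3]
    conv_lhs => rw [← hd3]
    rw [guConj_mulVec, ht3, hd3]

theorem transvGroup_eq_top (hF : Nat.card F = q ^ 2) (h : UFrob σ q) :
    ∀ n : ℕ, 2 ≤ n → (n = 3 → 3 ≤ q) → transvGroup n F q = ⊤ := by
  intro n hn
  induction n, hn using Nat.le_induction with
  | base => exact fun _ => transvGroup_two hF h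
  | succ n hn ih =>
    intro h32
    refine eq_top_iff.2 fun g _ => ?_
    have hq := two_le_q hF
    obtain ⟨t, ht, hte⟩ := transitive_norm_one hF h (n := n + 1) (by omega)
      (by rcases Nat.lt_or_ge (n + 1) 4 with hl | hl
          · exact Or.inr (h32 (by omega))
          · exact Or.inl hl)
      (uh_single_self h (Fin.last n)) (y := g.1.1 *ᵥ Pi.single (Fin.last n) 1)
      (by rw [su_uh h, uh_single_self h])
    suffices hh : ∀ g : Cfsg.SU (n + 1) F q,
        g.1.1 *ᵥ Pi.single (Fin.last n) 1 = Pi.single (Fin.last n) 1 →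
          g ∈ transvGroup (n + 1) F q by
      simpa using mul_mem ht (hh (t⁻¹ * g) (by rw [su_mul_mulVec, ← hte, su_inv_mulVec]))
    intro g hg
    by_cases h42 : n = 3 ∧ q = 2
    · obtain ⟨rfl, hq2⟩ := h42
      exact base_four_two hF h hq2 g hg
    refine descend h Fin.castSucc (Fin.castSucc_injective n) (ih fun h3 => ?_) g fun j hj => ?_
    · by_contra hlt
      exact h42 ⟨h3, by omega⟩
    · obtain ⟨i, rfl⟩ | rfl := j.eq_castSucc_or_eq_last
      · exact absurd rfl (hj i)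
      · exact hg

end CfsgLib.Classical.Unitary
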