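import Cfsg.Agent.Lib.Classical.Order
import Cfsg.Agent.Lib.Classical.SLGen

/-!
The commutator subgroup of `GL`.
-/

set_option autoImplicit false

namespace CfsgLib.Classical

open Matrix Matrix.SpecialLinearGroup
open scoped commutatorElement

variable {F : Type*} [Field F]

theorem transvection_mem_commutator_GL {ι : Type*} [Fintype ι] [DecidableEq ι] {i j : ι}
    (hij : i ≠ j) {a : F} (ha0 : a ≠ 0) (ha1 : a ≠ 1) (c : F) :
    toGL (transvection hij c) ∈ commutator (GL ι F) := by
  have hd : Matrix.det (Matrix.diagonal (Function.update (fun _ : ι => (1 : F)) i a)) ≠ 0 := by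
    rw [Matrix.det_diagonal, Finset.prod_ne_zero_iff]
    intro k _
    rcases eq_or_ne k i with rfl | hk <;> simp [*]
  let D : GL ι F := Matrix.GeneralLinearGroup.mkOfDetNeZero
    (Matrix.diagonal (Function.update (fun _ => (1 : F)) i a)) hd
  let T : GL ι F := toGL (transvection hij (c / (a - 1)))
  have key : D * T = toGL (transvection hij c) * (T * D) := by
    refine Units.ext (Matrix.ext_iff_mulVec.2 fun v => ?_)
    simp only [Units.val_mul, ← Matrix.mulVec_mulVec, D, T, coe_GL_coe_matrix,
      Matrix.GeneralLinearGroup.val_mkOfDetNeZero, transvection_mulVec]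
    funext k
    have : a - 1 ≠ 0 := sub_ne_zero.2 ha1
    rcases eq_or_ne k i with rfl | hk
    · simp [mulVec_diagonal, hij.symm]
      field_simp
      ring
    · simp [mulVec_diagonal, hk]
  have key' : toGL (transvection hij c) = ⁅D, T⁆ := by
    rw [commutatorElement_def, key]; group
  rw [key']
  exact Subgroup.commutator_mem_commutator (Subgroup.mem_top _) (Subgroup.mem_top _)

theorem GL_commutator_eq_det_ker (n : ℕ) (h : n = 2 → ∃ a : F, a ≠ 0 ∧ a ≠ 1) :
    commutator (GL (Fin n) F) = (Matrix.GeneralLinearGroup.det : GL (Fin n) F →* Fˣ).ker := by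
  refine le_antisymm (Abelianization.commutator_subset_ker _) ?_
  rw [← range_toGL, MonoidHom.range_eq_map]
  rcases lt_trichotomy n 2 with hn | rfl | hn
  · have : Subsingleton (Fin n) := Fin.subsingleton_iff_le_one.2 (by omega)
    rw [Subgroup.map_le_iff_le_comap]
    exact fun x _ => by simp [Subsingleton.elim x 1]
  · obtain ⟨a, ha0, ha1⟩ := h rfl
    rw [Subgroup.map_le_iff_le_comap]
    refine le_of_eq (eq_top_of_transvection_mem _ fun i j hij c => ?_).symm
    rw [Subgroup.mem_comap]
    exact transvection_mem_commutator_GL hij ha0 ha1 c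
  · rw [← SL_commutator_eq_top (F := F) (show 3 ≤ Fintype.card (Fin n) by simp; omega)]
    rw [commutator_def, Subgroup.map_commutator]
    exact Subgroup.commutator_mono le_top le_top

end CfsgLib.Classical
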