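import Cfsg.Agent.Lib.Classical.UnitaryOrder
import Cfsg.Agent.Lib.Classical.GLComm

/-!
Orders of `SU`, `PSU` and the centre of `SU`.
-/

set_option autoImplicit false

namespace CfsgLib.Classical

open Matrix

variable {F : Type*} [Field F] [Finite F] {q n : ℕ}

omit [Finite F] in
theorem diag_mulVec_herm (x : Fin n → F) (u v : Fin n → F) :
    Cfsg.hermForm n F q (Matrix.diagonal x *ᵥ u) (Matrix.diagonal x *ᵥ v) =
      ∑ i, x i ^ (q + 1) * (u i * v i ^ q) := by
  simp only [Cfsg.hermForm, mulVec_diagonal]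
  exact Finset.sum_congr rfl fun i _ => by ring

omit [Finite F] in
theorem mem_SU_iff {g : Matrix.SpecialLinearGroup (Fin n) F} :
    g ∈ Cfsg.SU n F q ↔ ∀ u v, Cfsg.hermForm n F q (g.1 *ᵥ u) (g.1 *ᵥ v) =
      Cfsg.hermForm n F q u v := Iff.rfl

omit [Finite F] in
theorem diagonal_mem_SU {x : Fin n → F} (hx : ∀ i, x i ^ (q + 1) = 1)
    (hd : (Matrix.diagonal x).det = 1) :
    (⟨Matrix.diagonal x, hd⟩ : Matrix.SpecialLinearGroup (Fin n) F) ∈ Cfsg.SU n F q :=
  mem_SU_iff.2 fun u v => by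
    show Cfsg.hermForm n F q (Matrix.diagonal x *ᵥ u) (Matrix.diagonal x *ᵥ v) = _
    rw [diag_mulVec_herm]
    exact Finset.sum_congr rfl fun i _ => by rw [hx i, one_mul]

/-- The determinant on `GU`. -/
noncomputable def guDet (n : ℕ) (F : Type*) [Field F] (q : ℕ) : Cfsg.GU n F q →* Fˣ :=
  GeneralLinearGroup.det.comp (Cfsg.GU n F q).subtype

theorem guDet_range (hF : Nat.card F = q ^ 2) (hn : 1 ≤ n) :
    (guDet n F q).range = normOne F q := by
  obtain ⟨σ, hσ, -, hσ2⟩ := exists_frob hF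
  have hq0 : q ≠ 0 := by have := two_le_q hF; omega
  refine le_antisymm ?_ fun u hu => ?_
  · rintro _ ⟨g, rfl⟩
    refine MonoidHom.mem_ker.2 (Units.ext ?_)
    have h : (g.1.1.map σ)ᵀ * g.1.1 = 1 := by
      ext i j
      have := (mem_GU_iff_cols hσ hq0).1 g.2 j i
      rw [Cfsg.hermForm] at this
      simp only [Matrix.mul_apply, Matrix.transpose_apply, Matrix.map_apply, hσ, Matrix.one_apply,
        eq_comm (a := i) (b := j)]
      rw [← this]
      exact Finset.sum_congr rfl fun l _ => mul_comm _ _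
    have := congrArg Matrix.det h
    rw [Matrix.det_mul, Matrix.det_transpose, Matrix.det_one] at this
    rw [show (g.1.1.map σ).det = σ g.1.1.det from (σ.map_det _).symm, hσ, ← pow_succ] at this
    simpa [guDet] using this
  · let i₀ : Fin n := ⟨0, hn⟩
    let x : Fin n → F := Function.update (fun _ => 1) i₀ (u : F)
    have hu' : (u : F) ^ (q + 1) = 1 := by
      have := congrArg Units.val (MonoidHom.mem_ker.1 hu)
      simpa using this
    have hdet : (Matrix.diagonal x).det = (u : F) := by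
      rw [Matrix.det_diagonal, Finset.prod_update_of_mem (Finset.mem_univ _)]
      simp
    refine ⟨⟨GeneralLinearGroup.mkOfDetNeZero (Matrix.diagonal x) (by rw [hdet]; exact u.ne_zero),
      mem_GU_iff.2 fun w v => ?_⟩, Units.ext ?_⟩
    · show Cfsg.hermForm n F q (Matrix.diagonal x *ᵥ w) (Matrix.diagonal x *ᵥ v) = _
      rw [diag_mulVec_herm]
      refine Finset.sum_congr rfl fun i _ => ?_
      rcases eq_or_ne i i₀ with rfl | h <;> simp [x, *]
    · simpa [guDet] using hdet

/-- `(q+1) |SU_n| = |GU_n|`. -/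
theorem card_SU_mul (hF : Nat.card F = q ^ 2) (hn : 1 ≤ n) :
    (q + 1) * Nat.card (Cfsg.SU n F q) = Nat.card (Cfsg.GU n F q) := by
  have hker : Nat.card (guDet n F q).ker = Nat.card (Cfsg.SU n F q) := by
    refine (Nat.card_congr
      { toFun := fun g => ⟨⟨Matrix.SpecialLinearGroup.toGL g.1, g.2⟩,
          MonoidHom.mem_ker.2 (Units.ext (by simp [guDet]))⟩
        invFun := fun g => ⟨⟨g.1.1.1, by
          have := congrArg Units.val (MonoidHom.mem_ker.1 g.2)
          simpa [guDet] using this⟩, g.1.2⟩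
        left_inv := fun g => rfl
        right_inv := fun g => Subtype.ext (Subtype.ext (Units.ext rfl)) }).symm
  rw [Subgroup.card_eq_card_quotient_mul_card_subgroup (guDet n F q).ker,
    Nat.card_congr (QuotientGroup.quotientKerEquivRange (guDet n F q)).toEquiv,
    guDet_range hF hn, card_normOne hF, hker]

/-- The signed transposition `e_a ↦ e_b ↦ -e_a`. -/
def signSwap (F : Type*) [Field F] {n : ℕ} (a b : Fin n) : Matrix (Fin n) (Fin n) F :=
  Matrix.of fun i j => if j = Equiv.swap a b i then (if i = a then -1 else 1) else 0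

omit [Finite F] in
theorem signSwap_mulVec (a b : Fin n) (u : Fin n → F) (i : Fin n) :
    (signSwap F a b *ᵥ u) i = (if i = a then -1 else 1) * u (Equiv.swap a b i) := by
  simp [signSwap, Matrix.mulVec, dotProduct]

omit [Finite F] in
theorem signSwap_det {a b : Fin n} (h : a ≠ b) : (signSwap F a b).det = 1 := by
  have : signSwap F a b = Matrix.diagonal (Function.update (fun _ => (1 : F)) a (-1)) *
      (1 : Matrix (Fin n) (Fin n) F).submatrix (Equiv.swap a b) id := by
    ext i j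
    rw [Matrix.diagonal_mul]
    simp only [signSwap, Matrix.of_apply, Matrix.submatrix_apply, id_eq, Matrix.one_apply,
      Function.update_apply, eq_comm (a := j)]
    split_ifs <;> simp
  rw [this, Matrix.det_mul, Matrix.det_diagonal, Finset.prod_update_of_mem (Finset.mem_univ _),
    Matrix.det_permute, Equiv.Perm.sign_swap h]
  simp

theorem signSwap_mem_SU (hF : Nat.card F = q ^ 2) {a b : Fin n} (h : a ≠ b) :
    (⟨signSwap F a b, signSwap_det h⟩ : Matrix.SpecialLinearGroup (Fin n) F) ∈ Cfsg.SU n F q := by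
  obtain ⟨σ, hσ, -, -⟩ := exists_frob hF
  refine mem_SU_iff.2 fun u v => ?_
  show Cfsg.hermForm n F q (signSwap F a b *ᵥ u) (signSwap F a b *ᵥ v) = _
  simp only [Cfsg.hermForm, signSwap_mulVec, mul_pow]
  refine Fintype.sum_equiv (Equiv.swap a b) _ _ fun i => ?_
  split_ifs
  · rw [← hσ (-1), map_neg, map_one]; ring
  · simp

theorem pow_eq_one_of_dvd {x : F} {d m : ℕ} (h : x ^ d = 1) (hd : d ∣ m) : x ^ m = 1 := by
  obtain ⟨k, rfl⟩ := hd
  rw [pow_mul, h, one_pow]

theorem exists_normOne_sq_ne_one (hF : Nat.card F = q ^ 2) :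
    ∃ x : F, x ^ (q + 1) = 1 ∧ x ^ 2 ≠ 1 := by
  obtain ⟨g, hg⟩ := IsCyclic.exists_generator (α := normOne F q)
  refine ⟨(g.1 : F), by simpa using congrArg Units.val (MonoidHom.mem_ker.1 g.2), fun h => ?_⟩
  have h1 : orderOf g ≤ 2 :=
    orderOf_le_of_pow_eq_one zero_lt_two (Subtype.ext (Units.ext (by simpa using h)))
  rw [orderOf_eq_card_of_forall_mem_zpowers hg, card_normOne hF] at h1
  have := two_le_q hF
  omega

theorem SU_center_scalar (hF : Nat.card F = q ^ 2) (hn : 2 ≤ n) {g : Cfsg.SU n F q}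
    (hg : g ∈ Subgroup.center (Cfsg.SU n F q)) :
    ∃ c : F, c ^ (q + 1) = 1 ∧ c ^ n = 1 ∧ g.1.1 = Matrix.diagonal fun _ => c := by
  obtain ⟨x, hx, hx1⟩ := exists_normOne_sq_ne_one hF
  have hx0 : x ≠ 0 := by rintro rfl; simp at hx
  have hcomm : ∀ (m : Matrix (Fin n) (Fin n) F) (hd : m.det = 1),
      (⟨m, hd⟩ : Matrix.SpecialLinearGroup (Fin n) F) ∈ Cfsg.SU n F q → m * g.1.1 = g.1.1 * m :=
    fun m hd hm => congrArg (fun k : Cfsg.SU n F q => k.1.1) (Subgroup.mem_center_iff.1 hg ⟨_, hm⟩)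
  have hdiag : ∀ a b, a ≠ b → g.1.1 a b = 0 := by
    intro a b hab
    set d : Fin n → F := Function.update (Function.update (fun _ => 1) b x⁻¹) a x with hd
    have hdet : (Matrix.diagonal d).det = 1 := by
      rw [Matrix.det_diagonal, hd, Finset.prod_update_of_mem (Finset.mem_univ _),
        Finset.prod_update_of_mem (by simp [hab.symm])]
      simp [mul_inv_cancel₀ hx0]
    have := hcomm _ hdet (diagonal_mem_SU (fun i => by
      simp only [hd, Function.update_apply]
      split_ifs <;> simp [hx, inv_pow]) hdet)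
    have hab' := congrFun (congrFun this a) b
    rw [Matrix.diagonal_mul, Matrix.mul_diagonal] at hab'
    simp [hd, hab.symm] at hab'
    by_contra h0
    have h' : g.1.1 a b * (x ^ 2 - 1) = 0 := by
      have : g.1.1 a b * x⁻¹ * x = g.1.1 a b := by rw [inv_mul_cancel_right₀ hx0]
      linear_combination x * hab' + this
    exact hx1 (sub_eq_zero.1 ((mul_eq_zero.1 h').resolve_left h0))
  have hsame : ∀ a b, g.1.1 a a = g.1.1 b b := by
    intro a b
    rcases eq_or_ne a b with rfl | hab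
    · rfl
    have hab' := congrFun (congrFun (hcomm _ _ (signSwap_mem_SU hF hab)) b) a
    rw [Matrix.mul_apply, Matrix.mul_apply, Finset.sum_eq_single a, Finset.sum_eq_single b] at hab'
    · simpa [signSwap, hab.symm] using hab'
    · intro l _ hl; simp [hdiag b l hl.symm]
    · simp
    · intro l _ hl; simp [hdiag l a hl]
    · simp
  let i₀ : Fin n := ⟨0, by omega⟩
  refine ⟨g.1.1 i₀ i₀, ?_, ?_, ?_⟩
  all_goals
    have hsc : g.1.1 = Matrix.diagonal fun _ => g.1.1 i₀ i₀ := by
      ext a b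
      rcases eq_or_ne a b with rfl | h
      · simp [hsame a i₀]
      · simp [hdiag a b h, h]
  · have := mem_SU_iff.1 g.2 (Pi.single i₀ 1) (Pi.single i₀ 1)
    rw [hsc, diag_mulVec_herm] at this
    have hq0 : q ≠ 0 := by have := two_le_q hF; omega
    rw [Cfsg.hermForm, Finset.sum_eq_single i₀ (fun l _ hl => by simp [hl]) (by simp),
      Finset.sum_eq_single i₀ (fun l _ hl => by simp [hl]) (by simp)] at this
    simpa using this
  · have := g.1.2
    rw [hsc, Matrix.det_diagonal] at this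
    simpa using this
  · exact hsc

theorem card_center_SU (hF : Nat.card F = q ^ 2) (hn : 2 ≤ n) :
    Nat.card (Subgroup.center (Cfsg.SU n F q)) = Nat.gcd n (q + 1) := by
  have hdvd : q + 1 ∣ Nat.card F - 1 := ⟨q - 1, by rw [hF, ← Nat.sq_sub_sq, one_pow]⟩
  rw [← Nat.gcd_eq_right ((Nat.gcd_dvd_right n (q + 1)).trans hdvd), ← card_units_field,
    ← IsCyclic.card_powMonoidHom_ker]
  let i₀ : Fin n := ⟨0, by omega⟩
  symm
  have hmem : ∀ u : (powMonoidHom (Nat.gcd n (q + 1)) : Fˣ →* Fˣ).ker,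
      (u.1 : F) ^ n = 1 ∧ (u.1 : F) ^ (q + 1) = 1 := by
    intro u
    have h : (u.1 : F) ^ Nat.gcd n (q + 1) = 1 := by
      simpa using congrArg Units.val (MonoidHom.mem_ker.1 u.2)
    constructor
    · exact pow_eq_one_of_dvd h (Nat.gcd_dvd_left n (q + 1))
    · exact pow_eq_one_of_dvd h (Nat.gcd_dvd_right n (q + 1))
  have hd : ∀ u : (powMonoidHom (Nat.gcd n (q + 1)) : Fˣ →* Fˣ).ker,
      (Matrix.diagonal fun _ : Fin n => (u.1 : F)).det = 1 := fun u => by
    simp [(hmem u).1]
  let f : (powMonoidHom (Nat.gcd n (q + 1)) : Fˣ →* Fˣ).ker → Subgroup.center (Cfsg.SU n F q) :=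
    fun u => ⟨⟨⟨_, hd u⟩, diagonal_mem_SU (fun _ => (hmem u).2) (hd u)⟩,
      Subgroup.mem_center_iff.2 fun k => Subtype.ext (Subtype.ext (by
        show k.1.1 * Matrix.diagonal (fun _ => (u.1 : F)) =
          Matrix.diagonal (fun _ => (u.1 : F)) * k.1.1
        ext a b
        rw [Matrix.mul_diagonal, Matrix.diagonal_mul, mul_comm]))⟩
  refine Nat.card_congr (Equiv.ofBijective f ⟨fun u v h => ?_, fun g => ?_⟩)
  · refine Subtype.ext (Units.ext ?_)
    simpa [f] using congrArg (fun k : Subgroup.center (Cfsg.SU n F q) => k.1.1.1 i₀ i₀) h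
  · obtain ⟨c, hc1, hc2, hc⟩ := SU_center_scalar hF hn g.2
    have hc0 : c ≠ 0 := by rintro rfl; simp at hc1
    refine ⟨⟨Units.mk0 c hc0, MonoidHom.mem_ker.2 ?_⟩, ?_⟩
    · rw [powMonoidHom_apply, ← orderOf_dvd_iff_pow_eq_one, Nat.dvd_gcd_iff,
        orderOf_dvd_iff_pow_eq_one, orderOf_dvd_iff_pow_eq_one]
      exact ⟨Units.ext (by simpa using hc2), Units.ext (by simpa using hc1)⟩
    · exact Subtype.ext (Subtype.ext (Subtype.ext hc.symm))

theorem card_PSU_mul (hF : Nat.card F = q ^ 2) (hn : 2 ≤ n) :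
    Nat.gcd n (q + 1) * ((q + 1) * Nat.card (Cfsg.PSU n F q)) = Nat.card (Cfsg.GU n F q) := by
  rw [← card_SU_mul hF (show 1 ≤ n by omega),
    Subgroup.card_eq_card_quotient_mul_card_subgroup (Subgroup.center (Cfsg.SU n F q)),
    card_center_SU hF hn]
  ring

end CfsgLib.Classical
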