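import Cfsg.Agent.Lib.Classical.SympBasic
import Cfsg.Agent.Lib.Classical.SympOrder

/-!
`Sp₄(2) ≅ S₆`, via the action of `S₆` on the even subsets of six points modulo `{∅, all}`.
-/

set_option autoImplicit false

namespace CfsgLib.Classical.FourTwo

open Matrix

variable (F : Type*) [Field F]

/-- The basis `{0,1}, {3,4}, {1,2}, {4,5}` of the even subsets modulo the whole set. -/
def inj6 : Matrix (Fin 6) (Fin 2 ⊕ Fin 2) F :=
  Matrix.of fun i j => Sum.elim (fun a => (![![1, 0], ![1, 0], ![0, 0], ![0, 1], ![0, 1], ![0, 0]] i) a)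
    (fun a => (![![0, 0], ![1, 0], ![1, 0], ![0, 0], ![0, 1], ![0, 1]] i) a) j

/-- The coordinates in this basis. -/
def proj4 : Matrix (Fin 2 ⊕ Fin 2) (Fin 6) F :=
  Matrix.of fun j i => Sum.elim (fun a => (![![0, 1, 1, 0, 0, 0], ![0, 0, 0, 0, 1, 1]] a) i)
    (fun a => (![![1, 1, 0, 0, 0, 0], ![0, 0, 0, 1, 1, 0]] a) i) j

variable {F}

theorem inj6_mulVec (u : Fin 2 ⊕ Fin 2 → F) :
    inj6 F *ᵥ u = ![u (.inl 0), u (.inl 0) + u (.inr 0), u (.inr 0),
      u (.inl 1), u (.inl 1) + u (.inr 1), u (.inr 1)] := by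
  funext i
  fin_cases i <;> simp [inj6, Matrix.mulVec, dotProduct, Fintype.sum_sum_type, Fin.sum_univ_two]

theorem proj4_mulVec (v : Fin 6 → F) :
    proj4 F *ᵥ v = Sum.elim ![v 1 + v 2, v 4 + v 5] ![v 0 + v 1, v 3 + v 4] := by
  funext j
  rcases j with j | j <;> fin_cases j <;>
    simp [proj4, Matrix.mulVec, dotProduct, Fin.sum_univ_six]

variable [CharP F 2]

theorem proj4_inj6 (u : Fin 2 ⊕ Fin 2 → F) : proj4 F *ᵥ (inj6 F *ᵥ u) = u := by
  rw [inj6_mulVec, proj4_mulVec]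
  funext j
  rcases j with j | j <;> fin_cases j <;>
    simp [add_assoc, CharTwo.add_cancel_left, CharTwo.add_self_eq_zero]

theorem sum_inj6 (u : Fin 2 ⊕ Fin 2 → F) : ∑ i, (inj6 F *ᵥ u) i = 0 := by
  rw [inj6_mulVec, Fin.sum_univ_six]
  simp
  linear_combination (u (.inl 0) + u (.inr 0) + u (.inl 1) + u (.inr 1)) *
    CharTwo.two_eq_zero (R := F)

theorem proj4_const (c : F) : proj4 F *ᵥ (fun _ => c) = 0 := by
  rw [proj4_mulVec]
  funext j
  rcases j with j | j <;> fin_cases j <;> simp [CharTwo.add_self_eq_zero]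

theorem inj6_proj4 {v : Fin 6 → F} (hv : ∑ i, v i = 0) :
    inj6 F *ᵥ (proj4 F *ᵥ v) = v + fun _ => v 0 + v 1 + v 2 := by
  rw [proj4_mulVec, inj6_mulVec]
  rw [Fin.sum_univ_six] at hv
  funext i
  fin_cases i <;> simp
  · linear_combination -(v 0) * CharTwo.two_eq_zero (R := F)
  · ring
  · linear_combination -(v 2) * CharTwo.two_eq_zero (R := F)
  · linear_combination hv - (v 0 + v 1 + v 2 + v 3) * CharTwo.two_eq_zero (R := F)
  · linear_combination hv - (v 0 + v 1 + v 2) * CharTwo.two_eq_zero (R := F)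
  · linear_combination hv - (v 0 + v 1 + v 2 + v 5) * CharTwo.two_eq_zero (R := F)

theorem inj6_dot (u w : Fin 2 ⊕ Fin 2 → F) : (inj6 F *ᵥ u) ⬝ᵥ (inj6 F *ᵥ w) = sbil u w := by
  rw [inj6_mulVec, inj6_mulVec, sbil_apply, Fin.sum_univ_two, dotProduct, Fin.sum_univ_six]
  simp [CharTwo.sub_eq_add]
  linear_combination (u (.inl 0) * w (.inl 0) + u (.inr 0) * w (.inr 0) +
    u (.inl 1) * w (.inl 1) + u (.inr 1) * w (.inr 1)) * CharTwo.two_eq_zero (R := F)

variable (F)

omit [CharP F 2] in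
/-- The matrix of a permutation. -/
def permMat (s : Equiv.Perm (Fin 6)) : Matrix (Fin 2 ⊕ Fin 2) (Fin 2 ⊕ Fin 2) F :=
  proj4 F * (inj6 F).submatrix s.symm id

variable {F}

omit [CharP F 2] in
theorem permMat_mulVec (s : Equiv.Perm (Fin 6)) (u : Fin 2 ⊕ Fin 2 → F) :
    permMat F s *ᵥ u = proj4 F *ᵥ ((inj6 F *ᵥ u) ∘ s.symm) := by
  rw [permMat, ← mulVec_mulVec]; rfl

theorem inj6_permMat (s : Equiv.Perm (Fin 6)) (u : Fin 2 ⊕ Fin 2 → F) :
    ∃ c : F, inj6 F *ᵥ (permMat F s *ᵥ u) = (inj6 F *ᵥ u) ∘ s.symm + fun _ => c := by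
  let v := (inj6 F *ᵥ u) ∘ s.symm
  refine ⟨v 0 + v 1 + v 2, ?_⟩
  rw [permMat_mulVec]
  refine inj6_proj4 ?_
  rw [← sum_inj6 u]
  exact Equiv.sum_comp s.symm (inj6 F *ᵥ u)

theorem permMat_mul (s t : Equiv.Perm (Fin 6)) :
    permMat F (s * t) = permMat F s * permMat F t := by
  refine Matrix.ext_of_mulVec_single fun i => ?_
  rw [← mulVec_mulVec]
  obtain ⟨c, hc⟩ := inj6_permMat t (Pi.single i (1 : F))
  rw [permMat_mulVec s, hc, permMat_mulVec (s * t),
    show ((inj6 F *ᵥ Pi.single i (1 : F)) ∘ ⇑t.symm + fun _ => c) ∘ ⇑s.symm =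
      (inj6 F *ᵥ Pi.single i (1 : F)) ∘ ⇑(s * t).symm + fun _ => c from rfl,
    mulVec_add, proj4_const, add_zero]

theorem permMat_mem (s : Equiv.Perm (Fin 6)) :
    permMat F s ∈ Matrix.symplecticGroup (Fin 2) F := by
  rw [mem_symplecticGroup_iff_sbil]
  intro u w
  obtain ⟨c, hc⟩ := inj6_permMat s u
  obtain ⟨d, hd⟩ := inj6_permMat s w
  rw [← inj6_dot, hc, hd, add_dotProduct, dotProduct_add, dotProduct_add]
  have h1 : ∀ (v : Fin 6 → F) (a : F), v ⬝ᵥ (fun _ => a) = (∑ i, v i) * a := fun v a => by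
    simp [dotProduct, Finset.sum_mul]
  have h2 : ∀ (v : Fin 6 → F), ∑ i, (v ∘ s.symm) i = ∑ i, v i := fun v => Equiv.sum_comp s.symm v
  rw [h1, h1, dotProduct_comm (fun _ => c), h1, h2, h2, sum_inj6, sum_inj6,
    show ((inj6 F *ᵥ u) ∘ s.symm) ⬝ᵥ ((inj6 F *ᵥ w) ∘ s.symm) =
      (inj6 F *ᵥ u) ⬝ᵥ (inj6 F *ᵥ w) from comp_equiv_dotProduct_comp_equiv _ _ _, inj6_dot]
  have h6 : (6 : F) = 0 := by linear_combination 3 * CharTwo.two_eq_zero (R := F)
  simp [h6]

theorem permMat_eq_one {s : Equiv.Perm (Fin 6)} (h : permMat F s = 1) : s = 1 := by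
  classical
  have key : ∀ (u : Fin 2 ⊕ Fin 2 → F) (P : Finset (Fin 6)), P.card ≤ 2 →
      (inj6 F *ᵥ u = fun i => if i ∈ P then 1 else 0) → ∀ i ∈ P, s.symm i ∈ P := by
    intro u P hP hu i hi
    obtain ⟨c, hc⟩ := inj6_permMat s u
    rw [h, one_mulVec, hu] at hc
    have hc' : ∀ j, (if j ∈ P then (1 : F) else 0) = (if s.symm j ∈ P then 1 else 0) + c :=
      fun j => congrFun hc j
    by_cases hc0 : c = 0
    · by_contra hn
      simpa [hi, hn, hc0] using hc' i
    · exfalso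
      have hsub : Pᶜ ⊆ P.map s.toEmbedding := by
        intro j hj
        rw [Finset.mem_map_equiv]
        by_contra hn
        exact hc0 (by simpa [Finset.mem_compl.1 hj, hn, eq_comm] using hc' j)
      have := Finset.card_le_card hsub
      rw [Finset.card_map, Finset.card_compl, Fintype.card_fin] at this
      omega
  have hone : ∀ (u : Fin 2 ⊕ Fin 2 → F) (a b : Fin 6), (inj6 F *ᵥ u =
      fun i => if i ∈ ({a, b} : Finset (Fin 6)) then 1 else 0) →
      (s.symm a = a ∨ s.symm a = b) ∧ (s.symm b = a ∨ s.symm b = b) := by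
    intro u a b hu
    have := key u {a, b} Finset.card_le_two hu
    exact ⟨by simpa using this a (by simp), by simpa using this b (by simp)⟩
  have hA := hone (Pi.single (.inl 0) 1) 0 1 (by
    funext i; rw [inj6_mulVec]; fin_cases i <;> simp)
  have hB := hone (Pi.single (.inr 0) 1) 1 2 (by
    funext i; rw [inj6_mulVec]; fin_cases i <;> simp)
  have hC := hone (Pi.single (.inl 1) 1) 3 4 (by
    funext i; rw [inj6_mulVec]; fin_cases i <;> simp)
  have hD := hone (Pi.single (.inr 1) 1) 4 5 (by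
    funext i; rw [inj6_mulVec]; fin_cases i <;> simp)
  have e1 : s.symm 1 = 1 := by
    rcases hA.2 with h' | h' <;> rcases hB.1 with h'' | h'' <;> simp_all
  have e4 : s.symm 4 = 4 := by
    rcases hC.2 with h' | h' <;> rcases hD.1 with h'' | h'' <;> simp_all
  have ne1 : ∀ x, x ≠ 1 → s.symm x ≠ 1 := fun x hx hxe => hx (s.symm.injective (hxe.trans e1.symm))
  have ne4 : ∀ x, x ≠ 4 → s.symm x ≠ 4 := fun x hx hxe => hx (s.symm.injective (hxe.trans e4.symm))
  have hs : s.symm = 1 := by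
    refine Equiv.ext fun i => ?_
    fin_cases i
    · exact hA.1.resolve_right (ne1 0 (by decide))
    · exact e1
    · exact hB.2.resolve_left (ne1 2 (by decide))
    · exact hC.1.resolve_right (ne4 3 (by decide))
    · exact e4
    · exact hD.2.resolve_left (ne4 5 (by decide))
  rw [← s.symm_symm, hs]; rfl

theorem equiv_perm_six [Finite F] (hF : Nat.card F = 2) :
    Nonempty (Matrix.symplecticGroup (Fin 2) F ≃* Equiv.Perm (Fin 6)) := by
  let φ : Equiv.Perm (Fin 6) →* Matrix.symplecticGroup (Fin 2) F :=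
    MonoidHom.mk' (fun s => ⟨permMat F s, permMat_mem s⟩) fun s t => Subtype.ext (permMat_mul s t)
  have hinj : Function.Injective φ :=
    (injective_iff_map_eq_one φ).2 fun s hs => permMat_eq_one (congrArg Subtype.val hs)
  refine ⟨(MulEquiv.ofBijective φ ((Nat.bijective_iff_injective_and_card φ).2 ⟨hinj, ?_⟩)).symm⟩
  rw [card_symplecticGroup, hF, Nat.card_perm, Nat.card_fin, Fintype.card_fin,
    Finset.prod_range_succ, Finset.prod_range_succ, Finset.prod_range_zero]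
  rfl

end CfsgLib.Classical.FourTwo
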