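import Mathlib

/-!
The symplectic group `Sp`: the alternating form, transvections, transitivity and generation.
-/

set_option autoImplicit false

namespace CfsgLib.Classical

open Matrix

variable {l : Type*} [Fintype l] [DecidableEq l] {F : Type*} [Field F]

/-- The alternating form `u ⬝ J v`. -/
def sbil (u v : l ⊕ l → F) : F := u ⬝ᵥ (Matrix.J l F *ᵥ v)

theorem sbil_apply (u v : l ⊕ l → F) :
    sbil u v = ∑ i, (u (.inr i) * v (.inl i) - u (.inl i) * v (.inr i)) := by
  simp [sbil, Matrix.J, fromBlocks_mulVec, dotProduct, Fintype.sum_sum_type,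
    Finset.sum_sub_distrib, neg_mulVec]
  ring

@[simp] theorem sbil_self (u : l ⊕ l → F) : sbil u u = 0 := by
  rw [sbil_apply]
  exact Finset.sum_eq_zero fun i _ => by ring

theorem sbil_swap (u v : l ⊕ l → F) : sbil v u = -sbil u v := by
  rw [sbil_apply, sbil_apply, ← Finset.sum_neg_distrib]
  exact Finset.sum_congr rfl fun i _ => by ring

theorem sbil_add_left (u v w : l ⊕ l → F) : sbil (u + v) w = sbil u w + sbil v w := by
  simp [sbil, add_dotProduct]

theorem sbil_add_right (u v w : l ⊕ l → F) : sbil u (v + w) = sbil u v + sbil u w := by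
  simp [sbil, mulVec_add, dotProduct_add]

theorem sbil_sub_left (u v w : l ⊕ l → F) : sbil (u - v) w = sbil u w - sbil v w := by
  simp [sbil, sub_dotProduct]

theorem sbil_sub_right (u v w : l ⊕ l → F) : sbil u (v - w) = sbil u v - sbil u w := by
  simp [sbil, mulVec_sub, dotProduct_sub]

theorem sbil_smul_left (c : F) (u v : l ⊕ l → F) : sbil (c • u) v = c * sbil u v := by
  simp [sbil]

theorem sbil_smul_right (c : F) (u v : l ⊕ l → F) : sbil u (c • v) = c * sbil u v := by
  simp [sbil, mulVec_smul]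

@[simp] theorem sbil_zero_left (v : l ⊕ l → F) : sbil 0 v = 0 := by simp [sbil]

@[simp] theorem sbil_zero_right (v : l ⊕ l → F) : sbil v 0 = 0 := by simp [sbil]

theorem sbil_single_inl (u : l ⊕ l → F) (i : l) (c : F) :
    sbil u (Pi.single (.inl i) c) = u (.inr i) * c := by
  rw [sbil_apply, Finset.sum_eq_single i] <;> simp +contextual

theorem sbil_single_inr (u : l ⊕ l → F) (i : l) (c : F) :
    sbil u (Pi.single (.inr i) c) = -(u (.inl i) * c) := by
  rw [sbil_apply, Finset.sum_eq_single i] <;> simp +contextual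

theorem sbil_ext {u v : l ⊕ l → F} (h : ∀ x, sbil u x = sbil v x) : u = v := by
  funext k
  rcases k with i | i
  · simpa [sbil_single_inr] using h (Pi.single (.inr i) 1)
  · simpa [sbil_single_inl] using h (Pi.single (.inl i) 1)

theorem exists_sbil_eq_one {u : l ⊕ l → F} (hu : u ≠ 0) : ∃ z, sbil u z = 1 := by
  obtain ⟨z, hz⟩ : ∃ z, sbil u z ≠ 0 := by
    by_contra h
    push Not at h
    exact hu (sbil_ext fun x => by simp [h x])
  exact ⟨(sbil u z)⁻¹ • z, by rw [sbil_smul_right, inv_mul_cancel₀ hz]⟩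

/-- For independent `u`, `w` some vector is orthogonal to `u` but not to `w`. -/
theorem exists_sbil_zero_one {u w : l ⊕ l → F} (hu : u ≠ 0) (hw : ∀ c : F, w ≠ c • u) :
    ∃ z, sbil u z = 0 ∧ sbil w z = 1 := by
  obtain ⟨z0, hz0⟩ := exists_sbil_eq_one hu
  by_contra h
  push Not at h
  have key : ∀ z, sbil u z = 0 → sbil w z = 0 := by
    intro z hz
    by_contra hne
    exact h ((sbil w z)⁻¹ • z) (by simp [sbil_smul_right, hz])
      (by rw [sbil_smul_right, inv_mul_cancel₀ hne])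
  refine hw (sbil w z0) (sbil_ext fun x => ?_)
  have := key (x - sbil u x • z0) (by simp [sbil_sub_right, sbil_smul_right, hz0])
  rw [sbil_sub_right, sbil_smul_right, sub_eq_zero] at this
  rw [sbil_smul_left, this, mul_comm]

theorem sbil_eq_toBilin (A : Matrix (l ⊕ l) (l ⊕ l) F) (u v : l ⊕ l → F) :
    sbil (A *ᵥ u) (A *ᵥ v) = u ⬝ᵥ ((Aᵀ * Matrix.J l F * A) *ᵥ v) := by
  rw [sbil, ← mulVec_mulVec, ← mulVec_mulVec, dotProduct_mulVec u Aᵀ, vecMul_transpose]

theorem mem_symplecticGroup_iff_sbil {A : Matrix (l ⊕ l) (l ⊕ l) F} :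
    A ∈ Matrix.symplecticGroup l F ↔ ∀ u v, sbil (A *ᵥ u) (A *ᵥ v) = sbil u v := by
  rw [SymplecticGroup.mem_iff']
  constructor
  · intro h u v
    rw [sbil_eq_toBilin, h, sbil]
  · intro h
    ext i j
    have := h (Pi.single i 1) (Pi.single j 1)
    rw [sbil_eq_toBilin, sbil] at this
    simpa using this

theorem sbil_mulVec (g : Matrix.symplecticGroup l F) (u v : l ⊕ l → F) :
    sbil (g.1 *ᵥ u) (g.1 *ᵥ v) = sbil u v :=
  mem_symplecticGroup_iff_sbil.1 g.2 u v

theorem sp_mul_mulVec (g h : Matrix.symplecticGroup l F) (v : l ⊕ l → F) :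
    (g * h).1 *ᵥ v = g.1 *ᵥ (h.1 *ᵥ v) := by
  simp [mulVec_mulVec]

theorem sp_one_mulVec (v : l ⊕ l → F) :
    (1 : Matrix.symplecticGroup l F).1 *ᵥ v = v := by simp

theorem sp_inv_mulVec (g : Matrix.symplecticGroup l F) (v : l ⊕ l → F) :
    (g⁻¹).1 *ᵥ (g.1 *ᵥ v) = v := by
  rw [← sp_mul_mulVec, inv_mul_cancel, sp_one_mulVec]

theorem sp_mulVec_inv (g : Matrix.symplecticGroup l F) (v : l ⊕ l → F) :
    g.1 *ᵥ ((g⁻¹).1 *ᵥ v) = v := by
  rw [← sp_mul_mulVec, mul_inv_cancel, sp_one_mulVec]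

theorem sp_ext {g h : Matrix.symplecticGroup l F} (he : ∀ v, g.1 *ᵥ v = h.1 *ᵥ v) : g = h :=
  Subtype.ext (Matrix.ext_iff_mulVec.2 he)

theorem sp_mulVec_ne_zero (g : Matrix.symplecticGroup l F) {v : l ⊕ l → F} (hv : v ≠ 0) :
    g.1 *ᵥ v ≠ 0 := fun h => hv (by simpa [h] using (sp_inv_mulVec g v).symm)

/-- The symplectic transvection `x ↦ x + a B(v,x) v`. -/
def stv (a : F) (v : l ⊕ l → F) : Matrix.symplecticGroup l F :=
  ⟨1 + a • vecMulVec v (v ᵥ* Matrix.J l F), mem_symplecticGroup_iff_sbil.2 fun x y => by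
    have h : ∀ z, (1 + a • vecMulVec v (v ᵥ* Matrix.J l F)) *ᵥ z = z + (a * sbil v z) • v := by
      intro z
      simp [add_mulVec, smul_mulVec, vecMulVec_mulVec, sbil, dotProduct_mulVec, smul_smul]
    simp only [h, sbil_add_left, sbil_add_right, sbil_smul_left, sbil_smul_right, sbil_self,
      sbil_swap v x]
    ring⟩

@[simp] theorem stv_mulVec (a : F) (v x : l ⊕ l → F) :
    (stv a v).1 *ᵥ x = x + (a * sbil v x) • v := by
  simp [stv, add_mulVec, smul_mulVec, vecMulVec_mulVec, sbil, dotProduct_mulVec, smul_smul]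

theorem stv_mul (a b : F) (v : l ⊕ l → F) : stv a v * stv b v = stv (a + b) v := by
  refine sp_ext fun x => ?_
  simp only [sp_mul_mulVec, stv_mulVec, sbil_add_right, sbil_smul_right, sbil_self]
  module

@[simp] theorem stv_zero (v : l ⊕ l → F) : stv (0 : F) v = 1 := sp_ext fun x => by simp

theorem stv_inv (a : F) (v : l ⊕ l → F) : (stv a v)⁻¹ = stv (-a) v := by
  rw [inv_eq_iff_mul_eq_one, stv_mul, add_neg_cancel, stv_zero]

theorem stv_smul (a c : F) (v : l ⊕ l → F) : stv a (c • v) = stv (a * c ^ 2) v := by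
  refine sp_ext fun x => ?_
  simp only [stv_mulVec, sbil_smul_left]
  module

theorem stv_conj (g : Matrix.symplecticGroup l F) (a : F) (v : l ⊕ l → F) :
    g * stv a v * g⁻¹ = stv a (g.1 *ᵥ v) := by
  refine sp_ext fun x => ?_
  simp only [sp_mul_mulVec, stv_mulVec, mulVec_add, mulVec_smul, sp_mulVec_inv]
  rw [← sbil_mulVec g v, sp_mulVec_inv]

/-- The group generated by the transvections with vectors in `W`. -/
def stvClosure (W : Submodule F (l ⊕ l → F)) : Subgroup (Matrix.symplecticGroup l F) :=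
  Subgroup.closure {g | ∃ (a : F), ∃ v ∈ W, g = stv a v}

theorem stv_mem_stvClosure {W : Submodule F (l ⊕ l → F)} (a : F) {v : l ⊕ l → F} (hv : v ∈ W) :
    stv a v ∈ stvClosure W :=
  Subgroup.subset_closure ⟨a, v, hv, rfl⟩

theorem stvClosure_fix {W : Submodule F (l ⊕ l → F)} {g : Matrix.symplecticGroup l F}
    (hg : g ∈ stvClosure W) {x : l ⊕ l → F} (hx : ∀ v ∈ W, sbil v x = 0) : g.1 *ᵥ x = x := by
  induction hg using Subgroup.closure_induction with
  | mem g hg => obtain ⟨a, v, hv, rfl⟩ := hg; simp [hx v hv]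
  | one => simp
  | mul g h _ _ ihg ihh => rw [sp_mul_mulVec, ihh, ihg]
  | inv g _ ih => nth_rw 1 [← ih]; rw [sp_inv_mulVec]

/-- One transvection moving `u` to `w` when they are not orthogonal. -/
theorem stv_sub_mulVec {u w : l ⊕ l → F} (h : sbil w u ≠ 0) :
    (stv (sbil w u)⁻¹ (w - u)).1 *ᵥ u = w := by
  rw [stv_mulVec, sbil_sub_left, sbil_self, sub_zero, inv_mul_cancel₀ h, one_smul]
  abel

theorem exists_sbil_ne_zero_both {W : Submodule F (l ⊕ l → F)} {u w : l ⊕ l → F}
    (hu : ∃ z ∈ W, sbil u z ≠ 0) (hw : ∃ z ∈ W, sbil w z ≠ 0) :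
    ∃ z ∈ W, sbil u z ≠ 0 ∧ sbil w z ≠ 0 := by
  obtain ⟨z1, hz1, h1⟩ := hu
  obtain ⟨z2, hz2, h2⟩ := hw
  by_cases h12 : sbil w z1 = 0
  · by_cases h21 : sbil u z2 = 0
    · exact ⟨z1 + z2, add_mem hz1 hz2, by rw [sbil_add_right, h21, add_zero]; exact h1,
        by rw [sbil_add_right, h12, zero_add]; exact h2⟩
    · exact ⟨z2, hz2, h21, h2⟩
  · exact ⟨z1, hz1, h1, h12⟩

/-- `W` is non-degenerate for `sbil`. -/
def SNondeg (W : Submodule F (l ⊕ l → F)) : Prop :=
  ∀ u ∈ W, u ≠ 0 → ∃ z ∈ W, sbil u z ≠ 0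

theorem snondeg_top : SNondeg (⊤ : Submodule F (l ⊕ l → F)) := fun _ _ hu =>
  let ⟨z, hz⟩ := exists_sbil_eq_one hu
  ⟨z, trivial, by simp [hz]⟩

theorem exists_move_vector {W : Submodule F (l ⊕ l → F)} (hW : SNondeg W) {u w : l ⊕ l → F}
    (hu : u ∈ W) (hw : w ∈ W) (hu0 : u ≠ 0) (hw0 : w ≠ 0) :
    ∃ g ∈ stvClosure W, g.1 *ᵥ u = w := by
  by_cases h : sbil w u = 0
  · obtain ⟨z, hz, hzu, hzw⟩ := exists_sbil_ne_zero_both (hW u hu hu0) (hW w hw hw0)
    have h1 : sbil z u ≠ 0 := by rw [sbil_swap]; simpa using hzu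
    refine ⟨stv (sbil w z)⁻¹ (w - z) * stv (sbil z u)⁻¹ (z - u), mul_mem
      (stv_mem_stvClosure _ (sub_mem hw hz)) (stv_mem_stvClosure _ (sub_mem hz hu)), ?_⟩
    rw [sp_mul_mulVec, stv_sub_mulVec h1, stv_sub_mulVec hzw]
  · exact ⟨_, stv_mem_stvClosure _ (sub_mem hw hu), stv_sub_mulVec h⟩

/-- Moving one hyperbolic pair to another with transvections from `W`. -/
theorem exists_move_pair {W : Submodule F (l ⊕ l → F)} (hW : SNondeg W) {u v u' v' : l ⊕ l → F}
    (hu : u ∈ W) (hv : v ∈ W) (hu' : u' ∈ W) (hv' : v' ∈ W) (h : sbil u v = 1)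
    (h' : sbil u' v' = 1) : ∃ g ∈ stvClosure W, g.1 *ᵥ u = u' ∧ g.1 *ᵥ v = v' := by
  obtain ⟨g, hg, hgu⟩ := exists_move_vector hW hu hu' (by rintro rfl; simp at h)
    (by rintro rfl; simp at h')
  set w := g.1 *ᵥ v with hw_def
  have hw : w ∈ W := by
    have : ∀ k ∈ stvClosure W, ∀ x ∈ W, k.1 *ᵥ x ∈ W ∧ (k⁻¹).1 *ᵥ x ∈ W := by
      intro k hk
      induction hk using Subgroup.closure_induction with
      | mem k hk =>
        obtain ⟨a, y, hy, rfl⟩ := hk
        intro x hx
        rw [stv_inv, stv_mulVec, stv_mulVec]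
        exact ⟨add_mem hx (W.smul_mem _ hy), add_mem hx (W.smul_mem _ hy)⟩
      | one => intro x hx; simpa using hx
      | mul a b _ _ iha ihb =>
        intro x hx
        rw [_root_.mul_inv_rev, sp_mul_mulVec, sp_mul_mulVec]
        exact ⟨(iha _ (ihb x hx).1).1, (ihb _ (iha x hx).2).2⟩
      | inv a _ iha => intro x hx; rw [inv_inv]; exact (iha x hx).symm
    exact (this g hg v hv).1
  have hB : sbil u' w = 1 := by rw [← hgu, hw_def, sbil_mulVec, h]
  have step : ∀ x y : l ⊕ l → F, x ∈ W → y ∈ W → sbil u' x = 1 → sbil u' y = 1 → sbil y x ≠ 0 →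
      ∃ k ∈ stvClosure W, k.1 *ᵥ u' = u' ∧ k.1 *ᵥ x = y := by
    intro x y hx hy hux huy hne
    refine ⟨_, stv_mem_stvClosure (sbil y x)⁻¹ (sub_mem hy hx), ?_, stv_sub_mulVec hne⟩
    simp [sbil_sub_left, sbil_swap u' y, sbil_swap u' x, hux, huy]
  by_cases hwv : sbil v' w = 0
  · have e1 : sbil u' (u' + w) = 1 := by simp [sbil_add_right, hB]
    obtain ⟨k1, hk1, hk1u, hk1w⟩ := step w (u' + w) hw (add_mem hu' hw) hB e1
      (by simp [sbil_add_left, hB])
    obtain ⟨k2, hk2, hk2u, hk2w⟩ := step (u' + w) v' (add_mem hu' hw) hv' e1 h'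
      (by simp [sbil_add_right, hwv, sbil_swap u' v', h'])
    exact ⟨k2 * k1 * g, mul_mem (mul_mem hk2 hk1) hg,
      by simp only [sp_mul_mulVec, hgu, hk1u, hk2u],
      by simp only [sp_mul_mulVec, ← hw_def, hk1w, hk2w]⟩
  · obtain ⟨k, hk, hku, hkw⟩ := step w v' hw hv' hB h' hwv
    exact ⟨k * g, mul_mem hk hg, by simp only [sp_mul_mulVec, hgu, hku],
      by simp only [sp_mul_mulVec, ← hw_def, hkw]⟩

/-- The vectors supported outside the index set `s`. -/
def supOutside (s : Finset l) : Submodule F (l ⊕ l → F) where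
  carrier := {x | ∀ i ∈ s, x (.inl i) = 0 ∧ x (.inr i) = 0}
  add_mem' {x y} hx hy i hi := by simp [hx i hi, hy i hi]
  zero_mem' i _ := by simp
  smul_mem' c x hx i hi := by simp [hx i hi]

theorem mem_supOutside {s : Finset l} {x : l ⊕ l → F} :
    x ∈ supOutside s ↔ ∀ i ∈ s, x (.inl i) = 0 ∧ x (.inr i) = 0 := Iff.rfl

theorem single_mem_supOutside {s : Finset l} {j : l} (hj : j ∉ s) (c : F) :
    Pi.single (.inl j) c ∈ supOutside s ∧ Pi.single (.inr j) c ∈ supOutside s := by
  constructor <;> intro i hi <;>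
    have : i ≠ j := (by rintro rfl; exact hj hi) <;> simp [this]

theorem snondeg_supOutside (s : Finset l) : SNondeg (supOutside s : Submodule F (l ⊕ l → F)) := by
  intro u hu hu0
  obtain ⟨k, hk⟩ := Function.ne_iff.1 hu0
  rcases k with i | i
  · have hi : i ∉ s := fun h => hk (hu i h).1
    exact ⟨_, (single_mem_supOutside hi 1).2, by simpa [sbil_single_inr] using hk⟩
  · have hi : i ∉ s := fun h => hk (hu i h).2
    exact ⟨_, (single_mem_supOutside hi 1).1, by simpa [sbil_single_inl] using hk⟩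

/-- The pointwise stabiliser of the basis vectors with index in `s`. -/
def pairFix (s : Finset l) : Subgroup (Matrix.symplecticGroup l F) where
  carrier := {g | ∀ i ∈ s, g.1 *ᵥ Pi.single (.inl i) 1 = Pi.single (.inl i) 1 ∧
    g.1 *ᵥ Pi.single (.inr i) 1 = Pi.single (.inr i) 1}
  mul_mem' {a b} ha hb i hi := by
    simp only [sp_mul_mulVec, hb i hi, ha i hi, and_self]
  one_mem' i _ := ⟨sp_one_mulVec _, sp_one_mulVec _⟩
  inv_mem' {a} ha i hi := by
    refine ⟨?_, ?_⟩
    · nth_rw 1 [← (ha i hi).1]; rw [sp_inv_mulVec]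
    · nth_rw 1 [← (ha i hi).2]; rw [sp_inv_mulVec]

theorem mem_pairFix {s : Finset l} {g : Matrix.symplecticGroup l F} :
    g ∈ pairFix s ↔ ∀ i ∈ s, g.1 *ᵥ Pi.single (.inl i) 1 = Pi.single (.inl i) 1 ∧
      g.1 *ᵥ Pi.single (.inr i) 1 = Pi.single (.inr i) 1 := Iff.rfl

theorem pairFix_empty : pairFix (∅ : Finset l) = (⊤ : Subgroup (Matrix.symplecticGroup l F)) :=
  eq_top_iff.2 fun _ _ => by simp [mem_pairFix]

theorem pairFix_univ : pairFix (Finset.univ : Finset l) =
    (⊥ : Subgroup (Matrix.symplecticGroup l F)) := by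
  refine eq_bot_iff.2 fun g hg => Subgroup.mem_bot.2 (Subtype.ext ?_)
  ext a b
  rcases b with i | i
  · simpa [Matrix.one_apply, Pi.single_apply] using
      congrFun (hg i (Finset.mem_univ i)).1 a
  · simpa [Matrix.one_apply, Pi.single_apply] using
      congrFun (hg i (Finset.mem_univ i)).2 a

theorem pairFix_mulVec_mem {s : Finset l} {g : Matrix.symplecticGroup l F} (hg : g ∈ pairFix s)
    {x : l ⊕ l → F} (hx : x ∈ supOutside s) : g.1 *ᵥ x ∈ supOutside s := by
  intro i hi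
  have h1 := sbil_mulVec g x (Pi.single (.inr i) 1)
  have h2 := sbil_mulVec g x (Pi.single (.inl i) 1)
  rw [(hg i hi).2, sbil_single_inr, sbil_single_inr] at h1
  rw [(hg i hi).1, sbil_single_inl, sbil_single_inl] at h2
  simp only [(hx i hi).1, (hx i hi).2, mul_one, neg_zero, neg_eq_zero] at h1 h2
  exact ⟨h1, h2⟩

theorem stvClosure_le_pairFix (s : Finset l) :
    stvClosure (supOutside s : Submodule F (l ⊕ l → F)) ≤ pairFix s := fun g hg i hi =>
  ⟨stvClosure_fix hg fun v hv => by simp [sbil_single_inl, (hv i hi).2],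
    stvClosure_fix hg fun v hv => by simp [sbil_single_inr, (hv i hi).1]⟩

theorem sbil_std_pair (j : l) :
    sbil (Pi.single (.inr j) (1 : F)) (Pi.single (.inl j) 1) = 1 := by
  simp [sbil_single_inl]

/-- Generation by transvections, relative version. -/
theorem pairFix_eq_stvClosure (s : Finset l) :
    pairFix s = stvClosure (supOutside s : Submodule F (l ⊕ l → F)) := by
  refine le_antisymm ?_ (stvClosure_le_pairFix s)
  induction h : Fintype.card l - s.card generalizing s with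
  | zero =>
    have : s = Finset.univ := Finset.eq_univ_of_card _ (by have := s.card_le_univ; omega)
    subst this
    rw [pairFix_univ]
    exact bot_le
  | succ k ih =>
    intro g hg
    obtain ⟨j, hj⟩ : ∃ j, j ∉ s := by
      by_contra h'
      push Not at h'
      rw [Finset.eq_univ_of_forall h', Finset.card_univ] at h
      omega
    obtain ⟨he, hf⟩ := single_mem_supOutside hj (1 : F)
    obtain ⟨t, ht, ht1, ht2⟩ := exists_move_pair (snondeg_supOutside s)
      (pairFix_mulVec_mem hg hf) (pairFix_mulVec_mem hg he) hf he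
      (by rw [sbil_mulVec, sbil_std_pair]) (sbil_std_pair j)
    have htg : t * g ∈ pairFix (insert j s) := by
      intro i hi
      rcases Finset.mem_insert.1 hi with rfl | hi
      · rw [sp_mul_mulVec, sp_mul_mulVec]; exact ⟨ht2, ht1⟩
      · exact mul_mem (stvClosure_le_pairFix s ht) hg i hi
    have hle : stvClosure (supOutside (insert j s) : Submodule F (l ⊕ l → F)) ≤
        stvClosure (supOutside s) := by
      refine Subgroup.closure_mono ?_
      rintro x ⟨a, v, hv, rfl⟩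
      exact ⟨a, v, fun i hi => hv i (Finset.mem_insert_of_mem hi), rfl⟩
    have := hle (ih (insert j s) (by rw [Finset.card_insert_of_notMem hj]; omega) htg)
    simpa using mul_mem (inv_mem ht) this

/-- `Sp` is generated by its transvections. -/
theorem stvClosure_top : stvClosure (⊤ : Submodule F (l ⊕ l → F)) = ⊤ := by
  have h : (supOutside (∅ : Finset l) : Submodule F (l ⊕ l → F)) = ⊤ :=
    eq_top_iff.2 fun _ _ => by simp [mem_supOutside]
  rw [← h, ← pairFix_eq_stvClosure, pairFix_empty]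

theorem sp_eq_top_of_stv_mem (H : Subgroup (Matrix.symplecticGroup l F))
    (h : ∀ (a : F) (v : l ⊕ l → F), stv a v ∈ H) : H = ⊤ := by
  rw [eq_top_iff, ← stvClosure_top, stvClosure, Subgroup.closure_le]
  rintro g ⟨a, v, -, rfl⟩
  exact h a v

theorem sp_transitive {u w : l ⊕ l → F} (hu : u ≠ 0) (hw : w ≠ 0) :
    ∃ g : Matrix.symplecticGroup l F, g.1 *ᵥ u = w := by
  obtain ⟨g, -, hg⟩ := exists_move_vector snondeg_top (Submodule.mem_top : u ∈ ⊤) trivial hu hw
  exact ⟨g, hg⟩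

theorem sp_transitive_pair {u v u' v' : l ⊕ l → F} (h : sbil u v = 1) (h' : sbil u' v' = 1) :
    ∃ g : Matrix.symplecticGroup l F, g.1 *ᵥ u = u' ∧ g.1 *ᵥ v = v' := by
  obtain ⟨g, -, hg⟩ := exists_move_pair snondeg_top (Submodule.mem_top : u ∈ ⊤) trivial trivial
    trivial h h'
  exact ⟨g, hg⟩

end CfsgLib.Classical
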