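import Cfsg.Agent.Lib.Classical.UnitaryTransv

/-!
`GU` moves vectors around; `SU k` inside `SU n` along an isometric frame; `SU 2` is generated by
transvections.
-/

set_option autoImplicit false

namespace CfsgLib.Classical.Unitary

open Matrix CfsgLib.Geometry

variable {F : Type*} [Field F] {σ : F →+* F} {q n k : ℕ}

theorem uh_eq_hermB (u v : Fin n → F) : uh σ u v = hermB σ n v u := by
  simp [uh, hermB_apply, dotProduct, mul_comm]

/-- Witt extension inside `GU`. -/
theorem exists_gu_map (h : UFrob σ q) (v w : Fin k → Fin n → F) (hv : LinearIndependent F v)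
    (hw : LinearIndependent F w) (he : ∀ i j, uh σ (v i) (v j) = uh σ (w i) (w j)) :
    ∃ g ∈ Cfsg.GU n F q, ∀ i, g.1 *ᵥ v i = w i := by
  obtain ⟨e, he', hev⟩ := herm_extend h.ne h.invol (hermB_isSymm h.invol n) (hermB_nondeg h.invol n)
    v w hv hw fun i j => by rw [← uh_eq_hermB, ← uh_eq_hermB, he]
  refine ⟨glEquiv.symm e, fun x y => ?_, fun i => by rw [glEquiv_symm_mulVec, hev]⟩
  show Cfsg.hermForm n F q ((glEquiv.symm e : GL (Fin n) F).1 *ᵥ x)
    ((glEquiv.symm e : GL (Fin n) F).1 *ᵥ y) = _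
  rw [glEquiv_symm_mulVec, glEquiv_symm_mulVec, h.hermForm_eq, h.hermForm_eq, uh_eq_hermB,
    uh_eq_hermB]
  exact mem_unit_.1 he' y x

theorem linearIndependent_single {v : Fin n → F} (hv : v ≠ 0) : LinearIndependent F ![v] := by
  rw [linearIndependent_unique_iff]
  simpa using hv

theorem exists_gu_map_one (h : UFrob σ q) {v w : Fin n → F} (hv : v ≠ 0) (hw : w ≠ 0)
    (he : uh σ v v = uh σ w w) : ∃ g ∈ Cfsg.GU n F q, g.1 *ᵥ v = w := by
  obtain ⟨g, hg, hgv⟩ := exists_gu_map h ![v] ![w] (linearIndependent_single hv)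
    (linearIndependent_single hw) fun i j => by
      fin_cases i; fin_cases j; simpa using he
  exact ⟨g, hg, by simpa using hgv 0⟩

theorem pair_li {u v : Fin n → F} (huu : uh σ u u = 0) (huv : uh σ u v = 1) :
    LinearIndependent F ![u, v] := by
  refine LinearIndependent.pair_iff.2 fun a b hab => ?_
  have hb : b = 0 := by
    have := congrArg (fun z => uh σ u z) hab
    simpa [uh_add_right, uh_smul_right, uh_zero_right, huu, huv] using this
  subst hb
  rw [zero_smul, add_zero] at hab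
  refine ⟨(smul_eq_zero.1 hab).resolve_right ?_, rfl⟩
  rintro rfl
  simp [uh_zero_left] at huv

/-- An isotropic vector has an isotropic partner orthogonal to a given subspace. -/
theorem exists_partner (h : UFrob σ q) (H : Submodule F (Fin n → F)) {d : Fin n → F} (hdH : d ∉ H)
    (hd : uh σ d d = 0) (hperp : ∀ x ∈ H, uh σ x d = 0) :
    ∃ e, uh σ e e = 0 ∧ uh σ d e = 1 ∧ uh σ e d = 1 ∧ ∀ x ∈ H, uh σ x e = 0 ∧ uh σ e x = 0 := by
  obtain ⟨e, he, hde, heH⟩ := exists_hPartner (B := hermB σ n) h.ne h.invol (hermB_isSymm h.invol n)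
    (hermB_nondeg h.invol n) H hdH (by rw [← uh_eq_hermB, hd])
    (fun x hx => by rw [← uh_eq_hermB, hperp x hx])
  simp only [← uh_eq_hermB] at he hde heH
  exact ⟨e, he, by rw [← h.symm, hde, map_one], hde, fun x hx => ⟨heH x hx, h.swap_zero (heH x hx)⟩⟩

section two

theorem SU_two_span {u v : Fin 2 → F} (huu : uh σ u u = 0) (huv : uh σ u v = 1) (x : Fin 2 → F) :
    ∃ a b : F, x = a • u + b • v := by
  have := (pair_li huu huv).span_eq_top_of_card_eq_finrank (by simp)
  have hx : x ∈ Submodule.span F (Set.range ![u, v]) := this ▸ Submodule.mem_top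
  rw [Matrix.range_cons_cons_empty, Submodule.mem_span_pair] at hx
  obtain ⟨a, b, hab⟩ := hx
  exact ⟨a, b, hab.symm⟩

theorem SU_two_ext {u v : Fin 2 → F} (huu : uh σ u u = 0) (huv : uh σ u v = 1)
    {g g' : Cfsg.SU 2 F q} (h1 : g.1.1 *ᵥ u = g'.1.1 *ᵥ u) (h2 : g.1.1 *ᵥ v = g'.1.1 *ᵥ v) :
    g = g' :=
  su_ext fun x => by
    obtain ⟨a, b, rfl⟩ := SU_two_span huu huv x
    simp [mulVec_add, mulVec_smul, h1, h2]

theorem det_two_of_basis {u v : Fin 2 → F} (huu : uh σ u u = 0) (huv : uh σ u v = 1)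
    (g : Matrix (Fin 2) (Fin 2) F) {a b c d : F} (hu : g *ᵥ u = a • u + c • v)
    (hv : g *ᵥ v = b • u + d • v) : g.det = a * d - b * c := by
  have hP : u 0 * v 1 - v 0 * u 1 ≠ 0 := by
    intro h0
    have hv0 : u 0 • v - v 0 • u = 0 := by
      funext i; fin_cases i
      · simp; ring
      · simpa using h0
    have hv1 : u 1 • v - v 1 • u = 0 := by
      funext i; fin_cases i
      · simp only [Pi.sub_apply, Pi.smul_apply, smul_eq_mul, Pi.zero_apply]
        simp only [Fin.zero_eta]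
        linear_combination -h0
      · simp; ring
    have e0 := (LinearIndependent.pair_iff.1 (pair_li huu huv)) (-(v 0)) (u 0)
      (by rw [neg_smul, neg_add_eq_sub]; exact hv0)
    have e1 := (LinearIndependent.pair_iff.1 (pair_li huu huv)) (-(v 1)) (u 1)
      (by rw [neg_smul, neg_add_eq_sub]; exact hv1)
    have : u = 0 := by
      funext i; fin_cases i
      · exact e0.2
      · exact e1.2
    simp [this, uh_zero_left] at huv
  let P : Matrix (Fin 2) (Fin 2) F := !![u 0, v 0; u 1, v 1]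
  have hg : g * P = P * !![a, b; c, d] := by
    ext i j
    have hu' := congrFun hu i
    have hv' := congrFun hv i
    simp [mulVec, dotProduct, Fin.sum_univ_two] at hu' hv'
    fin_cases i <;> fin_cases j <;> simp [P, Matrix.mul_apply, Fin.sum_univ_two] at hu' hv' ⊢
    · linear_combination hu'
    · linear_combination hv'
    · linear_combination hu'
    · linear_combination hv'
  have := congrArg Matrix.det hg
  rw [det_mul, det_mul, det_fin_two_of, det_fin_two_of] at this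
  exact mul_right_cancel₀ hP (this.trans (mul_comm _ _))

theorem exists_skew (h : UFrob σ q) : ∃ c : F, c ≠ 0 ∧ c + σ c = 0 := by
  obtain ⟨a, ha⟩ : ∃ a, σ a ≠ a := by
    by_contra hh
    exact h.ne (RingHom.ext fun a => not_not.1 fun h' => hh ⟨a, h'⟩)
  exact ⟨a - σ a, sub_ne_zero.2 (Ne.symm ha), by rw [map_sub, h.invol]; ring⟩

theorem transvGroup_two [Finite F] (hF : Nat.card F = q ^ 2) (h : UFrob σ q) :
    transvGroup 2 F q = ⊤ := by
  obtain ⟨t, ht⟩ := exists_pow_succ_eq hF (c := -1) (by rw [← h.pow, map_neg, map_one])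
  set u : Fin 2 → F := ![1, t] with hu_def
  have huu : uh σ u u = 0 := by
    simp [uh, dotProduct, Fin.sum_univ_two, u, h.pow, ← pow_succ', ht]
  have hu0 : u ∉ (⊥ : Submodule F (Fin 2 → F)) := fun hh => by
    simpa [u] using congrFun ((Submodule.mem_bot F).1 hh) 0
  obtain ⟨v, hvv, huv, hvu, -⟩ := exists_partner h ⊥ hu0 huu
    (fun x hx => by rw [(Submodule.mem_bot F).1 hx, uh_zero_left])
  obtain ⟨c₀, hc₀, hc₀s⟩ := exists_skew h
  let tw : ∀ c : F, c + σ c = 0 → Cfsg.SU 2 F q := fun c hc =>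
    utv h u c huu hc * utv h v (-c⁻¹) hvv (by
      rw [map_neg, map_inv₀, show σ c = -c from eq_neg_of_add_eq_zero_right hc, inv_neg]; ring) *
      utv h u c huu hc
  have htw : ∀ c hc, tw c hc ∈ transvGroup 2 F q := fun c hc =>
    mul_mem (mul_mem (utv_mem h _ _ _ _) (utv_mem h _ _ _ _)) (utv_mem h _ _ _ _)
  have htwu : ∀ c hc, c ≠ 0 → (tw c hc).1.1 *ᵥ u = -c⁻¹ • v ∧ (tw c hc).1.1 *ᵥ v = c • u := by
    intro c hc hc0
    constructor
    · simp only [tw, su_mul_mulVec, utv_mulVec, uh_add_left, uh_smul_left, huu, huv, hvv, hvu]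
      match_scalars <;> field_simp <;> ring
    · simp only [tw, su_mul_mulVec, utv_mulVec, uh_add_left, uh_smul_left, huu, huv, hvv, hvu]
      match_scalars <;> field_simp <;> ring
  refine eq_top_iff.2 fun g _ => ?_
  -- move `g u` back to the line of `u`
  obtain ⟨a, b, hab⟩ := SU_two_span huu huv (g.1.1 *ᵥ u)
  obtain ⟨s, hs, l, hsl⟩ : ∃ s ∈ transvGroup 2 F q, ∃ l : F, g.1.1 *ᵥ u = l • (s.1.1 *ᵥ u) := by
    rcases eq_or_ne b 0 with rfl | hb
    · exact ⟨1, one_mem _, a, by rw [hab, su_one_mulVec, zero_smul, add_zero]⟩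
    have hiso := su_uh h g u u
    rw [huu, hab] at hiso
    simp only [uh_add_left, uh_add_right, uh_smul_left, uh_smul_right, huu, hvv, huv, hvu] at hiso
    have hk : a / b + σ (a / b) = 0 := by
      have hσb : σ b ≠ 0 := (map_ne_zero σ).2 hb
      rw [map_div₀]; field_simp; linear_combination hiso
    refine ⟨utv h u (a / b) huu hk * tw c₀ hc₀s, mul_mem (utv_mem h _ _ _ _) (htw _ _),
      -c₀ * b, ?_⟩
    rw [su_mul_mulVec, (htwu c₀ hc₀s hc₀).1, utv_mulVec, uh_smul_left, hvu, hab]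
    match_scalars <;> field_simp
  have hfix : (s⁻¹ * g).1.1 *ᵥ u = l • u := by
    rw [su_mul_mulVec, hsl, mulVec_smul, su_inv_mulVec]
  suffices hh : ∀ g : Cfsg.SU 2 F q, ∀ l : F, g.1.1 *ᵥ u = l • u → g ∈ transvGroup 2 F q by
    simpa using mul_mem hs (hh _ _ hfix)
  intro g l hl
  obtain ⟨α, β, hgv⟩ := SU_two_span huu huv (g.1.1 *ᵥ v)
  have e1 := su_uh h g u v
  rw [hl, hgv, huv] at e1
  simp only [uh_smul_left, uh_add_right, uh_smul_right, huu, huv] at e1
  have e2 := det_two_of_basis huu huv g.1.1 (a := l) (c := 0) (by rw [hl, zero_smul, add_zero]) hgv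
  rw [g.1.2] at e2
  have hl0 : l ≠ 0 := by rintro rfl; simp at e1
  have hlσ : σ l = l := by
    have hβ : σ β = β := mul_left_cancel₀ hl0 (by linear_combination e1 + e2)
    have hσe : σ l * σ β = 1 := by rw [← map_mul, show l * β = 1 by linear_combination -e2, map_one]
    rw [hβ] at hσe
    exact mul_right_cancel₀ (right_ne_zero_of_mul_eq_one hσe)
      (hσe.trans (by linear_combination e2))
  have hc' : -c₀ / l + σ (-c₀ / l) = 0 := by
    rw [map_div₀, map_neg, hlσ]; field_simp; linear_combination -hc₀s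
  let d := tw c₀ hc₀s * tw (-c₀ / l) hc'
  have hdu : d.1.1 *ᵥ u = l • u := by
    rw [su_mul_mulVec, (htwu _ hc' (div_ne_zero (neg_ne_zero.2 hc₀) hl0)).1, mulVec_smul,
      (htwu _ hc₀s hc₀).2, smul_smul]
    congr 1
    field_simp
  suffices hh : ∀ g : Cfsg.SU 2 F q, g.1.1 *ᵥ u = u → g ∈ transvGroup 2 F q by
    have := hh (d⁻¹ * g) (by rw [su_mul_mulVec, hl, ← hdu, su_inv_mulVec])
    have h2 := mul_mem (show d ∈ transvGroup 2 F q from mul_mem (htw c₀ hc₀s) (htw _ hc')) this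
    rwa [mul_inv_cancel_left] at h2
  intro g hg
  obtain ⟨α, β, hgv⟩ := SU_two_span huu huv (g.1.1 *ᵥ v)
  have e1 := su_uh h g v u
  rw [hg, hgv, hvu] at e1
  simp only [uh_add_left, uh_smul_left, huu, hvu, mul_zero, zero_add, mul_one] at e1
  subst e1
  have e2 := su_uh h g v v
  rw [hgv, hvv] at e2
  simp only [uh_add_left, uh_add_right, uh_smul_left, uh_smul_right, huu, huv, hvu, hvv,
    map_one] at e2
  have hα : α + σ α = 0 := by linear_combination e2
  have : g = utv h u α huu hα := SU_two_ext huu huv (by rw [utv_mulVec, hg, huu]; simp)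
    (by rw [utv_mulVec, hgv, hvu]; module)
  rw [this]
  exact utv_mem h _ _ _ _

end two

section frame

/-- `P` maps `F ^ k` isometrically into `F ^ n`. -/
def IsFrame (σ : F →+* F) (P : Matrix (Fin n) (Fin k) F) : Prop := (P.map σ)ᵀ * P = 1

theorem uh_frame_left (h : UFrob σ q) (P : Matrix (Fin n) (Fin k) F) (a : Fin k → F)
    (y : Fin n → F) : uh σ (P *ᵥ a) y = uh σ a ((P.map σ)ᵀ *ᵥ y) := by
  simp only [uh, dotProduct, mulVec, transpose_apply, map_apply, Function.comp_apply, map_sum,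
    map_mul, h.invol, Finset.sum_mul, Finset.mul_sum]
  rw [Finset.sum_comm]
  exact Finset.sum_congr rfl fun i _ => Finset.sum_congr rfl fun j _ => by ring

theorem uh_frame_right (h : UFrob σ q) (P : Matrix (Fin n) (Fin k) F) (a : Fin k → F)
    (y : Fin n → F) : uh σ y (P *ᵥ a) = uh σ ((P.map σ)ᵀ *ᵥ y) a := by
  rw [← h.symm, uh_frame_left h, h.symm]

theorem IsFrame.apply {P : Matrix (Fin n) (Fin k) F} (hP : IsFrame σ P) (a : Fin k → F) :
    (P.map σ)ᵀ *ᵥ (P *ᵥ a) = a := by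
  rw [mulVec_mulVec, hP, one_mulVec]

theorem frame_mulVec (P : Matrix (Fin n) (Fin k) F) (M : Matrix (Fin k) (Fin k) F)
    (x : Fin n → F) : (1 + P * (M - 1) * (P.map σ)ᵀ) *ᵥ x =
      x + P *ᵥ (M *ᵥ ((P.map σ)ᵀ *ᵥ x) - (P.map σ)ᵀ *ᵥ x) := by
  rw [add_mulVec, one_mulVec, ← mulVec_mulVec, ← mulVec_mulVec, sub_mulVec, one_mulVec]

/-- `SU k` inside `SU n` along an isometric frame. -/
def frameHom (h : UFrob σ q) (P : Matrix (Fin n) (Fin k) F) (hP : IsFrame σ P) :
    Cfsg.SU k F q →* Cfsg.SU n F q where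
  toFun M := ⟨⟨1 + P * (M.1.1 - 1) * (P.map σ)ᵀ, by
      rw [Matrix.mul_assoc, det_one_add_mul_comm, Matrix.mul_assoc, hP, Matrix.mul_one,
        add_sub_cancel, M.1.2]⟩,
    mem_SU_iff.2 fun x y => by
      show Cfsg.hermForm n F q ((1 + P * (M.1.1 - 1) * (P.map σ)ᵀ) *ᵥ x)
        ((1 + P * (M.1.1 - 1) * (P.map σ)ᵀ) *ᵥ y) = _
      simp only [h.hermForm_eq, frame_mulVec, uh_add_left, uh_add_right]
      rw [uh_frame_left h P _ y, uh_frame_right h P _ x, uh_frame_left h P _ (P *ᵥ _), hP.apply]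
      simp only [uh_sub_left, uh_sub_right, su_uh h]
      ring⟩
  map_one' := Subtype.ext (Subtype.ext (by
    show 1 + P * (1 - 1) * (P.map σ)ᵀ = 1
    simp))
  map_mul' M N := su_ext fun x => by
    rw [su_mul_mulVec]
    show (1 + P * ((M * N).1.1 - 1) * (P.map σ)ᵀ) *ᵥ x = (1 + P * (M.1.1 - 1) * (P.map σ)ᵀ) *ᵥ
      ((1 + P * (N.1.1 - 1) * (P.map σ)ᵀ) *ᵥ x)
    simp only [frame_mulVec, mulVec_add, mulVec_sub, hP.apply, su_mul_mulVec]
    abel

theorem frameHom_mulVec (h : UFrob σ q) (P : Matrix (Fin n) (Fin k) F) (hP : IsFrame σ P)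
    (M : Cfsg.SU k F q) (x : Fin n → F) : (frameHom h P hP M).1.1 *ᵥ x =
      x + P *ᵥ (M.1.1 *ᵥ ((P.map σ)ᵀ *ᵥ x) - (P.map σ)ᵀ *ᵥ x) := frame_mulVec P M.1.1 x

theorem frameHom_frame (h : UFrob σ q) (P : Matrix (Fin n) (Fin k) F) (hP : IsFrame σ P)
    (M : Cfsg.SU k F q) (a : Fin k → F) :
    (frameHom h P hP M).1.1 *ᵥ (P *ᵥ a) = P *ᵥ (M.1.1 *ᵥ a) := by
  rw [frameHom_mulVec, hP.apply, mulVec_sub]; abel

theorem frameHom_fix (h : UFrob σ q) (P : Matrix (Fin n) (Fin k) F) (hP : IsFrame σ P)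
    (M : Cfsg.SU k F q) {x : Fin n → F} (hx : (P.map σ)ᵀ *ᵥ x = 0) :
    (frameHom h P hP M).1.1 *ᵥ x = x := by
  simp [frameHom_mulVec, hx]

theorem frameHom_mem (h : UFrob σ q) (P : Matrix (Fin n) (Fin k) F) (hP : IsFrame σ P)
    {M : Cfsg.SU k F q} (hM : M ∈ transvGroup k F q) :
    frameHom h P hP M ∈ transvGroup n F q :=
  (mem_of_eq_utv h (H := (transvGroup n F q).comap (frameHom h P hP)) fun v c hv hc => by
    have : frameHom h P hP (utv h v c hv hc) =
        utv h (P *ᵥ v) c (by rw [uh_frame_left h, hP.apply, hv]) hc := su_ext fun x => by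
      rw [frameHom_mulVec, utv_mulVec, utv_mulVec, add_sub_cancel_left, mulVec_smul,
        uh_frame_right h]
    rw [Subgroup.mem_comap, this]
    exact utv_mem h _ _ _ _) hM

theorem frameHom_two_mem [Finite F] (hF : Nat.card F = q ^ 2) (h : UFrob σ q)
    (P : Matrix (Fin n) (Fin 2) F) (hP : IsFrame σ P) (M : Cfsg.SU 2 F q) :
    frameHom h P hP M ∈ transvGroup n F q :=
  frameHom_mem h P hP (by rw [transvGroup_two hF h]; exact Subgroup.mem_top M)

/-- An element of `SU n` fixing the basis vectors off the image of `f` comes from `SU k`. -/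
theorem exists_frameHom_eq (h : UFrob σ q) (f : Fin k → Fin n) (hf : Function.Injective f)
    (g : Cfsg.SU n F q)
    (hg : ∀ j, (∀ i, f i ≠ j) → g.1.1 *ᵥ Pi.single j 1 = Pi.single j 1) :
    ∃ (P : Matrix (Fin n) (Fin k) F) (hP : IsFrame σ P) (M : Cfsg.SU k F q),
      frameHom h P hP M = g := by
  let P : Matrix (Fin n) (Fin k) F := (1 : Matrix (Fin n) (Fin n) F).submatrix id f
  have hPv : ∀ (a : Fin k → F) j, (P *ᵥ a) j = ∑ i, if f i = j then a i else 0 := fun a j => by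
    simp [P, mulVec, dotProduct, Matrix.one_apply, eq_comm]
  have hPf : ∀ (a : Fin k → F) i, (P *ᵥ a) (f i) = a i := fun a i => by
    simp [hPv, hf.eq_iff]
  have hPo : ∀ (a : Fin k → F) j, (∀ i, f i ≠ j) → (P *ᵥ a) j = 0 := fun a j hj => by
    simp [hPv, hj]
  have hPs : ∀ x : Fin n → F, (P.map σ)ᵀ *ᵥ x = x ∘ f := fun x => funext fun i => by
    simp [P, mulVec, dotProduct, Matrix.one_apply, apply_ite σ]
  have hP : IsFrame σ P := Matrix.ext_iff_mulVec.2 fun a => by
    rw [← mulVec_mulVec, hPs, one_mulVec]; exact funext fun i => hPf a i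
  have hrow : ∀ (x : Fin n → F) j, (∀ i, f i ≠ j) → (g.1.1 *ᵥ x) j = x j := fun x j hj => by
    have := su_uh h g x (Pi.single j 1)
    rw [hg j hj, uh_single_right, uh_single_right] at this
    simpa using this
  let M : Matrix (Fin k) (Fin k) F := g.1.1.submatrix f f
  have hM : ∀ a, M *ᵥ a = (g.1.1 *ᵥ (P *ᵥ a)) ∘ f := fun a => funext fun i => by
    show ∑ i', g.1.1 (f i) (f i') * a i' = ∑ j, g.1.1 (f i) j * (P *ᵥ a) j
    rw [← Finset.sum_subset (Finset.subset_univ (Finset.univ.image f)) fun j _ hj => by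
      rw [hPo a j fun i' hi' => hj (Finset.mem_image.2 ⟨i', Finset.mem_univ _, hi'⟩), mul_zero],
      Finset.sum_image fun a _ b _ hab => hf hab]
    simp [hPf]
  have hgP : ∀ a, g.1.1 *ᵥ (P *ᵥ a) = P *ᵥ (M *ᵥ a) := fun a => funext fun j => by
    by_cases hj : ∃ i, f i = j
    · obtain ⟨i, rfl⟩ := hj; rw [hPf, hM]; rfl
    · push Not at hj; rw [hrow _ j hj, hPo _ j hj, hPo _ j hj]
  have hMg : g.1.1 = 1 + P * (M - 1) * (P.map σ)ᵀ := Matrix.ext_iff_mulVec.2 fun x => by
    rw [frame_mulVec, hPs]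
    have hx : ∀ j, (∃ i, f i = j) ∨ (x - P *ᵥ (x ∘ f)) j = x j := fun j => by
      by_cases hj : ∃ i, f i = j
      · exact Or.inl hj
      · push Not at hj; right; simp [hPo _ j hj]
    have hy : g.1.1 *ᵥ (x - P *ᵥ (x ∘ f)) = x - P *ᵥ (x ∘ f) := by
      rw [← Finset.univ_sum_single (x - P *ᵥ (x ∘ f))]
      rw [mulVec_sum]
      refine Finset.sum_congr rfl fun j _ => ?_
      rcases hx j with ⟨i, rfl⟩ | hj
      · simp [hPf]
      · by_cases hj' : ∃ i, f i = j
        · obtain ⟨i, rfl⟩ := hj'; simp [hPf]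
        · push Not at hj'
          rw [show Pi.single j ((x - P *ᵥ (x ∘ f)) j) = (x - P *ᵥ (x ∘ f)) j •
            (Pi.single j 1 : Fin n → F) by rw [← Pi.single_smul']; simp, mulVec_smul, hg j hj']
    rw [mulVec_sub, hgP, sub_eq_iff_eq_add] at hy
    rw [hy, mulVec_sub]
    abel
  have hdet : M.det = 1 := by
    have := g.1.2
    rwa [hMg, Matrix.mul_assoc, det_one_add_mul_comm, Matrix.mul_assoc, hP, Matrix.mul_one,
      add_sub_cancel] at this
  refine ⟨P, hP, ⟨⟨M, hdet⟩, mem_SU_iff.2 fun a b => ?_⟩, Subtype.ext (Subtype.ext hMg.symm)⟩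
  show Cfsg.hermForm k F q (M *ᵥ a) (M *ᵥ b) = _
  have := su_uh h g (P *ᵥ a) (P *ᵥ b)
  rw [hgP, hgP, uh_frame_left h P, hP.apply, uh_frame_left h P, hP.apply] at this
  rw [h.hermForm_eq, h.hermForm_eq, this]

end frame

end CfsgLib.Classical.Unitary
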