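import Cfsg.Agent.Lib.Classical.Order
import Cfsg.Agent.Lib.Maximal.Transvec
import Cfsg.Prelude.Def_ClassicalGeometry

/-!
Coordinate maximal parabolic subgroups of `GL n`.
-/

set_option autoImplicit false

namespace CfsgLib.Classical

open Matrix

variable {F : Type*} [Field F]

/-- The coordinate subspace spanned by the first `k` basis vectors. -/
def coordSub (F : Type*) [Field F] (n k : ℕ) : Submodule F (Fin n → F) where
  carrier := {v : Fin n → F | ∀ i : Fin n, k ≤ (i : ℕ) → v i = 0}
  add_mem' {u v} hu hv i hi := by simp [hu i hi, hv i hi]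
  zero_mem' i _ := rfl
  smul_mem' c v hv i hi := by simp [hv i hi]

theorem mem_coordSub {n k : ℕ} {v : Fin n → F} :
    v ∈ coordSub F n k ↔ ∀ i : Fin n, k ≤ (i : ℕ) → v i = 0 := Iff.rfl

/-- The coordinate parabolic. -/
def parab (F : Type*) [Field F] (n k : ℕ) : Subgroup (GL (Fin n) F) :=
  Cfsg.stabilizing (Cfsg.glToMat (Fin n) F) {v : Fin n → F | ∀ i : Fin n, k ≤ (i : ℕ) → v i = 0}

theorem single_mem_coordSub {n k : ℕ} {j : Fin n} (hj : (j : ℕ) < k) (c : F) :
    Pi.single j c ∈ coordSub F n k := fun i hi => by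
  rw [Pi.single_apply, if_neg]
  rintro rfl
  omega

theorem mem_parab_iff_subspace {n k : ℕ} {g : GL (Fin n) F} :
    g ∈ parab F n k ↔ ∀ v, v ∈ coordSub F n k ↔ g.1 *ᵥ v ∈ coordSub F n k := Iff.rfl

theorem mem_parab_iff {n k : ℕ} {g : GL (Fin n) F} :
    g ∈ parab F n k ↔ ∀ i j : Fin n, k ≤ (i : ℕ) → (j : ℕ) < k → g.1 i j = 0 := by
  constructor
  · intro hg i j hi hj
    simpa [mulVec_single] using ((mem_parab_iff_subspace.1 hg _).1 (single_mem_coordSub hj 1)) i hi
  · intro hg
    have hW : ∀ v ∈ coordSub F n k, g.1 *ᵥ v ∈ coordSub F n k := fun v hv i hi => by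
      show ∑ j, g.1 i j * v j = 0
      refine Finset.sum_eq_zero fun j _ => ?_
      rcases Nat.lt_or_ge (j : ℕ) k with hj | hj
      · simp [hg i j hi hj]
      · simp [hv j hj]
    refine mem_parab_iff_subspace.2 fun v => ⟨hW v, fun hv => ?_⟩
    let f : coordSub F n k →ₗ[F] coordSub F n k :=
      (Matrix.mulVecLin g.1).restrict (p := coordSub F n k) (q := coordSub F n k) hW
    have hinj : Function.Injective g.1.mulVec :=
      Matrix.mulVec_injective_of_isUnit ⟨g, rfl⟩
    have hf : Function.Injective f := fun a b hab =>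
      Subtype.ext (hinj (congrArg Subtype.val hab))
    obtain ⟨w, hw⟩ := LinearMap.injective_iff_surjective.1 hf ⟨_, hv⟩
    have := hinj (congrArg Subtype.val hw)
    exact this ▸ w.2

theorem parab_eq_subspaceStabilizer (n k : ℕ) :
    parab F n k = Cfsg.Geo.subspaceStabilizer (coordSub F n k) := rfl

/-- The parabolic is a product of blocks. -/
theorem card_parab [Fintype F] (k l : ℕ) :
    Nat.card (parab F (k + l) k) = Nat.card (GL (Fin k) F) * Nat.card (GL (Fin l) F) *
      Fintype.card F ^ (k * l) := by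
  classical
  have hsub : ∀ g : GL (Fin (k + l)) F, g ∈ parab F (k + l) k ↔
      (g.1.submatrix finSumFinEquiv finSumFinEquiv).toBlocks₂₁ = 0 := fun g => by
    rw [mem_parab_iff]
    constructor
    · intro h; ext a b
      exact h _ _ (by simp) (by simp)
    · intro h i j hi hj
      obtain ⟨a, rfl⟩ : ∃ a : Fin l, Fin.natAdd k a = i :=
        ⟨⟨(i : ℕ) - k, by omega⟩, Fin.ext (by simp; omega)⟩
      obtain ⟨b, rfl⟩ : ∃ b : Fin k, Fin.castAdd l b = j := ⟨⟨j, hj⟩, Fin.ext rfl⟩
      exact congrFun (congrFun h a) b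
  let back : GL (Fin k) F × GL (Fin l) F × Matrix (Fin k) (Fin l) F →
      Matrix (Fin (k + l)) (Fin (k + l)) F := fun p =>
    (fromBlocks p.1.1 p.2.2 0 p.2.1.1).submatrix finSumFinEquiv.symm finSumFinEquiv.symm
  have hdet : ∀ p, (back p).det ≠ 0 := fun p => by
    simp only [back, det_submatrix_equiv_self, det_fromBlocks_zero₂₁]
    exact mul_ne_zero ((Matrix.isUnit_iff_isUnit_det _).1 p.1.isUnit).ne_zero
      ((Matrix.isUnit_iff_isUnit_det _).1 p.2.1.isUnit).ne_zero
  let Φ : GL (Fin k) F × GL (Fin l) F × Matrix (Fin k) (Fin l) F → parab F (k + l) k := fun p =>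
    ⟨GeneralLinearGroup.mkOfDetNeZero (back p) (hdet p), (hsub _).2 (by
      simp [back, submatrix_submatrix])⟩
  have hΦ : Function.Bijective Φ := by
    constructor
    · intro p p' h
      have h1 := congrArg (fun g : parab F (k + l) k => g.1.1.submatrix finSumFinEquiv finSumFinEquiv) h
      simp [Φ, back, submatrix_submatrix, fromBlocks_inj] at h1
      exact Prod.ext (Units.ext h1.1) (Prod.ext (Units.ext h1.2.2) h1.2.1)
    · intro g
      set M := g.1.1.submatrix finSumFinEquiv finSumFinEquiv with hM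
      have h0 := (hsub g.1).1 g.2
      have hMd : M.det ≠ 0 := by
        rw [hM, det_submatrix_equiv_self]
        exact ((Matrix.isUnit_iff_isUnit_det _).1 g.1.isUnit).ne_zero
      rw [← fromBlocks_toBlocks M, h0, det_fromBlocks_zero₂₁] at hMd
      refine ⟨⟨GeneralLinearGroup.mkOfDetNeZero _ (left_ne_zero_of_mul hMd),
        GeneralLinearGroup.mkOfDetNeZero _ (right_ne_zero_of_mul hMd), M.toBlocks₁₂⟩,
        Subtype.ext (Units.ext ?_)⟩
      show back _ = g.1.1
      simp only [back, GeneralLinearGroup.val_mkOfDetNeZero]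
      rw [← h0, fromBlocks_toBlocks]
      rw [hM, submatrix_submatrix]
      simp
  rw [← Nat.card_congr (Equiv.ofBijective Φ hΦ), Nat.card_prod, Nat.card_prod, mul_assoc]
  congr 2
  rw [Nat.card_eq_fintype_card]
  show Fintype.card (Fin k → Fin l → F) = _
  rw [Fintype.card_fun, Fintype.card_fun, Fintype.card_fin, Fintype.card_fin, ← pow_mul, mul_comm]

theorem parab_maximal (n k : ℕ) (hk0 : 0 < k) (hkn : k < n) : IsCoatom (parab F n k) := by
  have h0 : coordSub F n k ≠ ⊥ := fun h => by
    have := h ▸ single_mem_coordSub (n := n) (j := ⟨0, by omega⟩) hk0 (1 : F)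
    simpa using congrFun ((Submodule.mem_bot F).1 this) ⟨0, by omega⟩
  have h1 : coordSub F n k ≠ ⊤ := fun h => by
    have := (h ▸ Submodule.mem_top : Pi.single ⟨k, hkn⟩ (1 : F) ∈ coordSub F n k) ⟨k, hkn⟩ le_rfl
    simp at this
  obtain ⟨hlt, hmax⟩ := CfsgLib.Maximal.subspaceStabilizer_maximal (coordSub F n k) h0 h1
  rw [← parab_eq_subspaceStabilizer] at hlt hmax
  have hd : ∀ d : Fˣ, ∃ p ∈ parab F n k, (p : Matrix (Fin n) (Fin n) F).det = (d : F) := fun d => by
    obtain ⟨x, hx⟩ : ∃ x : Fin n → F, (Matrix.diagonal x).det = (d : F) := by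
      refine ⟨Function.update (fun _ => 1) ⟨0, by omega⟩ (d : F), ?_⟩
      rw [det_diagonal, Finset.prod_update_of_mem (Finset.mem_univ _)]; simp
    refine ⟨GeneralLinearGroup.mkOfDetNeZero _ (fun h => d.ne_zero (hx.symm.trans h)), mem_parab_iff.2 ?_, hx⟩
    intro i j hi hj
    exact Matrix.diagonal_apply_ne _ (by rintro rfl; omega)
  refine ⟨fun h => ?_, fun M hM => ?_⟩
  · rw [h, top_inf_eq] at hlt
    exact lt_irrefl _ hlt
  · have hSL := hmax (M ⊓ Cfsg.Geo.specialLinear (Fin n) F) (inf_le_inf_right _ hM.le) inf_le_right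
    have key : ∀ g ∈ M, ∃ p ∈ parab F n k, p⁻¹ * g ∈ M ⊓ Cfsg.Geo.specialLinear (Fin n) F := by
      intro g hg
      obtain ⟨p, hp, hpd⟩ := hd (Matrix.GeneralLinearGroup.det g)
      refine ⟨p, hp, M.mul_mem (M.inv_mem (hM.le hp)) hg, ?_⟩
      show p⁻¹ * g ∈ (Matrix.GeneralLinearGroup.det : GL (Fin n) F →* Fˣ).ker
      rw [MonoidHom.mem_ker, map_mul, map_inv, inv_mul_eq_one]
      exact Units.ext (by simpa using hpd)
    rcases hSL with h | h
    · exfalso
      refine hM.not_ge fun g hg => ?_
      obtain ⟨p, hp, hpg⟩ := key g hg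
      rw [h] at hpg
      simpa using mul_mem hp hpg.1
    · refine eq_top_iff.2 fun g _ => ?_
      obtain ⟨p, hp, hpd⟩ := hd (Matrix.GeneralLinearGroup.det g)
      have hs : p⁻¹ * g ∈ Cfsg.Geo.specialLinear (Fin n) F := by
        show p⁻¹ * g ∈ (Matrix.GeneralLinearGroup.det : GL (Fin n) F →* Fˣ).ker
        rw [MonoidHom.mem_ker, map_mul, map_inv, inv_mul_eq_one]
        exact Units.ext (by simpa using hpd)
      rw [← h] at hs
      simpa using mul_mem (hM.le hp) hs.1

/-- Inverse transpose followed by reversal of the coordinates. -/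
def revDual (F : Type*) [Field F] (n : ℕ) : GL (Fin n) F ≃* GL (Fin n) F := by
  refine
    { toFun := fun g =>
        ⟨((g⁻¹).1.submatrix Fin.revPerm Fin.revPerm)ᵀ, (g.1.submatrix Fin.revPerm Fin.revPerm)ᵀ,
          ?_, ?_⟩
      invFun := fun g =>
        ⟨((g⁻¹).1.submatrix Fin.revPerm Fin.revPerm)ᵀ, (g.1.submatrix Fin.revPerm Fin.revPerm)ᵀ,
          ?_, ?_⟩
      left_inv := fun g => Units.ext ?_
      right_inv := fun g => Units.ext ?_
      map_mul' := fun g h => Units.ext ?_ }
  · rw [← transpose_mul, submatrix_mul_equiv, g.mul_inv, submatrix_one_equiv, transpose_one]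
  · rw [← transpose_mul, submatrix_mul_equiv, g.inv_mul, submatrix_one_equiv, transpose_one]
  · rw [← transpose_mul, submatrix_mul_equiv, g.mul_inv, submatrix_one_equiv, transpose_one]
  · rw [← transpose_mul, submatrix_mul_equiv, g.inv_mul, submatrix_one_equiv, transpose_one]
  · show ((g.1.submatrix Fin.revPerm Fin.revPerm)ᵀ.submatrix Fin.revPerm Fin.revPerm)ᵀ = g.1
    ext i j; simp
  · show ((g.1.submatrix Fin.revPerm Fin.revPerm)ᵀ.submatrix Fin.revPerm Fin.revPerm)ᵀ = g.1
    ext i j; simp
  · show (((g * h)⁻¹).1.submatrix Fin.revPerm Fin.revPerm)ᵀ =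
      ((g⁻¹).1.submatrix Fin.revPerm Fin.revPerm)ᵀ * ((h⁻¹).1.submatrix Fin.revPerm Fin.revPerm)ᵀ
    rw [← transpose_mul, submatrix_mul_equiv, _root_.mul_inv_rev, Units.val_mul]

theorem map_revDual_parab {n k : ℕ} (hk : k ≤ n) :
    (parab F n k).map (revDual F n).toMonoidHom = parab F n (n - k) := by
  ext g
  rw [Subgroup.mem_map_equiv, mem_parab_iff]
  constructor
  · intro h
    rw [← inv_mem_iff, mem_parab_iff]
    intro i j hi hj
    have := h (Fin.rev j) (Fin.rev i) (by simp [Fin.val_rev]; omega) (by simp [Fin.val_rev]; omega)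
    simpa [revDual] using this
  · intro h i j hi hj
    have h' : g⁻¹ ∈ parab F n (n - k) := inv_mem h
    have := mem_parab_iff.1 h' (Fin.rev j) (Fin.rev i) (by simp [Fin.val_rev]; omega)
      (by simp [Fin.val_rev]; omega)
    simpa [revDual] using this

theorem parab_not_conj {n k l : ℕ} (hk0 : 0 < k) (hkn : k < n) (hln : l < n) (hkl : k ≠ l)
    (g : GL (Fin n) F) :
    (parab F n k).map (MulAut.conj g).toMonoidHom ≠ parab F n l := by
  intro he
  let W : Submodule F (Fin n → F) := (coordSub F n k).map (Matrix.mulVecLin g.1)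
  have hinv : ∀ p ∈ parab F n l, ∀ w ∈ W, p.1 *ᵥ w ∈ W := by
    intro p hp w hw
    rw [← he] at hp
    obtain ⟨r, hr, rfl⟩ := hp
    obtain ⟨v, hv, rfl⟩ := Submodule.mem_map.1 hw
    refine Submodule.mem_map.2 ⟨r.1 *ᵥ v, (mem_parab_iff_subspace.1 hr v).1 hv, ?_⟩
    show g.1 *ᵥ (r.1 *ᵥ v) = (g.1 * r.1 * (g⁻¹).1) *ᵥ (g.1 *ᵥ v)
    rw [mulVec_mulVec, mulVec_mulVec, mul_assoc (g.1 * r.1), g.inv_mul, mul_one]
  have tmem : ∀ (a i : Fin n), a ≠ i → (l ≤ (i : ℕ) ∨ (a : ℕ) < l) → ∀ w ∈ W,
      Pi.single a (w i) ∈ W := by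
    intro a i hai hcond w hw
    have hd : (Matrix.transvection a i (1 : F)).det ≠ 0 := by
      rw [Matrix.det_transvection_of_ne a i hai]; exact one_ne_zero
    have hp : GeneralLinearGroup.mkOfDetNeZero _ hd ∈ parab F n l := mem_parab_iff.2 fun x y hx hy => by
      show Matrix.transvection a i (1 : F) x y = 0
      have hxy : x ≠ y := by rintro rfl; omega
      rw [Matrix.transvection, Matrix.add_apply, Matrix.one_apply_ne hxy, zero_add,
        Matrix.single_apply, if_neg]
      rintro ⟨rfl, rfl⟩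
      omega
    have := sub_mem (hinv _ hp w hw) hw
    rw [GeneralLinearGroup.val_mkOfDetNeZero, Matrix.transvection, add_mulVec, one_mulVec,
      add_sub_cancel_left, Matrix.single_mulVec_eq, one_mul] at this
    rw [show Pi.single a (w i) = w i • (Pi.single a 1 : Fin n → F) by rw [← Pi.single_smul']; simp]
    simpa [Pi.single_smul] using this
  have hdimW : Module.finrank F W = Module.finrank F (coordSub F n k) :=
    (LinearEquiv.finrank_eq (Submodule.equivMapOfInjective _
      (Matrix.mulVec_injective_of_isUnit ⟨g, rfl⟩) _)).symm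
  have hdim : ∀ m, m ≤ n → Module.finrank F (coordSub F n m) = m := by
    intro m hm
    let e : coordSub F n m ≃ₗ[F] (Fin m → F) :=
      { toFun := fun v i => v.1 (Fin.castLE hm i)
        map_add' := fun _ _ => rfl
        map_smul' := fun _ _ => rfl
        invFun := fun v => ⟨fun i => if h : (i : ℕ) < m then v ⟨i, h⟩ else 0,
          fun i hi => dif_neg (by omega)⟩
        left_inv := fun v => Subtype.ext (funext fun i => by
          by_cases h : (i : ℕ) < m
          · simp [h]
          · simp [h, v.2 i (by omega)])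
        right_inv := fun v => funext fun i => by simp }
    rw [e.finrank_eq, Module.finrank_fin_fun]
  rw [hdim k hkn.le] at hdimW
  by_cases hbig : ∃ w ∈ W, ∃ i : Fin n, l ≤ (i : ℕ) ∧ w i ≠ 0
  · obtain ⟨w, hw, i, hi, hwi⟩ := hbig
    have hoff : ∀ a, a ≠ i → Pi.single a (1 : F) ∈ W := fun a ha => by
      have := W.smul_mem (w i)⁻¹ (tmem a i ha (Or.inl hi) w hw)
      rwa [← Pi.single_smul', smul_eq_mul, inv_mul_cancel₀ hwi] at this
    have hall : ∀ a, Pi.single a (1 : F) ∈ W := fun a => by
      rcases eq_or_ne a i with rfl | ha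
      · have hsum : Pi.single a (w a) = w - ∑ b ∈ Finset.univ.erase a, w b • (Pi.single b 1 : Fin n → F) := by
          rw [eq_sub_iff_add_eq]
          have := Finset.add_sum_erase Finset.univ (fun b => (Pi.single b (w b) : Fin n → F)) (Finset.mem_univ a)
          simp only [Finset.univ_sum_single] at this
          simpa [← Pi.single_smul'] using this
        have hwa : Pi.single a (w a) ∈ W := hsum ▸ sub_mem hw
          (sum_mem fun b hb => W.smul_mem _ (hoff b (Finset.ne_of_mem_erase hb)))
        have := W.smul_mem (w a)⁻¹ hwa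
        rwa [← Pi.single_smul', smul_eq_mul, inv_mul_cancel₀ hwi] at this
      · exact hoff a ha
    have htop : W = ⊤ := eq_top_iff.2 fun v _ => by
      rw [← Finset.univ_sum_single v]
      refine sum_mem fun a _ => ?_
      have := W.smul_mem (v a) (hall a)
      rwa [← Pi.single_smul', smul_eq_mul, mul_one] at this
    rw [htop, finrank_top, Module.finrank_fin_fun] at hdimW
    omega
  push Not at hbig
  have hle : W ≤ coordSub F n l := fun w hw i hi => hbig w hw i hi
  have hge : coordSub F n l ≤ W := by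
    obtain ⟨w, hw, hw0⟩ := W.exists_mem_ne_zero_of_ne_bot (fun h => by
      rw [h, finrank_bot] at hdimW; omega)
    obtain ⟨i, hwi⟩ := Function.ne_iff.1 hw0
    simp only [Pi.zero_apply] at hwi
    have hi : (i : ℕ) < l := by
      by_contra hh
      exact hwi (hbig w hw i (by omega))
    have hoff : ∀ a : Fin n, a ≠ i → (a : ℕ) < l → Pi.single a (1 : F) ∈ W := fun a ha hal => by
      have := W.smul_mem (w i)⁻¹ (tmem a i ha (Or.inr hal) w hw)
      rwa [← Pi.single_smul', smul_eq_mul, inv_mul_cancel₀ hwi] at this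
    have hall : ∀ a : Fin n, (a : ℕ) < l → Pi.single a (1 : F) ∈ W := fun a hal => by
      rcases eq_or_ne a i with rfl | ha
      · have hsum : Pi.single a (w a) = w - ∑ b ∈ Finset.univ.erase a, (Pi.single b (w b) : Fin n → F) := by
          rw [eq_sub_iff_add_eq]
          have := Finset.add_sum_erase Finset.univ (fun b => (Pi.single b (w b) : Fin n → F)) (Finset.mem_univ a)
          rwa [Finset.univ_sum_single] at this
        have hwa : Pi.single a (w a) ∈ W := hsum ▸ sub_mem hw (sum_mem fun b hb => by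
          rcases Nat.lt_or_ge (b : ℕ) l with hb' | hb'
          · have := W.smul_mem (w b) (hoff b (Finset.ne_of_mem_erase hb) hb')
            rwa [← Pi.single_smul', smul_eq_mul, mul_one] at this
          · rw [hbig w hw b hb', Pi.single_zero]; exact zero_mem _)
        have := W.smul_mem (w a)⁻¹ hwa
        rwa [← Pi.single_smul', smul_eq_mul, inv_mul_cancel₀ hwi] at this
      · exact hoff a ha hal
    intro v hv
    rw [← Finset.univ_sum_single v]
    refine sum_mem fun a _ => ?_
    rcases Nat.lt_or_ge (a : ℕ) l with ha | ha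
    · have := W.smul_mem (v a) (hall a ha)
      rwa [← Pi.single_smul', smul_eq_mul, mul_one] at this
    · rw [hv a ha, Pi.single_zero]; exact zero_mem _
  rw [le_antisymm hle hge, hdim l hln.le] at hdimW
  exact hkl hdimW.symm

end CfsgLib.Classical
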