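import Mathlib

/-!
Eigenspaces of an element normalising an absolutely irreducible group of symplectic type.

If `y = [g, x]` and `W` is an eigenspace of `g`, then `y` fixes `W ∩ x W` pointwise; if `y` commutes with `g` up to
scalars and has order `r`, the eigenspaces of `y` are permuted by `x` and at most two of them share an eigenvalue
shift of `g`.
-/

set_option autoImplicit false

namespace CfsgLib.Classical.ExtraspecialEigen

open scoped commutatorElement

section dims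

variable {F : Type*} [Field F] {V : Type*} [AddCommGroup V] [Module F V] [FiniteDimensional F V] {ι : Type*}

theorem finrank_sup_le (p : ι → Submodule F V) (s : Finset ι) :
    Module.finrank F (s.sup p : Submodule F V) ≤ ∑ i ∈ s, Module.finrank F (p i) := by
  classical
  induction s using Finset.induction with
  | empty => simp
  | insert i s hi ih =>
    rw [Finset.sup_insert, Finset.sum_insert hi]
    exact (Submodule.finrank_add_le_finrank_add_finrank _ _).trans (Nat.add_le_add_left ih _)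

theorem finrank_sum_le (p : ι → Submodule F V) (h : iSupIndep p) (s : Finset ι) :
    ∑ i ∈ s, Module.finrank F (p i) = Module.finrank F (s.sup p : Submodule F V) := by
  classical
  induction s using Finset.induction with
  | empty => rw [Finset.sum_empty, Finset.sup_empty, finrank_bot]
  | insert i s hi ih =>
    rw [Finset.sup_insert, Finset.sum_insert hi, ih, ← Submodule.finrank_sup_add_finrank_inf_eq]
    have hd : p i ⊓ s.sup p = ⊥ := disjoint_iff.1 ((h i).mono_right (Finset.sup_le fun j hj =>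
      le_iSup₂_of_le j (fun e => hi (by rw [← e]; exact hj)) le_rfl))
    rw [hd, finrank_bot, add_zero]

end dims

variable {F : Type*} [Field F] {V : Type*} [AddCommGroup V] [Module F V] [FiniteDimensional F V]

/-- Scalar maps. -/
def IsSc (f : V ≃ₗ[F] V) : Prop := ∃ k : F, ∀ v, f v = k • v

/-- The eigenspace. -/
abbrev eig (f : V ≃ₗ[F] V) (c : F) : Submodule F V := Module.End.eigenspace (f : V →ₗ[F] V) c

theorem mem_eig {f : V ≃ₗ[F] V} {c : F} {v : V} : v ∈ eig f c ↔ f v = c • v :=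
  Module.End.mem_eigenspace_iff

theorem mul_apply' (f h : V ≃ₗ[F] V) (v : V) : (f * h) v = f (h v) := rfl

theorem IsSc.commute {s : V ≃ₗ[F] V} (hs : IsSc s) (f : V ≃ₗ[F] V) : s * f = f * s := by
  obtain ⟨k, hk⟩ := hs
  refine LinearEquiv.ext fun v => ?_
  rw [mul_apply', mul_apply', hk, hk, map_smul]

theorem isSc_one : IsSc (1 : V ≃ₗ[F] V) := ⟨1, fun v => by rw [one_smul]; rfl⟩

theorem IsSc.mul {s t : V ≃ₗ[F] V} (hs : IsSc s) (ht : IsSc t) : IsSc (s * t) := by
  obtain ⟨k, hk⟩ := hs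
  obtain ⟨l, hl⟩ := ht
  exact ⟨k * l, fun v => by rw [mul_apply', hl, map_smul, hk, smul_smul, mul_comm]⟩

theorem IsSc.pow {s : V ≃ₗ[F] V} (hs : IsSc s) : ∀ m : ℕ, IsSc (s ^ m)
  | 0 => by rw [pow_zero]; exact isSc_one
  | m + 1 => by rw [pow_succ]; exact (hs.pow m).mul hs

theorem IsSc.inv {s : V ≃ₗ[F] V} (hs : IsSc s) : IsSc s⁻¹ := by
  obtain ⟨k, hk⟩ := hs
  rcases eq_or_ne k 0 with rfl | hk0
  · refine ⟨0, fun v => ?_⟩
    have hv : v = 0 := s.injective (by rw [hk, zero_smul, map_zero])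
    rw [hv, map_zero, smul_zero]
  · refine ⟨k⁻¹, fun v => s.injective ?_⟩
    rw [show s (s⁻¹ v) = v from s.apply_symm_apply v, map_smul, hk, smul_smul, inv_mul_cancel₀ hk0, one_smul]

theorem IsSc.conj {s : V ≃ₗ[F] V} (hs : IsSc s) (f : V ≃ₗ[F] V) : f * s * f⁻¹ = s := by
  rw [← hs.commute, mul_inv_cancel_right]

theorem eq_one_of_fix {s : V ≃ₗ[F] V} (hs : IsSc s) {v : V} (hv : v ≠ 0) (h : s v = v) : s = 1 := by
  obtain ⟨k, hk⟩ := hs
  have hk1 : k = 1 := by
    rw [hk] at h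
    exact smul_left_injective F hv (show k • v = (1 : F) • v by rw [h, one_smul])
  exact LinearEquiv.ext fun w => by rw [hk, hk1, one_smul]; rfl

theorem finrank_map_eq (f : V ≃ₗ[F] V) (W : Submodule F V) :
    Module.finrank F (W.map (f : V →ₗ[F] V)) = Module.finrank F W := (f.submoduleMap W).finrank_eq.symm

/-- The hypotheses. -/
structure Hyp (H : Subgroup (V ≃ₗ[F] V)) (g : V ≃ₗ[F] V) (r ϖ : ℕ) : Prop where
  rp : r.Prime
  wp : ϖ.Prime
  comm : ∀ a ∈ H, ∀ b ∈ H, IsSc ⁅a, b⁆ ∧ ⁅a, b⁆ ^ r = 1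
  cen : ∀ a ∈ H, (∀ b ∈ H, a * b = b * a) → IsSc a
  norm : ∀ a ∈ H, g * a * g⁻¹ ∈ H
  norm' : ∀ a ∈ H, g⁻¹ * a * g ∈ H
  ord : g ^ ϖ = 1
  nsc : ¬ IsSc g
  irr : (∀ b ∈ H, g * b = b * g) → IsSc g

variable {H : Subgroup (V ≃ₗ[F] V)} {g : V ≃ₗ[F] V} {r ϖ : ℕ}

/-- Equality modulo scalars. -/
def Eqv (a b : V ≃ₗ[F] V) : Prop := IsSc (a * b⁻¹)

theorem eqv_iff {a b : V ≃ₗ[F] V} : Eqv a b ↔ ∃ s, IsSc s ∧ a = s * b :=
  ⟨fun h => ⟨_, h, by group⟩, fun ⟨s, hs, e⟩ => by rw [Eqv, e, mul_inv_cancel_right]; exact hs⟩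

theorem Eqv.isSc {a b : V ≃ₗ[F] V} (h : Eqv a b) (hb : IsSc b) : IsSc a := by
  obtain ⟨s, hs, rfl⟩ := eqv_iff.1 h; exact hs.mul hb

theorem Eqv.symm {a b : V ≃ₗ[F] V} (h : Eqv a b) : Eqv b a := by
  have := IsSc.inv h
  rwa [mul_inv_rev, inv_inv] at this

theorem Eqv.trans {a b c : V ≃ₗ[F] V} (h : Eqv a b) (h' : Eqv b c) : Eqv a c := by
  have := IsSc.mul h h'
  rwa [show a * b⁻¹ * (b * c⁻¹) = a * c⁻¹ by group] at this

theorem Eqv.mul {a b c e : V ≃ₗ[F] V} (h : Eqv a b) (h' : Eqv c e) : Eqv (a * c) (b * e) := by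
  obtain ⟨s, hs, rfl⟩ := eqv_iff.1 h
  obtain ⟨t, ht, rfl⟩ := eqv_iff.1 h'
  refine eqv_iff.2 ⟨s * t, hs.mul ht, ?_⟩
  calc s * b * (t * e) = s * (b * t) * e := by group
    _ = s * (t * b) * e := by rw [ht.commute]
    _ = _ := by group

theorem eqv_refl (a : V ≃ₗ[F] V) : Eqv a a := by
  rw [Eqv, mul_inv_cancel]; exact isSc_one

theorem eqv_one {a : V ≃ₗ[F] V} (h : IsSc a) : Eqv a 1 := by rwa [Eqv, inv_one, mul_one]

theorem Eqv.conj {a b : V ≃ₗ[F] V} (h : Eqv a b) (f : V ≃ₗ[F] V) : Eqv (f * a * f⁻¹) (f * b * f⁻¹) := by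
  obtain ⟨s, hs, rfl⟩ := eqv_iff.1 h
  exact eqv_iff.2 ⟨s, hs, by rw [← mul_assoc f s, ← hs.commute f]; group⟩

theorem Eqv.pow {a b : V ≃ₗ[F] V} (h : Eqv a b) : ∀ m : ℕ, Eqv (a ^ m) (b ^ m)
  | 0 => eqv_refl _
  | m + 1 => by rw [pow_succ, pow_succ]; exact (h.pow m).mul h

namespace Hyp

variable (hy : Hyp H g r ϖ)
include hy

theorem eqv_comm {a b : V ≃ₗ[F] V} (ha : a ∈ H) (hb : b ∈ H) : Eqv (a * b) (b * a) := by
  have := (hy.comm a ha b hb).1
  rw [commutatorElement_def] at this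
  rwa [Eqv, mul_inv_rev, ← mul_assoc]

theorem comm_mul {a b d : V ≃ₗ[F] V} (ha : a ∈ H) (hb : b ∈ H) (hd : d ∈ H) :
    ⁅a * b, d⁆ = ⁅a, d⁆ * ⁅b, d⁆ := by
  have h := (hy.comm b hb d hd).1
  calc ⁅a * b, d⁆ = (a * ⁅b, d⁆ * a⁻¹) * ⁅a, d⁆ := by simp only [commutatorElement_def]; group
    _ = ⁅b, d⁆ * ⁅a, d⁆ := by rw [h.conj]
    _ = _ := h.commute _

theorem comm_eqv_left {a a' d : V ≃ₗ[F] V} (h : Eqv a a') : ⁅a, d⁆ = ⁅a', d⁆ := by
  obtain ⟨s, hs, rfl⟩ := eqv_iff.1 h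
  calc ⁅s * a', d⁆ = s * (a' * d * a'⁻¹) * (s⁻¹ * d⁻¹) := by simp only [commutatorElement_def]; group
    _ = (a' * d * a'⁻¹) * s * (d⁻¹ * s⁻¹) := by rw [hs.commute, hs.inv.commute]
    _ = (a' * d * a'⁻¹) * (d⁻¹ * s) * s⁻¹ := by rw [← hs.commute d⁻¹]; group
    _ = _ := by simp only [commutatorElement_def]; group

theorem comm_T {a b : V ≃ₗ[F] V} (ha : a ∈ H) (hb : b ∈ H) :
    ⁅g * a * g⁻¹, g * b * g⁻¹⁆ = ⁅a, b⁆ := by
  calc _ = g * ⁅a, b⁆ * g⁻¹ := by simp only [commutatorElement_def]; group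
    _ = _ := (hy.comm a ha b hb).1.conj g

theorem pow_r {a : V ≃ₗ[F] V} (ha : a ∈ H) : IsSc (a ^ r) := by
  refine hy.cen _ (pow_mem ha r) fun b hb => ?_
  have h : ∀ m : ℕ, ⁅a ^ m, b⁆ = ⁅a, b⁆ ^ m := by
    intro m
    induction m with
    | zero => simp
    | succ m ih => rw [pow_succ, hy.comm_mul (pow_mem ha m) ha hb, ih, pow_succ]
  have h1 : ⁅a ^ r, b⁆ = 1 := by rw [h, (hy.comm a ha b hb).2]
  exact commutatorElement_eq_one_iff_mul_comm.1 h1

theorem D_mem {a : V ≃ₗ[F] V} (ha : a ∈ H) : g * a * g⁻¹ * a⁻¹ ∈ H := mul_mem (hy.norm a ha) (inv_mem ha)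

theorem D_mul {a b : V ≃ₗ[F] V} (ha : a ∈ H) (hb : b ∈ H) :
    Eqv (g * (a * b) * g⁻¹ * (a * b)⁻¹) ((g * a * g⁻¹ * a⁻¹) * (g * b * g⁻¹ * b⁻¹)) := by
  have h1 : Eqv (a * (g * b * g⁻¹ * b⁻¹) * a⁻¹) (g * b * g⁻¹ * b⁻¹) := by
    have := (hy.comm a ha _ (hy.D_mem hb)).1
    rwa [commutatorElement_def] at this
  have := (eqv_refl (g * a * g⁻¹ * a⁻¹)).mul h1
  rwa [show g * a * g⁻¹ * a⁻¹ * (a * (g * b * g⁻¹ * b⁻¹) * a⁻¹) = g * (a * b) * g⁻¹ * (a * b)⁻¹ by group] at this

theorem exists_noncomm {y : V ≃ₗ[F] V} (hyH : y ∈ H) (hns : ¬ IsSc y) :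
    ∃ w ∈ H, ⁅w, y⁆ ≠ 1 := by
  by_contra hcon
  push Not at hcon
  exact hns (hy.cen y hyH fun b hb => (commutatorElement_eq_one_iff_mul_comm.1 (hcon b hb)).symm)

/-- A commutator that is not trivial is a primitive `r`-th root of unity. -/
theorem exists_root {w y : V ≃ₗ[F] V} (hw : w ∈ H) (hyH : y ∈ H) (h : ⁅w, y⁆ ≠ 1) :
    ∃ k : F, IsPrimitiveRoot k r ∧ ∀ v, w (y v) = k • y (w v) := by
  obtain ⟨⟨k, hk⟩, hpow⟩ := hy.comm w hw y hyH
  have hkv : ∀ v, w (y v) = k • y (w v) := fun v => by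
    rw [← hk]
    show _ = (⁅w, y⁆ * (y * w)) v
    rw [commutatorElement_def, show w * y * w⁻¹ * y⁻¹ * (y * w) = w * y by group]
    rfl
  obtain ⟨v, hv⟩ : ∃ v : V, v ≠ 0 := by
    by_contra hcon
    push Not at hcon
    exact h (LinearEquiv.ext fun v => by rw [hcon v, map_zero, map_zero])
  have hkr : ∀ m : ℕ, ∀ u, (⁅w, y⁆ ^ m) u = k ^ m • u := by
    intro m
    induction m with
    | zero => intro u; rw [pow_zero, pow_zero, one_smul]; rfl
    | succ m ih => intro u; rw [pow_succ, pow_succ, mul_apply', hk, map_smul, ih, smul_smul, mul_comm]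
  have hk1 : k ^ r = 1 := by
    have := hkr r v
    rw [hpow] at this
    exact smul_left_injective F hv (show k ^ r • v = (1 : F) • v by rw [← this, one_smul]; rfl)
  refine ⟨k, ?_, hkv⟩
  haveI := Fact.mk hy.rp
  rw [← orderOf_eq_prime hk1 fun e => h (LinearEquiv.ext fun u => by rw [hk, e, one_smul]; rfl)]
  exact IsPrimitiveRoot.orderOf k

/-- A non-scalar element of `H` fixes at most the `r`-th part of the space. -/
theorem fix_le {y : V ≃ₗ[F] V} (hyH : y ∈ H) (hns : ¬ IsSc y) (c : F) (hc : c ≠ 0) :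
    r * Module.finrank F (eig y c) ≤ Module.finrank F V := by
  obtain ⟨w, hw, hwy⟩ := hy.exists_noncomm hyH hns
  obtain ⟨k, hk, hkv⟩ := hy.exists_root hw hyH hwy
  have hk0 : k ≠ 0 := hk.ne_zero hy.rp.ne_zero
  have hstep : ∀ j : ℕ, (eig y c).map ((w ^ j : V ≃ₗ[F] V) : V →ₗ[F] V) ≤ eig y (c * k⁻¹ ^ j) := by
    intro j
    induction j with
    | zero =>
      rintro _ ⟨v, hv, rfl⟩
      rw [pow_zero, pow_zero, mul_one]
      exact hv
    | succ j ih =>
      rintro _ ⟨v, hv, rfl⟩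
      have h1 := mem_eig.1 (ih ⟨v, hv, rfl⟩)
      change y ((w ^ j : V ≃ₗ[F] V) v) = _ at h1
      rw [mem_eig]
      show y ((w ^ (j + 1) : V ≃ₗ[F] V) v) = _
      rw [pow_succ' w, mul_apply']
      have h2 := hkv ((w ^ j : V ≃ₗ[F] V) v)
      rw [h1, map_smul] at h2
      have h3 := congrArg (fun u => k⁻¹ • u) h2
      simp only [smul_smul, inv_mul_cancel₀ hk0, one_smul] at h3
      rw [← h3, mul_comm, pow_succ, mul_assoc]
      rfl
  have hinj : Function.Injective fun j : Fin r => c * k⁻¹ ^ (j : ℕ) := fun i j hij =>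
    Fin.ext (hk.inv.pow_inj i.2 j.2 (mul_left_cancel₀ hc hij))
  have hind : iSupIndep fun j : Fin r => eig y (c * k⁻¹ ^ (j : ℕ)) :=
    (Module.End.eigenspaces_iSupIndep (y : V →ₗ[F] V)).comp hinj
  calc r * Module.finrank F (eig y c) = ∑ _j : Fin r, Module.finrank F (eig y c) := by simp
    _ ≤ ∑ j : Fin r, Module.finrank F (eig y (c * k⁻¹ ^ (j : ℕ))) := Finset.sum_le_sum fun j _ => by
        rw [← finrank_map_eq (w ^ (j : ℕ) : V ≃ₗ[F] V) (eig y c)]
        exact Submodule.finrank_mono (hstep j)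
    _ ≤ _ := by
        rw [finrank_sum_le _ hind]
        exact Submodule.finrank_le _

omit hy in
theorem inter_fix {x : V ≃ₗ[F] V} {c : F} {v : V} (hv : v ∈ eig g c)
    (hv' : v ∈ (eig g c).map (x : V →ₗ[F] V)) (hc : c ≠ 0) :
    (g * x * g⁻¹ * x⁻¹) v = v ∧ (g * (g * x * g⁻¹ * x⁻¹) * g⁻¹) v = v := by
  obtain ⟨u, hu, rfl⟩ := hv'
  replace hv : x u ∈ eig g c := hv
  show (g * x * g⁻¹ * x⁻¹) (x u) = x u ∧ (g * (g * x * g⁻¹ * x⁻¹) * g⁻¹) (x u) = x u
  have e : ∀ w ∈ eig g c, g⁻¹ w = c⁻¹ • w := fun w hw => g.injective (by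
    rw [show g (g⁻¹ w) = w from g.apply_symm_apply w, map_smul, mem_eig.1 hw, smul_smul, inv_mul_cancel₀ hc,
      one_smul])
  have h1 : (g * x * g⁻¹ * x⁻¹) (x u) = x u := by
    rw [mul_apply', mul_apply', mul_apply', show x⁻¹ (x u) = u from x.symm_apply_apply u, e u hu, map_smul,
      map_smul, mem_eig.1 hv, smul_smul, inv_mul_cancel₀ hc, one_smul]
  refine ⟨h1, ?_⟩
  show (g * (g * x * g⁻¹ * x⁻¹) * g⁻¹) (x u) = x u
  rw [mul_apply' (g * (g * x * g⁻¹ * x⁻¹)), e _ hv, map_smul, mul_apply' g, h1, mem_eig.1 hv, smul_smul,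
    inv_mul_cancel₀ hc, one_smul]

omit hy in
theorem two_mul_le (x : V ≃ₗ[F] V) (W : Submodule F V) :
    2 * Module.finrank F W ≤ Module.finrank F V + Module.finrank F (W ⊓ W.map (x : V →ₗ[F] V) : Submodule F V) := by
  have h := Submodule.finrank_sup_add_finrank_inf_eq W (W.map (x : V →ₗ[F] V))
  rw [finrank_map_eq] at h
  have := Submodule.finrank_le (W ⊔ W.map (x : V →ₗ[F] V))
  omega

/-- When no commutator `[g, x]` leaves the scalars. -/
theorem central_case {c : F} (hc : c ≠ 0) (h : ∀ x ∈ H, IsSc (g * x * g⁻¹ * x⁻¹)) :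
    r * Module.finrank F (eig g c) ≤ Module.finrank F V := by
  obtain ⟨x, hx, hne⟩ : ∃ x ∈ H, g * x * g⁻¹ * x⁻¹ ≠ 1 := by
    by_contra hcon
    push Not at hcon
    refine hy.nsc (hy.irr fun b hb => ?_)
    rw [← mul_inv_eq_iff_eq_mul, ← mul_inv_eq_one]
    exact hcon b hb
  obtain ⟨k, hk⟩ := h x hx
  have hpow : ∀ m : ℕ, g * x ^ m * g⁻¹ = (g * x * g⁻¹ * x⁻¹) ^ m * x ^ m := by
    intro m
    induction m with
    | zero => simp
    | succ m ih =>
      have hm := (h x hx).pow m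
      calc g * x ^ (m + 1) * g⁻¹ = (g * x ^ m * g⁻¹) * (g * x * g⁻¹) := by rw [pow_succ]; group
        _ = (g * x * g⁻¹ * x⁻¹) ^ m * (x ^ m * (g * x * g⁻¹ * x⁻¹)) * x := by rw [ih]; group
        _ = (g * x * g⁻¹ * x⁻¹) ^ m * ((g * x * g⁻¹ * x⁻¹) * x ^ m) * x := by rw [(h x hx).commute]
        _ = _ := by rw [pow_succ, pow_succ]; group
  have hone : (g * x * g⁻¹ * x⁻¹) ^ r = 1 := by
    have h1 := hpow r
    rw [(hy.pow_r hx).conj] at h1
    exact mul_eq_right.1 h1.symm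
  have hkm : ∀ m : ℕ, ∀ v, ((g * x * g⁻¹ * x⁻¹) ^ m) v = k ^ m • v := by
    intro m
    induction m with
    | zero => intro v; rw [pow_zero, pow_zero, one_smul]; rfl
    | succ m ih => intro v; rw [pow_succ, pow_succ, mul_apply', hk, map_smul, ih, smul_smul, mul_comm]
  have hstep : ∀ j : ℕ, (eig g c).map ((x ^ j : V ≃ₗ[F] V) : V →ₗ[F] V) ≤ eig g (c * k ^ j) := by
    rintro j _ ⟨v, hv, rfl⟩
    rw [mem_eig]
    show g ((x ^ j : V ≃ₗ[F] V) v) = _
    calc g ((x ^ j : V ≃ₗ[F] V) v) = (g * x ^ j * g⁻¹) (g v) := by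
          rw [mul_apply', mul_apply', show g⁻¹ (g v) = v from g.symm_apply_apply v]
      _ = _ := by rw [hpow, mem_eig.1 hv, map_smul, mul_apply', hkm, smul_smul]; rfl
  obtain ⟨v, hv⟩ : ∃ v : V, v ≠ 0 := by
    by_contra hcon
    push Not at hcon
    exact hne (LinearEquiv.ext fun v => by rw [hcon v, map_zero, map_zero])
  have hk1 : k ^ r = 1 := by
    have := hkm r v
    rw [hone] at this
    exact smul_left_injective F hv (show k ^ r • v = (1 : F) • v by rw [← this, one_smul]; rfl)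
  have hprim : IsPrimitiveRoot k r := by
    haveI := Fact.mk hy.rp
    rw [← orderOf_eq_prime hk1 fun e => hne (LinearEquiv.ext fun u => by rw [hk, e, one_smul]; rfl)]
    exact IsPrimitiveRoot.orderOf k
  have hinj : Function.Injective fun j : Fin r => c * k ^ (j : ℕ) := fun i j hij =>
    Fin.ext (hprim.pow_inj i.2 j.2 (mul_left_cancel₀ hc hij))
  have hind : iSupIndep fun j : Fin r => eig g (c * k ^ (j : ℕ)) :=
    (Module.End.eigenspaces_iSupIndep (g : V →ₗ[F] V)).comp hinj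
  calc r * Module.finrank F (eig g c) = ∑ _j : Fin r, Module.finrank F (eig g c) := by simp
    _ ≤ ∑ j : Fin r, Module.finrank F (eig g (c * k ^ (j : ℕ))) := Finset.sum_le_sum fun j _ => by
        rw [← finrank_map_eq (x ^ (j : ℕ) : V ≃ₗ[F] V) (eig g c)]
        exact Submodule.finrank_mono (hstep j)
    _ ≤ _ := by
        rw [finrank_sum_le _ hind]
        exact Submodule.finrank_le _

/-- When some commutator leaves the scalars. -/
theorem half_add {c : F} (hc : c ≠ 0) {x : V ≃ₗ[F] V} (hx : x ∈ H) (hns : ¬ IsSc (g * x * g⁻¹ * x⁻¹)) :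
    2 * r * Module.finrank F (eig g c) ≤ (r + 1) * Module.finrank F V := by
  have h1 := two_mul_le x (eig g c)
  have h2 : (eig g c ⊓ (eig g c).map (x : V →ₗ[F] V)) ≤ eig (g * x * g⁻¹ * x⁻¹) 1 := fun v hv =>
    mem_eig.2 (by rw [(inter_fix hv.1 hv.2 hc).1, one_smul])
  have h3 := Submodule.finrank_mono h2
  have h4 := hy.fix_le (hy.D_mem hx) hns 1 one_ne_zero
  have h5 : 2 * Module.finrank F (eig g c) ≤
      Module.finrank F V + Module.finrank F (eig (g * x * g⁻¹ * x⁻¹) 1) := by omega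
  calc 2 * r * Module.finrank F (eig g c) = r * (2 * Module.finrank F (eig g c)) := by ring
    _ ≤ r * (Module.finrank F V + Module.finrank F (eig (g * x * g⁻¹ * x⁻¹) 1)) := Nat.mul_le_mul_left r h5
    _ ≤ _ := by rw [mul_add, add_mul, one_mul]; exact Nat.add_le_add_left h4 _

/-- A commutator that does not commute with its `g`-conjugate. -/
theorem half_of_noncomm {c : F} (hc : c ≠ 0) {x : V ≃ₗ[F] V} (hx : x ∈ H)
    (h : ⁅g * x * g⁻¹ * x⁻¹, g * (g * x * g⁻¹ * x⁻¹) * g⁻¹⁆ ≠ 1) :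
    2 * Module.finrank F (eig g c) ≤ Module.finrank F V := by
  have h1 := two_mul_le x (eig g c)
  have h2 : eig g c ⊓ (eig g c).map (x : V →ₗ[F] V) = ⊥ := by
    rw [eq_bot_iff]
    intro v hv
    by_contra hv0
    rw [Submodule.mem_bot] at hv0
    obtain ⟨e1, e2⟩ := inter_fix hv.1 hv.2 hc
    refine h (eq_one_of_fix (hy.comm _ (hy.D_mem hx) _ (hy.norm _ (hy.D_mem hx))).1 hv0 ?_)
    have i1 : (g * x * g⁻¹ * x⁻¹)⁻¹ v = v := (g * x * g⁻¹ * x⁻¹).symm_apply_eq.2 e1.symm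
    have i2 : (g * (g * x * g⁻¹ * x⁻¹) * g⁻¹)⁻¹ v = v :=
      (g * (g * x * g⁻¹ * x⁻¹) * g⁻¹).symm_apply_eq.2 e2.symm
    rw [commutatorElement_def, mul_apply', mul_apply', mul_apply', i2, i1, e2, e1]
  rw [h2, finrank_bot] at h1
  omega

omit hy in
theorem count_two {r : ℕ} (hr : r.Prime) (hodd : r ≠ 2) [DecidableEq F] (k : F)
    (hk : IsPrimitiveRoot k r) (s : Fin r → F) (hs : ∀ i j : Fin r, s i = s j →
      k ^ ((i : ℕ) * (i + 1) / 2) = k ^ ((j : ℕ) * (j + 1) / 2)) (b : F) :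
    (Finset.univ.filter fun j => s j = b).card ≤ 2 := by
  by_contra hlt
  obtain ⟨i, hi⟩ : (Finset.univ.filter fun j => s j = b).Nonempty := Finset.card_pos.1 (by omega)
  have hr2 : 2 ≤ r := hr.two_le
  let i' : Fin r := ⟨r - 1 - i, by omega⟩
  refine hlt ((Finset.card_le_card fun j hj => ?_).trans (Finset.card_le_two (a := i) (b := i')))
  rw [Finset.mem_filter] at hi hj
  have h := (hk.isOfFinOrder hr.ne_zero).pow_eq_pow_iff_modEq.1 (hs j i (hj.2.trans hi.2.symm))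
  rw [← hk.eq_orderOf, ← Int.natCast_modEq_iff, Int.modEq_iff_dvd] at h
  obtain ⟨p, hp⟩ := (Nat.even_mul_succ_self (i : ℕ)).two_dvd
  obtain ⟨p', hp'⟩ := (Nat.even_mul_succ_self (j : ℕ)).two_dvd
  rw [hp, hp', Nat.mul_div_cancel_left _ two_pos, Nat.mul_div_cancel_left _ two_pos] at h
  have h2 : (r : ℤ) ∣ ((i : ℤ) - j) * ((i : ℤ) + j + 1) := by
    have e1 : ((i : ℕ) : ℤ) * ((i : ℕ) + 1) = 2 * (p : ℤ) := by exact_mod_cast hp
    have e2 : ((j : ℕ) : ℤ) * ((j : ℕ) + 1) = 2 * (p' : ℤ) := by exact_mod_cast hp'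
    have : ((i : ℤ) - j) * ((i : ℤ) + j + 1) = 2 * ((p : ℤ) - p') := by linear_combination e1 - e2
    rw [this]; exact h.mul_left 2
  rw [Finset.mem_insert, Finset.mem_singleton]
  rcases (Nat.prime_iff_prime_int.1 hr).dvd_or_dvd h2 with h3 | h3
  · left
    have := Int.eq_zero_of_abs_lt_dvd h3 (by rw [abs_lt]; omega)
    exact Fin.ext (by omega)
  · right
    obtain ⟨t, ht⟩ := h3
    have ht1 : t = 1 := by
      have l1 : (0 : ℤ) < (r : ℤ) * t := by omega
      have l2 : (r : ℤ) * t < (r : ℤ) * 2 := by omega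
      have := pos_of_mul_pos_right l1 (by omega)
      have := lt_of_mul_lt_mul_left l2 (by omega)
      omega
    subst ht1
    refine Fin.ext ?_
    show (j : ℕ) = r - 1 - i
    omega

/-- The unipotent case: `y = [g, x]` commutes with `g`. -/
theorem two_div {c : F} (hc : c ≠ 0) (hodd : r ≠ 2) (hϖ : ϖ = r) {x y : V ≃ₗ[F] V} (hx : x ∈ H) (hyH : y ∈ H)
    (hns : ¬ IsSc y) (hxy : g * x * g⁻¹ = y * x) (hgy : g * y = y * g) :
    r * Module.finrank F (eig g c) ≤ 2 * Module.finrank F V ∧ r ∣ Module.finrank F V := by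
  classical
  obtain ⟨w₀, hw₀, hw₀y, hwx⟩ : ∃ w ∈ H, ⁅w, y⁆ ≠ 1 ∧ (⁅x, y⁆ ≠ 1 → w = x) := by
    by_cases hk : ⁅x, y⁆ = 1
    · obtain ⟨w, hw, hwy⟩ := hy.exists_noncomm hyH hns
      exact ⟨w, hw, hwy, fun h => absurd hk h⟩
    · exact ⟨x, hx, hk, fun _ => rfl⟩
  obtain ⟨κ, hκ, hκv⟩ := hy.exists_root hw₀ hyH hw₀y
  have hκ0 : κ ≠ 0 := hκ.ne_zero hy.rp.ne_zero
  have hrF : (r : F) ≠ 0 := by
    intro h0
    obtain ⟨p, hp⟩ := CharP.exists F
    have hpr := (CharP.cast_eq_zero_iff F p r).1 h0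
    rcases (Nat.dvd_prime hy.rp).1 hpr with h1 | h1
    · subst h1; exact CharP.false_of_nontrivial_of_char_one (R := F)
    · subst h1
      haveI := Fact.mk hy.rp
      have h2 := (iterateFrobenius_inj F p 1 (a₁ := κ) (a₂ := 1) (by
        rw [iterateFrobenius_def, iterateFrobenius_def, pow_one, hκ.pow_eq_one, one_pow]))
      exact hκ.ne_one hy.rp.one_lt h2
  have hyr : y ^ r = 1 := by
    have h : ∀ m : ℕ, g ^ m * x * (g ^ m)⁻¹ = y ^ m * x := by
      intro m
      induction m with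
      | zero => simp
      | succ m ih =>
        have hm : g * y ^ m * g⁻¹ = y ^ m := by
          rw [(show Commute g (y ^ m) from Commute.pow_right hgy m).eq, mul_inv_cancel_right]
        calc g ^ (m + 1) * x * (g ^ (m + 1))⁻¹ = g * (g ^ m * x * (g ^ m)⁻¹) * g⁻¹ := by rw [pow_succ']; group
          _ = (g * y ^ m * g⁻¹) * (g * x * g⁻¹) := by rw [ih]; group
          _ = _ := by rw [hm, hxy, pow_succ]; group
    have h1 := h r
    rw [← hϖ, hy.ord, one_mul, inv_one, mul_one, hϖ] at h1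
    exact mul_eq_right.1 h1.symm
  -- the eigenspaces of `y`
  set E : Fin r → Submodule F V := fun j => eig y (κ⁻¹ ^ (j : ℕ)) with hE
  have hinj : Function.Injective fun j : Fin r => κ⁻¹ ^ (j : ℕ) := fun i j hij =>
    Fin.ext (hκ.inv.pow_inj i.2 j.2 hij)
  have hind : iSupIndep E := (Module.End.eigenspaces_iSupIndep (y : V →ₗ[F] V)).comp hinj
  -- decomposition of `y`-invariant subspaces
  have hdec : ∀ W : Submodule F V, (∀ v ∈ W, y v ∈ W) → W ≤ Finset.univ.sup fun j => W ⊓ E j := by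
    intro W hW v hv
    have hi : ∀ i : ℕ, (y ^ i : V ≃ₗ[F] V) v ∈ W := by
      intro i
      induction i with
      | zero => exact hv
      | succ i ih => rw [pow_succ']; exact hW _ ih
    set P : Fin r → V := fun j => ∑ i ∈ Finset.range r, (κ ^ (j : ℕ)) ^ i • (y ^ i : V ≃ₗ[F] V) v with hP
    have hPW : ∀ j, P j ∈ W ⊓ E j := by
      intro j
      refine ⟨Submodule.sum_mem _ fun i _ => W.smul_mem _ (hi i), ?_⟩
      show P j ∈ eig y (κ⁻¹ ^ (j : ℕ))
      rw [mem_eig]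
      set f : ℕ → V := fun i => (κ ^ (j : ℕ)) ^ i • (y ^ i : V ≃ₗ[F] V) v with hf
      have hzero : f r = f 0 := by
        show (κ ^ (j : ℕ)) ^ r • (y ^ r : V ≃ₗ[F] V) v = (κ ^ (j : ℕ)) ^ 0 • (y ^ 0 : V ≃ₗ[F] V) v
        rw [hyr, ← pow_mul, mul_comm, pow_mul, hκ.pow_eq_one, one_pow, pow_zero, pow_zero]
      have hshift : ∑ i ∈ Finset.range r, f (i + 1) = ∑ i ∈ Finset.range r, f i := by
        have h1 := Finset.sum_range_succ' f r
        rw [Finset.sum_range_succ, hzero, add_left_inj] at h1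
        exact h1.symm
      calc y (P j) = ∑ i ∈ Finset.range r, (κ ^ (j : ℕ)) ^ i • y ((y ^ i : V ≃ₗ[F] V) v) := by
            simp only [hP, map_sum, map_smul]
        _ = ∑ i ∈ Finset.range r, κ⁻¹ ^ (j : ℕ) • f (i + 1) := Finset.sum_congr rfl fun i _ => by
            simp only [hf]
            rw [smul_smul, pow_succ (κ ^ (j : ℕ)), ← mul_assoc, mul_comm (κ⁻¹ ^ (j : ℕ)), mul_assoc, inv_pow,
              inv_mul_cancel₀ (pow_ne_zero _ hκ0), mul_one, pow_succ' y]
            rfl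
        _ = _ := by rw [← Finset.smul_sum, hshift]
    have hsum : ∑ j, P j = (r : F) • v := by
      simp only [hP]
      rw [Finset.sum_comm, Finset.sum_eq_single 0]
      · simp [Nat.cast_smul_eq_nsmul]
      · intro i hi hi0
        rw [← Finset.sum_smul]
        have hne : κ ^ i ≠ 1 := fun h1 =>
          hi0 (Nat.eq_zero_of_dvd_of_lt ((hκ.pow_eq_one_iff_dvd i).1 h1) (Finset.mem_range.1 hi))
        have h0 : ∑ j : Fin r, (κ ^ (j : ℕ)) ^ i = 0 := by
          rw [Fin.sum_univ_eq_sum_range (fun j => (κ ^ j) ^ i), Finset.sum_congr rfl fun j _ => by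
            rw [← pow_mul, mul_comm, pow_mul], geom_sum_eq hne, ← pow_mul, mul_comm, pow_mul, hκ.pow_eq_one,
            one_pow, sub_self, zero_div]
        rw [h0, zero_smul]
      · intro h0; exact absurd (Finset.mem_range.2 hy.rp.pos) h0
    rw [← inv_smul_smul₀ hrF v, ← hsum]
    exact Submodule.smul_mem _ _ (Submodule.sum_mem _ fun j _ =>
      (Finset.le_sup (f := fun j => W ⊓ E j) (Finset.mem_univ j)) (hPW j))
  -- all eigenspaces have one dimension
  have hEq : ∀ j : Fin r, Module.finrank F (eig y 1) = Module.finrank F (E j) := by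
    have hup : ∀ (m : ℕ), Module.finrank F (eig y (κ⁻¹ ^ m)) ≤ Module.finrank F (eig y (κ⁻¹ ^ (m + 1))) := by
      intro m
      rw [← finrank_map_eq w₀ (eig y (κ⁻¹ ^ m))]
      refine Submodule.finrank_mono ?_
      rintro _ ⟨v, hv, rfl⟩
      rw [mem_eig]
      have h2 := hκv v
      rw [mem_eig.1 hv, map_smul] at h2
      have h3 := congrArg (fun u => κ⁻¹ • u) h2
      simp only [smul_smul, inv_mul_cancel₀ hκ0, one_smul] at h3
      show y (w₀ v) = _
      rw [← h3, pow_succ']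
      rfl
    have hmono : ∀ a b : ℕ, a ≤ b →
        Module.finrank F (eig y (κ⁻¹ ^ a)) ≤ Module.finrank F (eig y (κ⁻¹ ^ b)) := fun a b hab =>
      monotone_nat_of_le_succ (f := fun m => Module.finrank F (eig y (κ⁻¹ ^ m))) hup hab
    intro j
    have h1 := hmono 0 j (Nat.zero_le _)
    have h2 := hmono j r j.2.le
    rw [pow_zero] at h1
    rw [inv_pow κ r, hκ.pow_eq_one, inv_one] at h2
    exact le_antisymm h1 h2
  have hn : Module.finrank F V = r * Module.finrank F (eig y 1) := by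
    have htop : Finset.univ.sup E = (⊤ : Submodule F V) := by
      refine le_antisymm le_top ((hdec ⊤ fun v _ => trivial).trans (Finset.sup_mono_fun fun j _ => ?_))
      exact inf_le_right
    have h1 := finrank_sum_le E hind Finset.univ
    rw [htop, finrank_top, ← Finset.sum_congr rfl fun j _ => hEq j, Finset.sum_const, Finset.card_univ,
      Fintype.card_fin, smul_eq_mul] at h1
    exact h1.symm
  refine ⟨?_, ⟨_, hn⟩⟩
  set W := eig g c with hWdef
  have hW : ∀ v ∈ W, y v ∈ W := fun v hv => by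
    rw [hWdef, mem_eig]
    show (g * y) v = _
    rw [hgy, mul_apply', mem_eig.1 hv, map_smul]
  have hd : Module.finrank F W ≤ ∑ j, Module.finrank F (W ⊓ E j : Submodule F V) :=
    (Submodule.finrank_mono (hdec W hW)).trans (finrank_sup_le _ _)
  have hE0 : ∀ j : Fin r, Module.finrank F (W ⊓ E j : Submodule F V) ≤ Module.finrank F (eig y 1) :=
    fun j => (Submodule.finrank_mono inf_le_right).trans (hEq j).ge
  have hn0 : Module.finrank F V = r * Module.finrank F (eig y 1) := hn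
  by_cases hk : ⁅x, y⁆ = 1
  · -- `x` commutes with `y`
    have hxy' : x * y = y * x := commutatorElement_eq_one_iff_mul_comm.1 hk
    have hbound : ∀ j : Fin r, (j : ℕ) ≠ 0 →
        r * Module.finrank F (W ⊓ E j : Submodule F V) ≤ Module.finrank F (E j) := by
      intro j hj
      set μ := κ⁻¹ ^ (j : ℕ) with hμdef
      have hμ : IsPrimitiveRoot μ r := hκ.inv.pow_of_coprime _ (Nat.Coprime.symm
        ((hy.rp.coprime_iff_not_dvd).2 fun hd => Nat.not_lt.2 (Nat.le_of_dvd (Nat.pos_of_ne_zero hj) hd) j.2))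
      have hstep : ∀ i : ℕ, (W ⊓ E j).map ((x ^ i : V ≃ₗ[F] V) : V →ₗ[F] V) ≤ eig g (c * μ ^ i) ⊓ E j := by
        intro i
        induction i with
        | zero =>
          rintro _ ⟨v, hv, rfl⟩
          rw [pow_zero, pow_zero, mul_one]
          exact hv
        | succ i ih =>
          rintro _ ⟨v, hv, rfl⟩
          obtain ⟨h1, h2⟩ := ih ⟨v, hv, rfl⟩
          have h1' : g ((x ^ i : V ≃ₗ[F] V) v) = (c * μ ^ i) • (x ^ i : V ≃ₗ[F] V) v := mem_eig.1 h1
          have h2' : y ((x ^ i : V ≃ₗ[F] V) v) = μ • (x ^ i : V ≃ₗ[F] V) v := mem_eig.1 h2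
          have hgx : g * x = y * x * g := by rw [← hxy, inv_mul_cancel_right]
          have e : ((x ^ (i + 1) : V ≃ₗ[F] V) : V →ₗ[F] V) v = x ((x ^ i : V ≃ₗ[F] V) v) := by rw [pow_succ']; rfl
          rw [e]
          refine ⟨mem_eig.2 ?_, mem_eig.2 ?_⟩
          · show (g * x) _ = _
            rw [hgx, ← hxy', mul_apply', h1', map_smul, mul_apply', h2', map_smul, smul_smul, pow_succ,
              mul_assoc]
          · show (y * x) _ = _
            rw [← hxy', mul_apply', h2', map_smul]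
      have hinjμ : Function.Injective fun i : Fin r => c * μ ^ (i : ℕ) := fun i i' hii =>
        Fin.ext (hμ.pow_inj i.2 i'.2 (mul_left_cancel₀ hc hii))
      have hindμ : iSupIndep fun i : Fin r => eig g (c * μ ^ (i : ℕ)) ⊓ E j :=
        ((Module.End.eigenspaces_iSupIndep (g : V →ₗ[F] V)).comp hinjμ).mono fun i => inf_le_left
      calc r * Module.finrank F (W ⊓ E j : Submodule F V)
          = ∑ _i : Fin r, Module.finrank F (W ⊓ E j : Submodule F V) := by simp
        _ ≤ ∑ i : Fin r, Module.finrank F (eig g (c * μ ^ (i : ℕ)) ⊓ E j : Submodule F V) :=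
            Finset.sum_le_sum fun i _ => by
              rw [← finrank_map_eq (x ^ (i : ℕ) : V ≃ₗ[F] V) (W ⊓ E j)]
              exact Submodule.finrank_mono (hstep i)
        _ ≤ _ := by
            rw [finrank_sum_le _ hindμ]
            exact Submodule.finrank_mono (Finset.sup_le fun i _ => inf_le_right)
    let j0 : Fin r := ⟨0, hy.rp.pos⟩
    calc r * Module.finrank F W ≤ ∑ j, r * Module.finrank F (W ⊓ E j : Submodule F V) := by
          rw [← Finset.mul_sum]; exact Nat.mul_le_mul_left r hd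
      _ = r * Module.finrank F (W ⊓ E j0 : Submodule F V) +
            ∑ j ∈ Finset.univ.erase j0, r * Module.finrank F (W ⊓ E j : Submodule F V) :=
          (Finset.add_sum_erase _ _ (Finset.mem_univ j0)).symm
      _ ≤ r * Module.finrank F (eig y 1) + ∑ j ∈ Finset.univ.erase j0, Module.finrank F (E j) :=
          Nat.add_le_add (Nat.mul_le_mul_left r (hE0 j0)) (Finset.sum_le_sum fun j hj => hbound j fun h0 =>
            (Finset.mem_erase.1 hj).1 (Fin.ext h0))
      _ ≤ Module.finrank F V + Module.finrank F V := by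
          refine Nat.add_le_add hn0.ge ?_
          rw [finrank_sum_le E hind]
          exact Submodule.finrank_le _
      _ = _ := (two_mul _).symm
  · obtain rfl := hwx hk
    have hxy1 : ∀ (i : ℕ) (v : V), y ((w₀ ^ i : V ≃ₗ[F] V) v) = κ⁻¹ ^ i • (w₀ ^ i : V ≃ₗ[F] V) (y v) := by
      intro i
      induction i with
      | zero => intro v; rw [pow_zero, pow_zero, one_smul]; rfl
      | succ i ih =>
        intro v
        rw [pow_succ' w₀, mul_apply', mul_apply']
        have h2 := hκv ((w₀ ^ i : V ≃ₗ[F] V) v)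
        rw [ih, map_smul] at h2
        have h3 := congrArg (fun u => κ⁻¹ • u) h2
        simp only [smul_smul, inv_mul_cancel₀ hκ0, one_smul] at h3
        rw [← h3, pow_succ']
    have htri : ∀ i : ℕ, (i + 1) * (i + 1 + 1) / 2 = i * (i + 1) / 2 + (i + 1) := fun i => by
      obtain ⟨p, hp⟩ := (Nat.even_mul_succ_self i).two_dvd
      rw [show (i + 1) * (i + 1 + 1) = 2 * (p + (i + 1)) by rw [mul_add 2, ← hp]; ring, hp,
        Nat.mul_div_cancel_left _ two_pos, Nat.mul_div_cancel_left _ two_pos]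
    have hgx1 : ∀ (i : ℕ) (v : V), y v = v →
        g ((w₀ ^ i : V ≃ₗ[F] V) v) = κ⁻¹ ^ (i * (i + 1) / 2) • (w₀ ^ i : V ≃ₗ[F] V) (g v) := by
      intro i v hv
      induction i with
      | zero => simp
      | succ i ih =>
        have hgx : g * w₀ = y * w₀ * g := by rw [← hxy, inv_mul_cancel_right]
        have hgv : y (g v) = g v := by
          show (y * g) v = g v
          rw [← hgy, mul_apply', hv]
        rw [pow_succ' w₀, mul_apply', mul_apply']
        show (g * w₀) _ = _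
        rw [hgx, mul_apply', ih, map_smul, mul_apply']
        have h4 : y (w₀ ((w₀ ^ i : V ≃ₗ[F] V) (g v))) = κ⁻¹ ^ (i + 1) • w₀ ((w₀ ^ i : V ≃ₗ[F] V) (g v)) := by
          have h5 := hxy1 (i + 1) (g v)
          rw [hgv, pow_succ' w₀, mul_apply'] at h5
          exact h5
        rw [h4, smul_smul, ← pow_add, htri]
    set sj : Fin r → F := fun j => c * κ ^ ((j : ℕ) * ((j : ℕ) + 1) / 2) with hsj
    have hle : ∀ j : Fin r, Module.finrank F (W ⊓ E j : Submodule F V) ≤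
        Module.finrank F (eig g (sj j) ⊓ eig y 1 : Submodule F V) := by
      intro j
      rw [← finrank_map_eq (w₀ ^ (j : ℕ) : V ≃ₗ[F] V) (eig g (sj j) ⊓ eig y 1)]
      refine Submodule.finrank_mono ?_
      rintro w ⟨hw1, hw2⟩
      obtain ⟨v, rfl⟩ := (w₀ ^ (j : ℕ) : V ≃ₗ[F] V).surjective w
      have hv : y v = v := by
        have h1 := hxy1 j v
        have h1' : y ((w₀ ^ (j : ℕ) : V ≃ₗ[F] V) v) = κ⁻¹ ^ (j : ℕ) • (w₀ ^ (j : ℕ) : V ≃ₗ[F] V) v := mem_eig.1 hw2
        rw [h1'] at h1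
        exact ((w₀ ^ (j : ℕ) : V ≃ₗ[F] V).injective
          (smul_right_injective V (pow_ne_zero _ (inv_ne_zero hκ0)) h1)).symm
      refine ⟨v, ⟨mem_eig.2 ((w₀ ^ (j : ℕ) : V ≃ₗ[F] V).injective ?_), mem_eig.2 (by rw [one_smul]; exact hv)⟩, rfl⟩
      have h1 := hgx1 j v hv
      have h1' : g ((w₀ ^ (j : ℕ) : V ≃ₗ[F] V) v) = c • (w₀ ^ (j : ℕ) : V ≃ₗ[F] V) v := mem_eig.1 hw1
      rw [h1'] at h1
      have h3 := congrArg (fun u => κ ^ ((j : ℕ) * ((j : ℕ) + 1) / 2) • u) h1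
      simp only [smul_smul] at h3
      rw [inv_pow, mul_inv_cancel₀ (pow_ne_zero _ hκ0), one_smul] at h3
      rw [map_smul, ← h3]
      show _ = (c * κ ^ _) • _
      rw [mul_comm c]
    have hsum : ∑ j, Module.finrank F (eig g (sj j) ⊓ eig y 1 : Submodule F V) ≤
        2 * Module.finrank F (eig y 1) := by
      rw [Finset.sum_comp (fun b => Module.finrank F (eig g b ⊓ eig y 1 : Submodule F V)) sj]
      have hind' : iSupIndep fun b : F => eig g b ⊓ eig y 1 :=
        (Module.End.eigenspaces_iSupIndep (g : V →ₗ[F] V)).mono fun b => inf_le_left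
      calc ∑ b ∈ Finset.univ.image sj, (Finset.univ.filter fun j => sj j = b).card •
              Module.finrank F (eig g b ⊓ eig y 1 : Submodule F V)
          ≤ ∑ b ∈ Finset.univ.image sj, 2 * Module.finrank F (eig g b ⊓ eig y 1 : Submodule F V) :=
            Finset.sum_le_sum fun b _ => by
              rw [smul_eq_mul]
              exact Nat.mul_le_mul_right _ (count_two hy.rp hodd κ hκ sj
                (fun i i' hii => mul_left_cancel₀ hc hii) b)
        _ ≤ _ := by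
            rw [← Finset.mul_sum, finrank_sum_le _ hind']
            exact Nat.mul_le_mul_left 2 (Submodule.finrank_mono (Finset.sup_le fun b _ => inf_le_right))
    calc r * Module.finrank F W ≤ r * (2 * Module.finrank F (eig y 1)) :=
          Nat.mul_le_mul_left r (hd.trans ((Finset.sum_le_sum fun j _ => hle j).trans hsum))
      _ = _ := by rw [hn0]; ring

/-- For odd `ϖ`: either some `[g, x]` fails to commute with its conjugate, or there is an element `x` with
`[g, x]` non-scalar and fixed by `g` up to scalars, in which case `ϖ = r`. -/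
theorem odd_dichotomy (hw : ϖ ≠ 2) (hex : ∃ x ∈ H, ¬ IsSc (g * x * g⁻¹ * x⁻¹)) :
    (∃ x ∈ H, ⁅g * x * g⁻¹ * x⁻¹, g * (g * x * g⁻¹ * x⁻¹) * g⁻¹⁆ ≠ 1) ∨
    (ϖ = r ∧ ∃ x ∈ H, ¬ IsSc (g * x * g⁻¹ * x⁻¹) ∧
      Eqv (g * (g * x * g⁻¹ * x⁻¹) * g⁻¹) (g * x * g⁻¹ * x⁻¹)) := by
  by_contra hcon
  push Not at hcon
  obtain ⟨hiso, hnex⟩ := hcon
  set T : MulAut (V ≃ₗ[F] V) := MulAut.conj g with hTdef
  have hT : ∀ a, T a = g * a * g⁻¹ := fun a => rfl
  have hTi : ∀ a, T⁻¹ a = g⁻¹ * a * g := fun a => rfl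
  obtain ⟨D, hD⟩ : ∃ D : (V ≃ₗ[F] V) → (V ≃ₗ[F] V), ∀ a, D a = g * a * g⁻¹ * a⁻¹ := ⟨_, fun a => rfl⟩
  have hD' : ∀ a, D a = T a * a⁻¹ := fun a => by rw [hD, hT]
  have hDmem : ∀ a ∈ H, D a ∈ H := fun a ha => by rw [hD]; exact hy.D_mem ha
  have hDmul : ∀ a ∈ H, ∀ b ∈ H, Eqv (D (a * b)) (D a * D b) := fun a ha b hb => by
    rw [hD, hD, hD]; exact hy.D_mul ha hb
  simp only [← hD] at hiso hnex hex
  simp only [← hT] at hiso hnex
  have hTH : ∀ a ∈ H, T a ∈ H := fun a ha => hy.norm a ha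
  have hTiH : ∀ a ∈ H, T⁻¹ a ∈ H := fun a ha => hy.norm' a ha
  have hTT : ∀ a, T (T⁻¹ a) = a := fun a => by rw [hT, hTi]; group
  have hTpow : T ^ ϖ = 1 := by rw [hTdef, ← map_pow, hy.ord, map_one]
  have cT : ∀ a ∈ H, ∀ b ∈ H, ⁅T a, T b⁆ = ⁅a, b⁆ := fun a ha b hb => hy.comm_T ha hb
  have cinv : ∀ a ∈ H, ∀ b ∈ H, ⁅b, a⁆ = ⁅a, b⁆⁻¹ := fun a _ b _ => (commutatorElement_inv a b).symm
  have cmul' : ∀ a ∈ H, ∀ b ∈ H, ∀ e ∈ H, ⁅a, b * e⁆ = ⁅a, b⁆ * ⁅a, e⁆ := fun a ha b hb e he => by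
    rw [cinv _ (mul_mem hb he) a ha, hy.comm_mul hb he ha, mul_inv_rev, ← cinv b hb a ha, ← cinv e he a ha]
    exact (hy.comm a ha e he).1.commute _
  -- polarisation
  have hpol : ∀ a ∈ H, ∀ b ∈ H, ⁅D a, T (D b)⁆ = ⁅T (D a), D b⁆ := by
    intro a ha b hb
    have hDa := hDmem _ ha
    have hDb := hDmem _ hb
    have hTDa := hTH _ hDa
    have hTDb := hTH _ hDb
    have h1 : ⁅D (a * b), T (D (a * b))⁆ = 1 := hiso _ (mul_mem ha hb)
    have hDab := hDmul a ha b hb
    rw [hy.comm_eqv_left hDab, cinv _ (hTH _ (hDmem _ (mul_mem ha hb))) _ (mul_mem hDa hDb),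
      hT (D (a * b)), hy.comm_eqv_left (hDab.conj g), show g * (D a * D b) * g⁻¹ = T (D a) * T (D b) by
        rw [hT, hT]; group,
      inv_eq_one, hy.comm_mul hTDa hTDb (mul_mem hDa hDb), cmul' _ hTDa _ hDa _ hDb,
      cmul' _ hTDb _ hDa _ hDb] at h1
    have e1 : ⁅T (D a), D a⁆ = 1 := by rw [cinv _ hDa _ hTDa, show ⁅D a, T (D a)⁆ = 1 from hiso a ha, inv_one]
    have e2 : ⁅T (D b), D b⁆ = 1 := by rw [cinv _ hDb _ hTDb, show ⁅D b, T (D b)⁆ = 1 from hiso b hb, inv_one]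
    rw [e1, e2, one_mul, mul_one] at h1
    rw [cinv _ hTDb _ hDa, eq_inv_of_mul_eq_one_left h1]
  -- the fixed elements
  have hu : ∀ b ∈ H, Eqv (T (T (D b) * (T⁻¹ (D b))⁻¹)) (T (D b) * (T⁻¹ (D b))⁻¹) := by
    intro b hb
    have hDb := hDmem _ hb
    set u := T (D b) * (T⁻¹ (D b))⁻¹ with hudef
    have huH : u ∈ H := mul_mem (hTH _ hDb) (inv_mem (hTiH _ hDb))
    have key : ∀ a ∈ H, ⁅D a, u⁆ = 1 := by
      intro a ha
      have hDa := hDmem _ ha
      have h1 : ⁅T (D a), D b⁆ = ⁅D a, T⁻¹ (D b)⁆ := by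
        rw [← cT (D a) hDa _ (hTiH _ hDb), hTT]
      have h2 : ⁅D a, T⁻¹ (D b)⁆ * ⁅D a, (T⁻¹ (D b))⁻¹⁆ = 1 := by
        rw [← cmul' _ hDa _ (hTiH _ hDb) _ (inv_mem (hTiH _ hDb)), mul_inv_cancel, commutatorElement_one_right]
      rw [hudef, cmul' _ hDa _ (hTH _ hDb) _ (inv_mem (hTiH _ hDb)), hpol a ha b hb, h1, h2]
    have hsc : IsSc (T⁻¹ u * u⁻¹) := by
      refine hy.cen _ (mul_mem (hTiH _ huH) (inv_mem huH)) fun a ha => ?_
      refine (commutatorElement_eq_one_iff_mul_comm.1 ?_).symm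
      rw [cmul' a ha _ (hTiH _ huH) _ (inv_mem huH), ← cT a ha _ (hTiH _ huH), hTT]
      have h3 := key a ha
      rw [hD', hy.comm_mul (hTH a ha) (inv_mem ha) huH] at h3
      have h4 : ⁅a, u⁆ * ⁅a⁻¹, u⁆ = 1 := by
        rw [← hy.comm_mul ha (inv_mem ha) huH, mul_inv_cancel, commutatorElement_one_left]
      have h5 : ⁅a, u⁻¹⁆ = ⁅a⁻¹, u⁆ := by
        have h6 : ⁅a, u⁆ * ⁅a, u⁻¹⁆ = 1 := by
          rw [← cmul' a ha _ huH _ (inv_mem huH), mul_inv_cancel, commutatorElement_one_right]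
        exact mul_left_cancel (h6.trans h4.symm)
      rw [h5]; exact h3
    have h7 := (Eqv.conj (show Eqv (T⁻¹ u) u from hsc) g).symm
    rwa [← hT, ← hT, hTT] at h7
  by_cases hall : ∀ b ∈ H, IsSc (T (D b) * (T⁻¹ (D b))⁻¹)
  · have hTD : ∀ b ∈ H, Eqv (T (D b)) (D b) := by
      intro b hb
      have h2 : Eqv (T (T (D b))) (D b) := by
        have := Eqv.conj (show Eqv (T (D b)) (T⁻¹ (D b)) from hall b hb) g
        rwa [← hT, ← hT, hTT] at this
      have hev : ∀ m : ℕ, Eqv ((T ^ (2 * m)) (D b)) (D b) := by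
        intro m
        induction m with
        | zero => exact eqv_refl _
        | succ m ih =>
          have h3 := ((ih.conj g).conj g)
          rw [← hT, ← hT, ← hT, ← hT] at h3
          rw [show 2 * (m + 1) = (2 * m + 1) + 1 by ring, pow_succ', pow_succ']
          exact h3.trans h2
      obtain ⟨m, hm⟩ := (hy.wp.eq_two_or_odd'.resolve_left hw)
      have h3 := (hev m).conj g
      rw [← hT, ← hT] at h3
      rw [show T ((T ^ (2 * m)) (D b)) = (T ^ (2 * m + 1)) (D b) by rw [pow_succ']; rfl, ← hm, hTpow] at h3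
      exact h3.symm
    by_cases hwr : ϖ = r
    · obtain ⟨x, hx, hxns⟩ := hex
      exact hnex hwr x hx hxns (hTD x hx)
    · obtain ⟨x, hx, hxns⟩ := hex
      have hiter : ∀ m : ℕ, Eqv ((T ^ m) x) (D x ^ m * x) := by
        intro m
        induction m with
        | zero => rw [pow_zero, pow_zero, one_mul]; exact eqv_refl _
        | succ m ih =>
          have h1 := ih.conj g
          rw [← hT, ← hT, map_mul, map_pow] at h1
          have h2 : Eqv (T (D x) ^ m * T x) (D x ^ m * T x) := ((hTD x hx).pow m).mul (eqv_refl _)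
          have h3 : T x = D x * x := by rw [hD', inv_mul_cancel_right]
          rw [pow_succ', pow_succ, mul_assoc]
          rw [h3] at h2
          exact (h1.trans (by rw [h3]; exact h2))
      have h1 := (hiter ϖ).symm
      rw [hTpow] at h1
      have h2 : IsSc (D x ^ ϖ) := by
        have := h1
        rwa [Eqv, MulAut.one_apply, mul_inv_cancel_right] at this
      have h3 := hy.pow_r (hDmem _ hx)
      refine hxns ?_
      obtain ⟨i, j, hij⟩ : ∃ i j : ℕ, i * ϖ = j * r + 1 := by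
        obtain ⟨i, -, hi⟩ := Nat.exists_mul_mod_eq_one_of_coprime
          ((Nat.coprime_primes hy.wp hy.rp).2 hwr) hy.rp.one_lt
        exact ⟨i, ϖ * i / r, by rw [mul_comm i, mul_comm _ r]; have := Nat.div_add_mod (ϖ * i) r; omega⟩
      have h4 : IsSc (D x ^ (i * ϖ)) := by rw [mul_comm, pow_mul]; exact h2.pow i
      rw [hij, pow_succ, mul_comm j, pow_mul] at h4
      have h5 := ((h3.pow j).inv).mul h4
      rwa [← mul_assoc, inv_mul_cancel, one_mul] at h5
  · push Not at hall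
    obtain ⟨b, hb, hbns⟩ := hall
    have hDb := hDmem _ hb
    set u := T (D b) * (T⁻¹ (D b))⁻¹ with hudef
    have huH : u ∈ H := mul_mem (hTH _ hDb) (inv_mem (hTiH _ hDb))
    have hTu := hu b hb
    by_cases hwr : ϖ = r
    · -- `u` is a commutator of `g`
      set x := D b * T⁻¹ (D b) with hxdef
      have hxH : x ∈ H := mul_mem hDb (hTiH _ hDb)
      have e1 : Eqv (D x) u := by
        have h1 : Eqv (D x) (D (D b) * D (T⁻¹ (D b))) := hDmul _ hDb _ (hTiH _ hDb)
        have h2 : D (D b) * D (T⁻¹ (D b)) = u := by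
          rw [hD' (D b), hD' (T⁻¹ (D b)), hTT, hudef]; group
        rwa [h2] at h1
      exact hnex hwr x hxH (fun h => hbns (e1.symm.isSc h)) ((e1.conj g).trans (hTu.trans e1.symm))
    · -- `u ^ ϖ` is scalar
      have hev : ∀ m : ℕ, Eqv ((T ^ (2 * m)) (D b)) (u ^ m * D b) := by
        have hT2 : Eqv (T (T (D b))) (u * D b) := by
          have h1 : T (D b) = u * T⁻¹ (D b) := by rw [hudef, inv_mul_cancel_right]
          rw [h1, map_mul, hTT]
          exact hTu.mul (eqv_refl _)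
        intro m
        induction m with
        | zero => rw [mul_zero, pow_zero, pow_zero, one_mul, MulAut.one_apply]; exact eqv_refl _
        | succ m ih =>
          have h3 := (ih.conj g).conj g
          rw [← hT, ← hT, ← hT, ← hT, map_mul T (u ^ m), map_mul T (T (u ^ m)), map_pow T u, map_pow T (T u)] at h3
          rw [show 2 * (m + 1) = (2 * m + 1) + 1 by ring, pow_succ', pow_succ' T, pow_succ u, mul_assoc]
          exact h3.trans (((hTu.conj g).trans hTu).pow m |>.mul hT2)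
      have h1 := (hev ϖ).symm
      rw [show (2 * ϖ) = ϖ * 2 by ring, pow_mul, hTpow, one_pow] at h1
      have h2 : IsSc (u ^ ϖ) := by
        rwa [Eqv, MulAut.one_apply, mul_inv_cancel_right] at h1
      have h3 := hy.pow_r huH
      refine hbns ?_
      obtain ⟨i, j, hij⟩ : ∃ i j : ℕ, i * ϖ = j * r + 1 := by
        obtain ⟨i, -, hi⟩ := Nat.exists_mul_mod_eq_one_of_coprime
          ((Nat.coprime_primes hy.wp hy.rp).2 hwr) hy.rp.one_lt
        exact ⟨i, ϖ * i / r, by rw [mul_comm i, mul_comm _ r]; have := Nat.div_add_mod (ϖ * i) r; omega⟩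
      have h4 : IsSc (u ^ (i * ϖ)) := by rw [mul_comm, pow_mul]; exact h2.pow i
      rw [hij, pow_succ, mul_comm j, pow_mul] at h4
      have h5 := ((h3.pow j).inv).mul h4
      rwa [← mul_assoc, inv_mul_cancel, one_mul] at h5

/-- The eigenspace bounds. -/
theorem bounds (c : F) :
    (ϖ = 2 → 4 * Module.finrank F (eig g c) ≤ 3 * Module.finrank F V) ∧
    (ϖ = 3 → 3 * Module.finrank F (eig g c) ≤ 2 * Module.finrank F V) ∧
    (3 < ϖ → 2 * Module.finrank F (eig g c) ≤ Module.finrank F V) ∧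
    (ϖ = 3 → ¬ 3 ∣ Module.finrank F V → 2 * Module.finrank F (eig g c) ≤ Module.finrank F V) := by
  set d := Module.finrank F (eig g c) with hd
  set n := Module.finrank F V with hn
  rcases eq_or_ne c 0 with rfl | hc
  · have : eig g 0 = ⊥ := eq_bot_iff.2 fun v hv => by
      have h1 := mem_eig.1 hv
      rw [zero_smul] at h1
      exact (Submodule.mem_bot F).2 (g.injective (h1.trans (map_zero g).symm))
    have hd0 : d = 0 := by rw [hd, this, finrank_bot]
    omega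
  have hr2 : 2 ≤ r := hy.rp.two_le
  by_cases hex : ∃ x ∈ H, ¬ IsSc (g * x * g⁻¹ * x⁻¹)
  swap
  · push Not at hex
    have h1 := hy.central_case hc hex
    rw [← hd, ← hn] at h1
    have h2 : 2 * d ≤ r * d := Nat.mul_le_mul_right d hr2
    omega
  obtain ⟨x, hx, hxns⟩ := hex
  have h34 : 4 * d ≤ 3 * n := by
    have h1 := hy.half_add hc hx hxns
    obtain ⟨e, he⟩ := Nat.exists_eq_add_of_le hr2
    rw [← hd, ← hn, he] at h1
    by_contra hlt
    have h2 : (3 * n + 1) * (2 + e) ≤ 4 * d * (2 + e) := Nat.mul_le_mul_right _ (by omega)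
    have h3 : 4 * d * (2 + e) = 2 * (2 * (2 + e) * d) := by ring
    have h4 : (3 * n + 1) * (2 + e) = 2 * ((2 + e + 1) * n) + n * e + (2 + e) := by ring
    have := Nat.zero_le (n * e)
    omega
  rcases eq_or_ne ϖ 2 with hw | hw
  · omega
  have key : 2 * d ≤ n ∨ (ϖ = r ∧ r * d ≤ 2 * n ∧ r ∣ n) := by
    rcases hy.odd_dichotomy hw ⟨x, hx, hxns⟩ with ⟨a, ha, h⟩ | ⟨hwr, a, ha, hns, hfix⟩
    · exact Or.inl (hy.half_of_noncomm hc ha h)
    · have hDa := hy.D_mem ha
      set y := g * a * g⁻¹ * a⁻¹ with hydef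
      by_cases hgy : g * y = y * g
      · exact Or.inr ⟨hwr, hy.two_div hc (hwr ▸ hw) hwr ha hDa hns (by rw [hydef, inv_mul_cancel_right]) hgy⟩
      · -- `y` and `g y g⁻¹` differ by a non-trivial scalar: they have no common fixed vector
        left
        have h1 := two_mul_le a (eig g c)
        have h2 : eig g c ⊓ (eig g c).map (a : V →ₗ[F] V) = ⊥ := by
          rw [eq_bot_iff]
          intro v hv
          by_contra hv0
          rw [Submodule.mem_bot] at hv0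
          obtain ⟨e1, e2⟩ := inter_fix hv.1 hv.2 hc
          refine hgy (mul_inv_eq_iff_eq_mul.1 (mul_inv_eq_one.1 (eq_one_of_fix hfix hv0 ?_)))
          rw [mul_apply', show y⁻¹ v = v from y.symm_apply_eq.2 e1.symm, e2]
        rw [h2, finrank_bot] at h1
        omega
  refine ⟨fun h => absurd h hw, fun h3 => ?_, fun h3 => ?_, fun h3 hnd => ?_⟩
  · rcases key with k | ⟨k1, k2, -⟩
    · omega
    · rw [← k1, h3] at k2; exact k2
  · rcases key with k | ⟨k1, k2, -⟩
    · exact k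
    · have h5 : 4 * d ≤ r * d := Nat.mul_le_mul_right d (by omega)
      omega
  · rcases key with k | ⟨k1, -, k3⟩
    · exact k
    · rw [← k1, h3] at k3; exact absurd k3 hnd

end Hyp

end CfsgLib.Classical.ExtraspecialEigen
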