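import Cfsg.Agent.Lib.Classical.ExcepFrame
import Cfsg.Agent.Lib.Classical.OrthStd

/-! The Klein correspondence: four by four matrices acting on alternating matrices. -/

set_option autoImplicit false

namespace CfsgLib.Classical.Klein

open QuadraticMap CfsgLib.Geometry Matrix

variable {K : Type*} [Field K]

/-- The alternating matrix with the given entries above the diagonal. -/
def alt6 (a b c d e f : K) : Matrix (Fin 4) (Fin 4) K :=
  !![0, a, b, c; -a, 0, d, e; -b, -d, 0, f; -c, -e, -f, 0]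

/-- The Pfaffian of an alternating matrix. -/
def pf (Y : Matrix (Fin 4) (Fin 4) K) : K := Y 0 1 * Y 2 3 - Y 0 2 * Y 1 3 + Y 0 3 * Y 1 2

/-- The dual of an alternating matrix: the entries move to complementary positions. -/
def dual (Y : Matrix (Fin 4) (Fin 4) K) : Matrix (Fin 4) (Fin 4) K :=
  alt6 (Y 2 3) (-Y 1 3) (Y 1 2) (Y 0 3) (-Y 0 2) (Y 0 1)

/-- Alternating matrices. -/
def IsAltMat (Y : Matrix (Fin 4) (Fin 4) K) : Prop :=
  (∀ i, Y i i = 0) ∧ ∀ i j, Y j i = -Y i j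

theorem isAltMat_alt6 (a b c d e f : K) : IsAltMat (alt6 a b c d e f) :=
  ⟨fun i => by fin_cases i <;> simp [alt6],
    fun i j => by fin_cases i <;> fin_cases j <;> simp [alt6]⟩

theorem eq_alt6 {Y : Matrix (Fin 4) (Fin 4) K} (h : IsAltMat Y) :
    Y = alt6 (Y 0 1) (Y 0 2) (Y 0 3) (Y 1 2) (Y 1 3) (Y 2 3) := by
  ext i j
  fin_cases i <;> fin_cases j <;> simp [alt6, h.1, h.2 0 1, h.2 0 2, h.2 0 3, h.2 1 2, h.2 1 3, h.2 2 3]

theorem isAltMat_conj (g : Matrix (Fin 4) (Fin 4) K) {X : Matrix (Fin 4) (Fin 4) K}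
    (h : IsAltMat X) : IsAltMat (g * X * gᵀ) := by
  constructor
  · intro i
    rw [eq_alt6 h]
    simp [alt6, Matrix.mul_apply, Fin.sum_univ_four]
    ring
  · intro i j
    have hX : Xᵀ = -X := by ext i j; exact h.2 i j
    have e : (g * X * gᵀ)ᵀ = -(g * X * gᵀ) := by
      rw [Matrix.transpose_mul, Matrix.transpose_mul, Matrix.transpose_transpose, hX,
        Matrix.neg_mul, Matrix.mul_neg, Matrix.mul_assoc]
    exact congrFun (congrFun e i) j

theorem det_four (g : Matrix (Fin 4) (Fin 4) K) : g.det =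
    g 0 0 * (g 1 1 * (g 2 2 * g 3 3 - g 2 3 * g 3 2) - g 1 2 * (g 2 1 * g 3 3 - g 2 3 * g 3 1)
        + g 1 3 * (g 2 1 * g 3 2 - g 2 2 * g 3 1))
      - g 0 1 * (g 1 0 * (g 2 2 * g 3 3 - g 2 3 * g 3 2) - g 1 2 * (g 2 0 * g 3 3 - g 2 3 * g 3 0)
        + g 1 3 * (g 2 0 * g 3 2 - g 2 2 * g 3 0))
      + g 0 2 * (g 1 0 * (g 2 1 * g 3 3 - g 2 3 * g 3 1) - g 1 1 * (g 2 0 * g 3 3 - g 2 3 * g 3 0)
        + g 1 3 * (g 2 0 * g 3 1 - g 2 1 * g 3 0))
      - g 0 3 * (g 1 0 * (g 2 1 * g 3 2 - g 2 2 * g 3 1) - g 1 1 * (g 2 0 * g 3 2 - g 2 2 * g 3 0)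
        + g 1 2 * (g 2 0 * g 3 1 - g 2 1 * g 3 0)) := by
  simp [Matrix.det_succ_row_zero, Fin.sum_univ_succ, Matrix.det_fin_three, Fin.succAbove]
  ring

set_option maxHeartbeats 1000000 in
theorem pf_conj (g : Matrix (Fin 4) (Fin 4) K) {X : Matrix (Fin 4) (Fin 4) K} (h : IsAltMat X) :
    pf (g * X * gᵀ) = g.det * pf X := by
  rw [eq_alt6 h, det_four]
  simp [pf, alt6, Matrix.mul_apply, Fin.sum_univ_four]
  ring

set_option maxHeartbeats 4000000 in
theorem dual_conj (g : Matrix (Fin 4) (Fin 4) K) {X : Matrix (Fin 4) (Fin 4) K} (h : IsAltMat X) :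
    gᵀ * dual (g * X * gᵀ) * g = g.det • dual X := by
  have hl : IsAltMat (gᵀ * dual (g * X * gᵀ) * g) := by
    have := isAltMat_conj gᵀ (X := dual (g * X * gᵀ)) (isAltMat_alt6 _ _ _ _ _ _)
    rwa [Matrix.transpose_transpose] at this
  rw [eq_alt6 hl, eq_alt6 h, det_four]
  ext i j
  fin_cases i <;> fin_cases j <;>
    simp [dual, alt6, Matrix.mul_apply, Fin.sum_univ_four] <;> ring

theorem scalar_of_fix (g : Matrix (Fin 4) (Fin 4) K)
    (hfix : ∀ X, IsAltMat X → g * X * gᵀ = X) :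
    ∃ r : K, r * r = 1 ∧ g = Matrix.diagonal fun _ => r := by
  have key : ∀ i j k l, i ≠ j → g k i * g l j - g k j * g l i =
      (Matrix.single i j (1 : K) - Matrix.single j i 1 : Matrix (Fin 4) (Fin 4) K) k l := by
    intro i j k l hij
    have hX : IsAltMat (Matrix.single i j (1 : K) - Matrix.single j i 1) :=
      ⟨fun x => by simp [Matrix.single_apply, and_comm], fun x y => by
        simp [Matrix.single_apply, and_comm]⟩
    have := congrFun (congrFun (hfix _ hX) k) l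
    rw [← this]
    have h1 : ∀ x y, (g * Matrix.single x y (1 : K) * gᵀ) k l = g k x * g l y := fun x y => by
      rw [Matrix.mul_apply, Finset.sum_eq_single y]
      · simp
      · intro m _ hm; simp [hm]
      · simp
    rw [Matrix.mul_sub, Matrix.sub_mul, Matrix.sub_apply, h1, h1]
  have hunit : ∀ i j, i ≠ j → g i i * g j j - g i j * g j i = 1 := fun i j hij => by
    rw [key i j i j hij]; simp [Matrix.single_apply, hij]
  have hoff : ∀ k i, k ≠ i → g k i = 0 := by
    intro k i hki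
    obtain ⟨j, hji, hjk⟩ : ∃ j : Fin 4, j ≠ i ∧ j ≠ k := by
      revert k i; decide
    have e1 := key i j k j hji.symm
    have e2 := hunit i j hji.symm
    have e3 := key i j k i hji.symm
    simp [Matrix.single_apply, hki.symm, hji, hjk, hjk.symm, hji.symm] at e1 e3
    linear_combination g i i * e1 - g k i * e2 - g j i * e3
  have hd : ∀ i j, i ≠ j → g i i * g j j = 1 := fun i j hij => by
    linear_combination hunit i j hij + g j i * hoff i j hij
  have hne : ∀ i, g i i ≠ 0 := fun i h => by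
    obtain ⟨j, hj⟩ := exists_ne i
    simpa [h] using hd i j hj.symm
  have heq : ∀ i j, g i i = g j j := fun i j => by
    rcases eq_or_ne i j with rfl | hij
    · rfl
    obtain ⟨l, hli, hlj⟩ : ∃ l : Fin 4, l ≠ i ∧ l ≠ j := by
      revert i j; decide
    exact mul_right_cancel₀ (hne l) ((hd i l hli.symm).trans (hd j l hlj.symm).symm)
  refine ⟨g 0 0, by simpa [heq 1 0] using hd 0 1 (by decide), ?_⟩
  ext i j
  rcases eq_or_ne i j with rfl | h
  · simp [heq i 0]
  · simp [hoff i j h, h]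

/-- A group of scalar `±1` matrices has at most `gcd(2, q-1)` elements. -/
theorem card_le_gcd_two [Finite K] {ι : Type*} (i₀ : ι) {G : Type*} [Group G]
    (ρ : G → Matrix ι ι K) (hρ : Function.Injective ρ) [DecidableEq ι] (N : Subgroup G)
    (hN : ∀ g ∈ N, ∃ r : K, r * r = 1 ∧ ρ g = Matrix.diagonal fun _ => r) :
    Nat.card N ≤ Nat.gcd 2 (Nat.card K - 1) := by
  rw [Nat.gcd_comm, ← card_rootsOfUnity_field]
  have hval : ∀ g : N, ρ g.1 i₀ i₀ ^ 2 = 1 := fun g => by
    obtain ⟨r, hr, hm⟩ := hN g.1 g.2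
    simp only [hm, Matrix.diagonal_apply_eq]
    linear_combination hr
  refine Nat.card_le_card_of_injective
    (fun g : N => rootsOfUnity.mkOfPowEq (ρ g.1 i₀ i₀) (hval g)) fun g h hgh => ?_
  have e : ρ g.1 i₀ i₀ = ρ h.1 i₀ i₀ := congrArg (fun x : rootsOfUnity 2 K => ((x : Kˣ) : K)) hgh
  obtain ⟨r, -, hr⟩ := hN g.1 g.2
  obtain ⟨s, -, hs⟩ := hN h.1 h.2
  simp [hr, hs] at e
  exact Subtype.ext (hρ (by rw [hr, hs, e]))

variable (F : Type*) [Field F] [Algebra F K]

/-- The action `X ↦ g X gᵀ`. -/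
def altAct (g : Matrix (Fin 4) (Fin 4) K) :
    Matrix (Fin 4) (Fin 4) K →ₗ[F] Matrix (Fin 4) (Fin 4) K where
  toFun X := g * X * gᵀ
  map_add' X Y := by rw [Matrix.mul_add, Matrix.add_mul]
  map_smul' c X := by rw [Matrix.mul_smul, Matrix.smul_mul]; rfl

@[simp]
theorem altAct_apply (g X : Matrix (Fin 4) (Fin 4) K) : altAct F g X = g * X * gᵀ := rfl

theorem altAct_one : altAct F (1 : Matrix (Fin 4) (Fin 4) K) = LinearMap.id :=
  LinearMap.ext fun X => by simp

theorem altAct_mul (g h : Matrix (Fin 4) (Fin 4) K) :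
    altAct F (g * h) = (altAct F g).comp (altAct F h) :=
  LinearMap.ext fun X => by simp [Matrix.transpose_mul, Matrix.mul_assoc]

end CfsgLib.Classical.Klein
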