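import Cfsg.Agent.Lib.Classical.SympBasic
import Cfsg.Prelude.Def_Classical

/-!
`O_{2m+1}(q) ≅ Sp_{2m}(q)` in characteristic 2.
-/

set_option autoImplicit false

namespace CfsgLib.Classical

open Matrix

variable {F : Type*} [Field F] [CharP F 2] {m : ℕ}

theorem sq_inj_char_two {a b : F} (h : a ^ 2 = b ^ 2) : a = b := by
  have : (a - b) ^ 2 = 0 := by
    rw [sub_sq, ← h]
    linear_combination a * (a - b) * CharTwo.two_eq_zero (R := F)
  exact sub_eq_zero.1 (pow_eq_zero_iff (by norm_num) |>.1 this)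

theorem quadFormPlus_add_char_two (u w : Fin m ⊕ Fin m → F) :
    Cfsg.quadFormPlus m F (u + w) =
      Cfsg.quadFormPlus m F u + Cfsg.quadFormPlus m F w + sbil u w := by
  simp only [Cfsg.quadFormPlus, sbil_apply, ← Finset.sum_add_distrib]
  refine Finset.sum_congr rfl fun i _ => ?_
  simp only [Pi.add_apply, CharTwo.sub_eq_add]
  ring

theorem quadFormPlus_smul (c : F) (u : Fin m ⊕ Fin m → F) :
    Cfsg.quadFormPlus m F (c • u) = c ^ 2 * Cfsg.quadFormPlus m F u := by
  simp only [Cfsg.quadFormPlus, Finset.mul_sum]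
  exact Finset.sum_congr rfl fun i _ => by simp; ring

omit [CharP F 2] in
theorem quadFormOdd_elim (v : Unit ⊕ (Fin m ⊕ Fin m) → F) :
    Cfsg.quadFormOdd m F v = v (.inl ()) ^ 2 + Cfsg.quadFormPlus m F (v ∘ Sum.inr) := rfl

theorem quadFormOdd_add_char_two (u w : Unit ⊕ (Fin m ⊕ Fin m) → F) :
    Cfsg.quadFormOdd m F (u + w) = Cfsg.quadFormOdd m F u + Cfsg.quadFormOdd m F w +
      sbil (u ∘ Sum.inr) (w ∘ Sum.inr) := by
  rw [quadFormOdd_elim, quadFormOdd_elim, quadFormOdd_elim,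
    show (u + w) ∘ Sum.inr = u ∘ Sum.inr + w ∘ Sum.inr from rfl, quadFormPlus_add_char_two,
    Pi.add_apply, CharTwo.add_sq]
  ring

section

variable (g : Cfsg.isometryGroup F (Cfsg.quadFormOdd m F))

local notation "V" => Unit ⊕ (Fin m ⊕ Fin m) → F

theorem odd_isometry_apply (v : V) :
    Cfsg.quadFormOdd m F (g.1.1 *ᵥ v) = Cfsg.quadFormOdd m F v := g.2 v v

theorem odd_isometry_sbil (u w : V) :
    sbil ((g.1.1 *ᵥ u) ∘ Sum.inr) ((g.1.1 *ᵥ w) ∘ Sum.inr) = sbil (u ∘ Sum.inr) (w ∘ Sum.inr) := by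
  have h := quadFormOdd_add_char_two (g.1.1 *ᵥ u) (g.1.1 *ᵥ w)
  rw [← mulVec_add, odd_isometry_apply, odd_isometry_apply, odd_isometry_apply,
    quadFormOdd_add_char_two] at h
  exact (add_left_cancel h).symm

theorem odd_isometry_e0 :
    g.1.1 *ᵥ Pi.single (Sum.inl ()) 1 = Pi.single (Sum.inl ()) 1 := by
  set e := g.1.1 *ᵥ Pi.single (Sum.inl ()) (1 : F) with he
  have h0 : (Pi.single (Sum.inl ()) (1 : F) : V) ∘ Sum.inr = 0 := by
    funext i; simp
  have h1 : e ∘ Sum.inr = 0 := by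
    refine sbil_ext fun x => ?_
    have h := odd_isometry_sbil g (Pi.single (Sum.inl ()) 1)
      ((g⁻¹).1.1 *ᵥ Sum.elim 0 x)
    rw [mulVec_mulVec, show g.1.1 * (g⁻¹).1.1 = 1 from g.1.mul_inv, one_mulVec, h0,
      sbil_zero_left] at h
    rw [sbil_zero_left]
    exact h
  have h2 := odd_isometry_apply g (Pi.single (Sum.inl ()) 1)
  rw [← he, quadFormOdd_elim, quadFormOdd_elim, h1, h0] at h2
  simp only [add_left_inj, Pi.single_eq_same] at h2
  funext i
  rcases i with ⟨⟩ | i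
  · simpa using sq_inj_char_two h2
  · simpa using congrFun h1 i

theorem odd_isometry_block₂₁ : g.1.1.toBlocks₂₁ = 0 := by
  ext i j
  simpa [mulVec_single, toBlocks₂₁] using congrFun (odd_isometry_e0 g) (Sum.inr i)

theorem odd_isometry_elim (w : Fin m ⊕ Fin m → F) :
    (g.1.1 *ᵥ Sum.elim 0 w) ∘ Sum.inr = g.1.1.toBlocks₂₂ *ᵥ w := by
  funext i
  simp [mulVec, dotProduct, Fintype.sum_sum_type, toBlocks₂₂]

theorem odd_isometry_block₂₂_mem : g.1.1.toBlocks₂₂ ∈ Matrix.symplecticGroup (Fin m) F := by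
  rw [mem_symplecticGroup_iff_sbil]
  intro u v
  rw [← odd_isometry_elim, ← odd_isometry_elim, odd_isometry_sbil]
  rfl

end

theorem oddIsometry_equiv_symplectic [Finite F] :
    Nonempty (Cfsg.isometryGroup F (Cfsg.quadFormOdd m F) ≃* Matrix.symplecticGroup (Fin m) F) := by
  classical
  let Φ : Cfsg.isometryGroup F (Cfsg.quadFormOdd m F) →* Matrix.symplecticGroup (Fin m) F :=
    { toFun := fun g => ⟨g.1.1.toBlocks₂₂, odd_isometry_block₂₂_mem g⟩
      map_one' := Subtype.ext (by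
        show (1 : Matrix (Unit ⊕ (Fin m ⊕ Fin m)) (Unit ⊕ (Fin m ⊕ Fin m)) F).toBlocks₂₂ = 1
        rw [← fromBlocks_one, toBlocks_fromBlocks₂₂])
      map_mul' := fun g h => Subtype.ext (by
        show (g.1.1 * h.1.1).toBlocks₂₂ = g.1.1.toBlocks₂₂ * h.1.1.toBlocks₂₂
        conv_lhs => rw [← fromBlocks_toBlocks g.1.1, ← fromBlocks_toBlocks h.1.1,
          fromBlocks_multiply, toBlocks_fromBlocks₂₂, odd_isometry_block₂₁ g]
        simp) }
  refine ⟨MulEquiv.ofBijective Φ ⟨?_, ?_⟩⟩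
  · refine (injective_iff_map_eq_one Φ).2 fun g hg => ?_
    have hA : g.1.1.toBlocks₂₂ = 1 := congrArg Subtype.val hg
    refine Subtype.ext (Units.ext (Matrix.ext_of_mulVec_single fun i => ?_))
    show g.1.1 *ᵥ Pi.single i 1 = (1 : Matrix _ _ F) *ᵥ Pi.single i 1
    rw [one_mulVec]
    rcases i with ⟨⟩ | i
    · exact odd_isometry_e0 g
    · have hs : (Pi.single (Sum.inr i) 1 : Unit ⊕ (Fin m ⊕ Fin m) → F) =
          Sum.elim (0 : Unit → F) (Pi.single i 1) := by
        funext j; rcases j with j | j <;> simp [Pi.single_apply]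
      have hw := odd_isometry_elim g (Pi.single i 1)
      rw [hA, one_mulVec, ← hs] at hw
      have h2 := odd_isometry_apply g (Pi.single (Sum.inr i) 1)
      rw [quadFormOdd_elim, quadFormOdd_elim, hw] at h2
      have h3 : (Pi.single (Sum.inr i) 1 : Unit ⊕ (Fin m ⊕ Fin m) → F) ∘ Sum.inr = Pi.single i 1 := by
        rw [hs]; rfl
      rw [h3] at h2
      simp at h2
      funext j
      rcases j with ⟨⟩ | j
      · simpa using h2
      · simpa [Pi.single_apply] using congrFun hw j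
  · intro A
    let D : (Fin m ⊕ Fin m → F) → F :=
      fun w => Cfsg.quadFormPlus m F w + Cfsg.quadFormPlus m F (A.1 *ᵥ w)
    have hsq : ∀ a : F, ∃ b, b ^ 2 = a := by
      refine (Finite.injective_iff_surjective (f := fun b : F => b ^ 2)).1 ?_
      exact fun a b h => sq_inj_char_two h
    choose sq hsq using hsq
    let s : Fin m ⊕ Fin m → F := fun i => sq (D (Pi.single i 1))
    have hDadd : ∀ u w, D (u + w) = D u + D w := fun u w => by
      simp only [D, mulVec_add, quadFormPlus_add_char_two, sbil_mulVec]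
      linear_combination sbil u w * CharTwo.two_eq_zero (R := F)
    have hDsmul : ∀ (c : F) u, D (c • u) = c ^ 2 * D u := fun c u => by
      simp only [D, mulVec_smul, quadFormPlus_smul]; ring
    let Dh : (Fin m ⊕ Fin m → F) →+ F := AddMonoidHom.mk' D hDadd
    have hD : ∀ w, D w = (s ⬝ᵥ w) ^ 2 := fun w => by
      have hw : w = ∑ i, w i • (Pi.single i 1 : Fin m ⊕ Fin m → F) := by
        simp [← Pi.single_smul', Finset.univ_sum_single]
      calc D w = Dh (∑ i, w i • (Pi.single i 1 : Fin m ⊕ Fin m → F)) := congrArg D hw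
        _ = ∑ i, w i ^ 2 * D (Pi.single i 1) := by
          rw [map_sum]; exact Finset.sum_congr rfl fun i _ => hDsmul _ _
        _ = (s ⬝ᵥ w) ^ 2 := by
          rw [dotProduct, CharTwo.sum_sq]
          exact Finset.sum_congr rfl fun i _ => by rw [mul_pow, hsq]; ring
    let M : Matrix (Unit ⊕ (Fin m ⊕ Fin m)) (Unit ⊕ (Fin m ⊕ Fin m)) F :=
      fromBlocks 1 (Matrix.replicateRow Unit s) 0 A.1
    have hdet : M.det ≠ 0 := by
      rw [det_fromBlocks_zero₂₁, det_one, one_mul]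
      exact (SymplecticGroup.symplectic_det A.2).ne_zero
    refine ⟨⟨GeneralLinearGroup.mkOfDetNeZero M hdet, ?_⟩,
      Subtype.ext (toBlocks_fromBlocks₂₂ _ _ _ _)⟩
    intro v _
    show Cfsg.quadFormOdd m F (M *ᵥ v) = Cfsg.quadFormOdd m F v
    have hinr : (M *ᵥ v) ∘ Sum.inr = A.1 *ᵥ (v ∘ Sum.inr) := by
      funext i; simp [M, fromBlocks_mulVec]
    have hinl : (M *ᵥ v) (Sum.inl ()) = v (Sum.inl ()) + s ⬝ᵥ (v ∘ Sum.inr) := by
      simp [M, fromBlocks_mulVec, mulVec, dotProduct, replicateRow]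
    rw [quadFormOdd_elim, quadFormOdd_elim, hinr, hinl, CharTwo.add_sq, ← hD]
    simp only [D]
    linear_combination Cfsg.quadFormPlus m F (A.1 *ᵥ (v ∘ Sum.inr)) * CharTwo.two_eq_zero (R := F)

end CfsgLib.Classical
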