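import Cfsg.Agent.Lib.Classical.Klein
import Cfsg.Agent.Lib.Classical.SympSimple
import Cfsg.Agent.Lib.Classical.SympOrder

/-! `PΩ₅(q) ≅ PSp₄(q)` through the Klein correspondence. -/

set_option autoImplicit false

namespace CfsgLib.Classical

open QuadraticMap CfsgLib.Geometry Matrix Klein

variable {F : Type*} [Field F]

/-- An element of `Sp₄` as a matrix indexed by `Fin 4`. -/
def sp4Mat (g : Matrix.symplecticGroup (Fin 2) F) : Matrix (Fin 4) (Fin 4) F :=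
  Matrix.reindexAlgEquiv F F finSumFinEquiv g.1

theorem sp4Mat_injective : Function.Injective (sp4Mat (F := F)) := fun _ _ h =>
  Subtype.ext ((Matrix.reindexAlgEquiv F F finSumFinEquiv).injective h)

theorem sp4Mat_det (g : Matrix.symplecticGroup (Fin 2) F) : (sp4Mat g).det = 1 :=
  (Matrix.det_reindexAlgEquiv F F finSumFinEquiv g.1).trans (SymplecticGroup.det_eq_one g.2)

theorem sp4_J : Matrix.reindexAlgEquiv F F finSumFinEquiv (Matrix.J (Fin 2) F) =
    alt6 0 (-1) 0 0 (-1) 0 := by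
  ext i j
  fin_cases i <;> fin_cases j <;> simp [Matrix.J, alt6, finSumFinEquiv, Fin.addCases]

theorem sp4Mat_J (g : Matrix.symplecticGroup (Fin 2) F) :
    sp4Mat g * alt6 0 (-1) 0 0 (-1) 0 * (sp4Mat g)ᵀ = alt6 0 (-1) 0 0 (-1) 0 ∧
      (sp4Mat g)ᵀ * alt6 0 (-1) 0 0 (-1) 0 * sp4Mat g = alt6 0 (-1) 0 0 (-1) 0 := by
  have ht : (sp4Mat g)ᵀ = Matrix.reindexAlgEquiv F F finSumFinEquiv g.1ᵀ := rfl
  refine ⟨?_, ?_⟩
  · rw [ht, ← sp4_J, sp4Mat, ← map_mul, ← map_mul, SymplecticGroup.mem_iff.1 g.2]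
  · rw [ht, ← sp4_J, sp4Mat, ← map_mul, ← map_mul]
    have := SymplecticGroup.mem_iff.1 (SymplecticGroup.transpose_mem g.2)
    rw [Matrix.transpose_transpose] at this
    rw [this]

/-- Alternating matrices orthogonal to the symplectic form, as the space of `x₀² + x₁y₁ + x₂y₂`. -/
def sp4Emb (F : Type*) [Field F] :
    (Unit ⊕ (Fin 2 ⊕ Fin 2) → F) →ₗ[F] Matrix (Fin 4) (Fin 4) F where
  toFun v := alt6 (v (.inr (.inl 0))) (v (.inl ())) (v (.inr (.inl 1))) (v (.inr (.inr 1)))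
    (-v (.inl ())) (v (.inr (.inr 0)))
  map_add' u v := by ext i j; fin_cases i <;> fin_cases j <;> simp [alt6] <;> ring
  map_smul' c v := by ext i j; fin_cases i <;> fin_cases j <;> simp [alt6]

theorem sp4Emb_alt (v : Unit ⊕ (Fin 2 ⊕ Fin 2) → F) : IsAltMat (sp4Emb F v) := isAltMat_alt6 ..

theorem sp4_trace {Y : Matrix (Fin 4) (Fin 4) F} (h : IsAltMat Y) :
    (alt6 0 (-1) 0 0 (-1) 0 * Y).trace = 2 * (Y 0 2 + Y 1 3) := by
  simp [Matrix.trace, alt6, Fin.sum_univ_four, h.2 0 2, h.2 1 3, Matrix.vecMul, dotProduct]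
  ring

theorem sp4_surjective {Y : Matrix (Fin 4) (Fin 4) F} (h : IsAltMat Y) (h0 : Y 0 2 + Y 1 3 = 0) :
    ∃ v, sp4Emb F v = Y :=
  ⟨Sum.elim (fun _ => Y 0 2) (Sum.elim ![Y 0 1, Y 0 3] ![Y 2 3, Y 1 2]), by
    conv_rhs => rw [eq_alt6 h, eq_neg_of_add_eq_zero_right h0]
    simp [sp4Emb]⟩

theorem pf_sp4Emb (v : Unit ⊕ (Fin 2 ⊕ Fin 2) → F) :
    pf (sp4Emb F v) = matQuad (oddMat 2 F) v := by
  rw [coe_matQuad_odd]
  simp [pf, sp4Emb, alt6, Cfsg.quadFormOdd, Fin.sum_univ_two]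
  ring

theorem nondeg_odd_two (h2 : (2 : F) ≠ 0) : (polarBilin (matQuad (oddMat 2 F))).Nondegenerate :=
  nondegenerate_matQuad (by rw [det_odd_gram]; simp [h2])

theorem sp4_embeddedAct (h2 : (2 : F) ≠ 0) :
    EmbeddedAct (matQuad (oddMat 2 F)) (sp4Emb F)
      (fun g : Matrix.symplecticGroup (Fin 2) F => altAct F (sp4Mat g)) where
  inj := injective_of_factor (nondeg_odd_two h2) _ pf pf_sp4Emb
  map_one := by
    show altAct F ((Matrix.reindexAlgEquiv F F finSumFinEquiv (1 : Matrix (Fin 2 ⊕ Fin 2) (Fin 2 ⊕ Fin 2) F) :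
      Matrix (Fin 4) (Fin 4) F)) = _
    rw [map_one, altAct_one]
  map_mul g h := by
    show altAct F (Matrix.reindexAlgEquiv F F finSumFinEquiv (g.1 * h.1)) = _
    rw [map_mul, altAct_mul]
    rfl
  stable g v := sp4_surjective (isAltMat_conj _ (sp4Emb_alt v)) <| by
    refine (mul_eq_zero.1 ?_).resolve_left h2
    show 2 * ((sp4Mat g * sp4Emb F v * (sp4Mat g)ᵀ) 0 2 +
      (sp4Mat g * sp4Emb F v * (sp4Mat g)ᵀ) 1 3) = 0
    rw [← sp4_trace (isAltMat_conj _ (sp4Emb_alt v)), ← Matrix.mul_assoc,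
      Matrix.trace_mul_comm, ← Matrix.mul_assoc, ← Matrix.mul_assoc, (sp4Mat_J g).2,
      sp4_trace (sp4Emb_alt v)]
    simp [sp4Emb, alt6]
  isom g v w h := by
    rw [← pf_sp4Emb, ← pf_sp4Emb, h, altAct_apply, pf_conj _ (sp4Emb_alt v), sp4Mat_det, one_mul]

theorem sp4_ker (h2 : (2 : F) ≠ 0) {g : Matrix.symplecticGroup (Fin 2) F}
    (hg : g ∈ (sp4_embeddedAct h2).toOrth.ker) :
    ∃ r : F, r * r = 1 ∧ sp4Mat g = Matrix.diagonal fun _ => r := by
  rw [EmbeddedAct.mem_ker] at hg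
  refine scalar_of_fix _ fun X hX => ?_
  set c := -(X 0 2 + X 1 3) / 2 with hc
  have hW : IsAltMat (X - c • alt6 0 (-1) 0 0 (-1) 0) :=
    ⟨fun i => by simp [hX.1, (isAltMat_alt6 (0 : F) (-1) 0 0 (-1) 0).1],
      fun i j => by simp [hX.2 i j, (isAltMat_alt6 (0 : F) (-1) 0 0 (-1) 0).2 i j]; ring⟩
  obtain ⟨v, hv⟩ := sp4_surjective hW (by simp [alt6, hc]; field_simp; ring)
  have h1 := hg v
  rw [hv, altAct_apply, Matrix.mul_sub, Matrix.sub_mul, Matrix.mul_smul, Matrix.smul_mul,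
    (sp4Mat_J g).1] at h1
  exact sub_left_inj.1 h1

theorem sp4_ker_le (h2 : (2 : F) ≠ 0) :
    (sp4_embeddedAct h2).toOrth.ker ≤ Subgroup.center (Matrix.symplecticGroup (Fin 2) F) := by
  intro g hg
  obtain ⟨r, hr, hm⟩ := sp4_ker h2 hg
  refine mem_center_sp_iff.2 ?_
  have e : g.1 = Matrix.diagonal fun _ => r :=
    (Matrix.reindexAlgEquiv F F finSumFinEquiv).injective <| by
      rw [show Matrix.reindexAlgEquiv F F finSumFinEquiv g.1 = sp4Mat g from rfl, hm]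
      ext i j; simp [Matrix.diagonal_apply]
  rcases mul_self_eq_one_iff.1 hr with rfl | rfl
  · exact Or.inl (e.trans Matrix.diagonal_one)
  · exact Or.inr (e.trans (by ext i j; by_cases h : i = j <;> simp [h]))

theorem pOmega_five_equiv [Finite F] (hodd : Odd (Nat.card F)) :
    Nonempty (Cfsg.POmega F (Cfsg.quadFormOdd 2 F) ≃* Cfsg.PSp 2 F) := by
  have h2 : (2 : F) ≠ 0 := two_ne_zero_of_odd_card hodd
  have hQ := nondeg_odd_two h2
  have hR := reflGroup_eq_orth_of_two_ne hQ h2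
  have h3 : 3 ≤ Nat.card F := by
    obtain ⟨k, hk⟩ := hodd
    have : 1 < Nat.card F := Finite.one_lt_card
    omega
  have hp : commutator (Matrix.symplecticGroup (Fin 2) F) = ⊤ :=
    sp_commutator_eq_top' (Or.inr (Or.inl ⟨by simp, h3⟩))
  have : IsSimpleGroup (Matrix.symplecticGroup (Fin 2) F ⧸
      Subgroup.center (Matrix.symplecticGroup (Fin 2) F)) := isSimpleGroup_psp (by simp) hp
  rw [← coe_matQuad_odd]
  refine pOmega_equiv_of_hom (sp4_embeddedAct h2).toOrth (QuotientGroup.mk' _)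
    (QuotientGroup.mk'_surjective _) (center_quotient_eq_bot hp _)
    (by rw [QuotientGroup.ker_mk']; exact sp4_ker_le h2) (by rw [QuotientGroup.ker_mk'])
    (range_le_commutator_of_perfect _ hp) (c := Nat.gcd 2 (Nat.card F - 1))
    (card_le_gcd_two 0 sp4Mat sp4Mat_injective _ fun g hg => sp4_ker h2 hg) ?_
  rw [card_orth_eq, coe_matQuad_odd, card_isometry_odd h2 2, card_symplecticGroup,
    index_commutator_orth hQ (by simp) hR]
  simp
  exact le_of_eq (by ring)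

end CfsgLib.Classical
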