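import Cfsg.Agent.Lib.Classical.ExcepFrame
import Cfsg.Agent.Lib.Classical.OrthStd

/-! `PΩ⁺₄(q) ≅ PSL₂(q) × PSL₂(q)` through the action on two by two matrices. -/

set_option autoImplicit false

namespace CfsgLib.Classical

open QuadraticMap CfsgLib.Geometry Matrix

variable {F : Type*} [Field F]

/-- Two by two matrices as the space of the form `x₀y₀ + x₁y₁`. -/
def twoByTwoEmb (F : Type*) [Field F] : (Fin 2 ⊕ Fin 2 → F) →ₗ[F] Matrix (Fin 2) (Fin 2) F where
  toFun v := !![v (.inl 0), -v (.inl 1); v (.inr 1), v (.inr 0)]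
  map_add' u v := by ext i j; fin_cases i <;> fin_cases j <;> simp; ring
  map_smul' c v := by ext i j; fin_cases i <;> fin_cases j <;> simp

/-- The action `X ↦ g X h⁻¹` of a pair in `SL₂`. -/
def sl2Pair (g : Matrix.SpecialLinearGroup (Fin 2) F × Matrix.SpecialLinearGroup (Fin 2) F) :
    Matrix (Fin 2) (Fin 2) F →ₗ[F] Matrix (Fin 2) (Fin 2) F where
  toFun X := g.1.1 * X * g.2⁻¹.1
  map_add' X Y := by rw [Matrix.mul_add, Matrix.add_mul]
  map_smul' c X := by rw [Matrix.mul_smul, Matrix.smul_mul]; rfl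

theorem sl2Pair_apply (g : Matrix.SpecialLinearGroup (Fin 2) F × Matrix.SpecialLinearGroup (Fin 2) F)
    (X : Matrix (Fin 2) (Fin 2) F) : sl2Pair g X = g.1.1 * X * g.2⁻¹.1 := rfl

theorem twoByTwo_surjective : Function.Surjective (twoByTwoEmb F) := fun X =>
  ⟨Sum.elim ![X 0 0, -X 0 1] ![X 1 1, X 1 0], by
    ext i j; fin_cases i <;> fin_cases j <;> simp [twoByTwoEmb]⟩

theorem twoByTwo_embeddedAct : EmbeddedAct (matQuad (plusMat 2 F)) (twoByTwoEmb F) sl2Pair where
  inj u v h := by
    have e : ∀ i j, twoByTwoEmb F u i j = twoByTwoEmb F v i j := fun i j => by rw [h]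
    funext x
    rcases x with x | x <;> fin_cases x
    · simpa [twoByTwoEmb] using e 0 0
    · simpa [twoByTwoEmb] using e 0 1
    · simpa [twoByTwoEmb] using e 1 1
    · simpa [twoByTwoEmb] using e 1 0
  map_one := LinearMap.ext fun X => by simp [sl2Pair_apply]
  map_mul g h := LinearMap.ext fun X => by
    simp only [sl2Pair_apply, LinearMap.comp_apply, Prod.fst_mul, Prod.snd_mul,
      _root_.mul_inv_rev, Matrix.SpecialLinearGroup.coe_mul, Matrix.mul_assoc]
  stable g v := twoByTwo_surjective _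
  isom g v w h := by
    have hD : ∀ v, (twoByTwoEmb F v).det = matQuad (plusMat 2 F) v := fun v => by
      rw [coe_matQuad_plus]
      simp [twoByTwoEmb, Matrix.det_fin_two, Cfsg.quadFormPlus, Fin.sum_univ_two]
    rw [← hD, ← hD, h, sl2Pair_apply, Matrix.det_mul, Matrix.det_mul, g.1.2, (g.2⁻¹).2, one_mul,
      mul_one]

theorem twoByTwo_ker {g : Matrix.SpecialLinearGroup (Fin 2) F × Matrix.SpecialLinearGroup (Fin 2) F}
    (hg : g ∈ (twoByTwo_embeddedAct (F := F)).toOrth.ker) :
    g.2 = g.1 ∧ g.1 ∈ Subgroup.center (Matrix.SpecialLinearGroup (Fin 2) F) := by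
  rw [EmbeddedAct.mem_ker] at hg
  have hX : ∀ X : Matrix (Fin 2) (Fin 2) F, g.1.1 * X * g.2⁻¹.1 = X := fun X => by
    obtain ⟨v, rfl⟩ := twoByTwo_surjective X
    exact hg v
  have h12 : g.2 = g.1 := by
    have h := hX 1
    rw [Matrix.mul_one, ← Matrix.SpecialLinearGroup.coe_mul] at h
    have h' : g.1 * g.2⁻¹ = 1 := Subtype.ext h
    exact (mul_inv_eq_one.1 h').symm
  refine ⟨h12, ?_⟩
  have key : ∀ h : Matrix.SpecialLinearGroup (Fin 2) F, g.1 * h = h * g.1 := fun h => by
    have h' := hX h.1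
    rw [h12, ← Matrix.SpecialLinearGroup.coe_mul, ← Matrix.SpecialLinearGroup.coe_mul] at h'
    have h'' : g.1 * h * g.1⁻¹ = h := Subtype.ext h'
    exact mul_inv_eq_iff_eq_mul.1 h''
  exact Subgroup.mem_center_iff.2 fun h => (key h).symm

theorem pOmega_four_plus_equiv [Finite F] (hF : 3 ≤ Nat.card F) :
    Nonempty (Cfsg.POmega F (Cfsg.quadFormPlus 2 F) ≃*
      Matrix.ProjectiveSpecialLinearGroup (Fin 2) F ×
        Matrix.ProjectiveSpecialLinearGroup (Fin 2) F) := by
  have hQ : (polarBilin (matQuad (plusMat 2 F))).Nondegenerate :=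
    nondegenerate_matQuad (by rw [det_plus_gram]; simp)
  have := Fintype.ofFinite F
  have hR : reflGroup (matQuad (plusMat 2 F)) = orth (matQuad (plusMat 2 F)) := by
    refine reflGroup_eq_orth hQ (Or.inr ?_)
    by_contra hne
    push Not at hne
    have : ∀ a : F, a = 0 ∨ a = 1 := fun a => or_iff_not_imp_left.2 (hne a)
    classical
    have hle : Fintype.card F ≤ ({0, 1} : Finset F).card :=
      Finset.card_le_card (fun a _ => by simpa using this a)
    have := ((Finset.card_insert_le (0 : F) {1}))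
    rw [Nat.card_eq_fintype_card] at hF
    simp at this hle
    omega
  set π := (QuotientGroup.mk' (Subgroup.center (Matrix.SpecialLinearGroup (Fin 2) F))).prodMap
    (QuotientGroup.mk' (Subgroup.center (Matrix.SpecialLinearGroup (Fin 2) F))) with hπ
  have hπker : π.ker = (Subgroup.center (Matrix.SpecialLinearGroup (Fin 2) F)).prod
      (Subgroup.center (Matrix.SpecialLinearGroup (Fin 2) F)) := by
    rw [hπ, MonoidHom.ker_prodMap, QuotientGroup.ker_mk']
  have hker : (twoByTwo_embeddedAct (F := F)).toOrth.ker ≤ π.ker := fun g hg => by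
    obtain ⟨h, hc⟩ := twoByTwo_ker hg
    rw [hπker]
    exact ⟨hc, h ▸ hc⟩
  have hcardker : Nat.card (twoByTwo_embeddedAct (F := F)).toOrth.ker ≤
      Nat.gcd 2 (Nat.card F - 1) := by
    rw [← card_center_SL_fin (F := F) 2 (by norm_num)]
    refine Nat.card_le_card_of_injective (fun g => ⟨g.1.1, (twoByTwo_ker g.2).2⟩) fun a b h => ?_
    have h' : a.1.1 = b.1.1 := congrArg Subtype.val h
    exact Subtype.ext (Prod.ext h' (by rw [(twoByTwo_ker a.2).1, (twoByTwo_ker b.2).1, h']))
  have hcenter : Subgroup.center (Matrix.ProjectiveSpecialLinearGroup (Fin 2) F ×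
      Matrix.ProjectiveSpecialLinearGroup (Fin 2) F) = ⊥ := by
    rw [Subgroup.center_prod, center_PSL_two_eq_bot, Subgroup.bot_prod_bot]
  have hπc : π.ker ≤ Subgroup.center _ := by rw [hπker, Subgroup.center_prod]
  have hπs : Function.Surjective π :=
    (QuotientGroup.mk'_surjective _).prodMap (QuotientGroup.mk'_surjective _)
  have hO : Nat.card (orth (matQuad (plusMat 2 F))) =
      2 * (Nat.card F * (Nat.card F ^ 2 - 1)) * (Nat.card F * (Nat.card F ^ 2 - 1)) := by
    rw [card_orth_eq, coe_matQuad_plus, card_isometry_plus (F := F) 1]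
    simp
    ring
  rw [← coe_matQuad_plus]
  refine pOmega_equiv_of_hom (twoByTwo_embeddedAct (F := F)).toOrth π hπs hcenter hker hπc
    ?_ hcardker ?_
  · rcases Nat.even_or_odd (Nat.card F) with he | ho
    · refine range_le_commutator_of_perfect _ ?_
      have h4 : 4 ≤ Nat.card F := by obtain ⟨k, hk⟩ := he; omega
      have hp : commutator (Matrix.SpecialLinearGroup (Fin 2) F) = ⊤ :=
        SL_fin_commutator_eq_top 2 le_rfl fun _ => h4
      rw [commutator_def] at hp ⊢
      rw [← Subgroup.top_prod_top, Subgroup.commutator_prod_prod, hp]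
    · have h2 : (2 : F) ≠ 0 := two_ne_zero_of_odd_card ho
      have hi := index_commutator_orth_odd hQ (by simp) h2 hR
      have h1 := sl_range_le_commutator ((twoByTwo_embeddedAct (F := F)).toOrth.comp
        (MonoidHom.inl _ _)) (k := 2) (hi ▸ dvd_rfl) ho
      have h3 := sl_range_le_commutator ((twoByTwo_embeddedAct (F := F)).toOrth.comp
        (MonoidHom.inr _ _)) (k := 2) (hi ▸ dvd_rfl) ho
      rintro _ ⟨g, rfl⟩
      rw [← Prod.fst_mul_snd g, map_mul]
      exact mul_mem (h1 ⟨g.1, rfl⟩) (h3 ⟨g.2, rfl⟩)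
  · rw [hO, Nat.card_prod, card_SL_two]
    rcases Nat.even_or_odd (Nat.card F) with he | ho
    · have : CharP F 2 := by
        rw [Nat.card_eq_fintype_card] at he
        exact ringChar.of_eq (FiniteField.even_card_iff_char_two.2 (Nat.even_iff.1 he))
      rw [gcd_two_card_sub_one_of_even he, index_commutator_orth_even hQ (by simp) hR]
      exact le_of_eq (by ring)
    · rw [gcd_two_card_sub_one_of_odd ho,
        index_commutator_orth_odd hQ (by simp) (two_ne_zero_of_odd_card ho) hR]
      exact le_of_eq (by ring)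

end CfsgLib.Classical
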