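import Cfsg.Agent.Lib.Classical.Klein
import Cfsg.Agent.Lib.Classical.QuadExt
import Cfsg.Agent.Lib.Classical.UnitarySimple

/-! `PΩ⁻₆(q) ≅ PSU₄(q)` through the Klein correspondence and a semilinear involution. -/

set_option autoImplicit false

namespace CfsgLib.Classical

open QuadraticMap CfsgLib.Geometry Matrix Klein Unitary

variable {F K : Type*} [Field F] [Field K] [Algebra F K] {σ : K →+* K} {t : K} {a b : F}

/-- Two different elements of norm `-1`. -/
structure NormPair (σ : K →+* K) (e e' : K) : Prop where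
  ne1 : e * σ e = -1
  ne2 : e' * σ e' = -1
  ne : e' - e ≠ 0
  cne : 1 + e * σ e' ≠ 0

theorem exists_normPair [Finite K] {q : ℕ} (hK : Nat.card K = q ^ 2) (hσ : UFrob σ q) :
    ∃ e e' : K, NormPair σ e e' := by
  obtain ⟨p, hp⟩ := CharP.exists K
  have hq : ((-1 : K)) ^ q = -1 := by rw [← hσ.pow, map_neg, map_one]
  obtain ⟨e, he⟩ := exists_pow_succ_eq hK hq
  obtain ⟨x, hx, hx2⟩ := exists_normOne_sq_ne_one hK
  have he1 : e * σ e = -1 := by rw [hσ.pow, ← pow_succ', he]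
  have hx1 : x * σ x = 1 := by rw [hσ.pow, ← pow_succ', hx]
  have he0 : e ≠ 0 := fun h => by simp [h] at he1
  refine ⟨e, e * x, he1, by rw [map_mul]; linear_combination (x * σ x) * he1 - hx1, ?_, ?_⟩
  · intro h
    have : x = 1 := mul_left_cancel₀ he0 (by linear_combination h)
    exact hx2 (by rw [this, one_pow])
  · intro h
    rw [map_mul] at h
    have h1 : σ x = 1 := by linear_combination σ x * he1 - h
    rw [h1, mul_one] at hx1
    exact hx2 (by rw [hx1, one_pow])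

/-- The `x`-part of the coordinates. -/
def uS (t : K) (v : (Fin 2 ⊕ Fin 2) ⊕ Fin 2 → F) : K :=
  algebraMap F K (v (.inl (.inl 0))) + algebraMap F K (v (.inl (.inl 1))) * t

/-- The element with traces `y₀`, `y₁` against `1`, `t`. -/
def uU (σ : K →+* K) (t : K) (v : (Fin 2 ⊕ Fin 2) ⊕ Fin 2 → F) : K :=
  (t - σ t)⁻¹ * (algebraMap F K (v (.inl (.inr 1))) - σ t * algebraMap F K (v (.inl (.inr 0))))

/-- The `y`-part of the coordinates. -/
def uR (σ : K →+* K) (t e e' : K) (v : (Fin 2 ⊕ Fin 2) ⊕ Fin 2 → F) : K :=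
  σ ((1 + e * σ e')⁻¹ * uU σ t v)

/-- The binary part of the coordinates. -/
def uZ (t : K) (v : (Fin 2 ⊕ Fin 2) ⊕ Fin 2 → F) : K :=
  algebraMap F K (v (.inr 0)) + algebraMap F K (v (.inr 1)) * t

/-- The three coordinates above the diagonal in the first row. -/
def uW (σ : K →+* K) (t e e' : K) (v : (Fin 2 ⊕ Fin 2) ⊕ Fin 2 → F) : Fin 3 → K :=
  ![uS t v + uR σ t e e' v, e * uS t v + e' * uR σ t e e' v, uZ t v]

/-- Alternating matrices fixed by the semilinear involution. -/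
def unitEmb (h : QuadExt F K σ t a b) (e e' : K) :
    ((Fin 2 ⊕ Fin 2) ⊕ Fin 2 → F) →ₗ[F] Matrix (Fin 4) (Fin 4) K where
  toFun v := alt6 (uW σ t e e' v 0) (uW σ t e e' v 1) (uW σ t e e' v 2) (σ (uW σ t e e' v 2))
    (-σ (uW σ t e e' v 1)) (σ (uW σ t e e' v 0))
  map_add' u v := by
    ext i j
    fin_cases i <;> fin_cases j <;>
      simp [alt6, uW, uS, uR, uU, uZ, h.map, h.invol] <;> ring
  map_smul' c v := by
    ext i j
    fin_cases i <;> fin_cases j <;>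
      simp [alt6, uW, uS, uR, uU, uZ, h.map, h.invol, Algebra.smul_def] <;> ring

theorem unitEmb_apply (h : QuadExt F K σ t a b) (e e' : K) (v : (Fin 2 ⊕ Fin 2) ⊕ Fin 2 → F) :
    unitEmb h e e' v = alt6 (uW σ t e e' v 0) (uW σ t e e' v 1) (uW σ t e e' v 2)
      (σ (uW σ t e e' v 2)) (-σ (uW σ t e e' v 1)) (σ (uW σ t e e' v 0)) := rfl

theorem unitEmb_alt (h : QuadExt F K σ t a b) (e e' : K) (v : (Fin 2 ⊕ Fin 2) ⊕ Fin 2 → F) :
    IsAltMat (unitEmb h e e' v) := isAltMat_alt6 ..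

/-- Alternating and fixed by the semilinear involution. -/
def IsFixedAlt (σ : K →+* K) (Y : Matrix (Fin 4) (Fin 4) K) : Prop :=
  IsAltMat Y ∧ σ (Y 0 1) = Y 2 3 ∧ σ (Y 0 2) = -Y 1 3 ∧ σ (Y 0 3) = Y 1 2

theorem isFixedAlt_unitEmb (h : QuadExt F K σ t a b) (e e' : K)
    (v : (Fin 2 ⊕ Fin 2) ⊕ Fin 2 → F) : IsFixedAlt σ (unitEmb h e e' v) :=
  ⟨isAltMat_alt6 .., by simp [unitEmb_apply, alt6], by simp [unitEmb_apply, alt6],
    by simp [unitEmb_apply, alt6]⟩

theorem unitEmb_surjective (h : QuadExt F K σ t a b) {e e' : K} (hn : NormPair σ e e')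
    {Y : Matrix (Fin 4) (Fin 4) K} (hY : IsFixedAlt σ Y) : ∃ v, unitEmb h e e' v = Y := by
  obtain ⟨halt, h1, h2, h3⟩ := hY
  set r := (Y 0 2 - e * Y 0 1) / (e' - e) with hr
  obtain ⟨x₀, x₁, hx⟩ := h.basis (Y 0 1 - r)
  set u := (1 + e * σ e') * σ r with hu
  obtain ⟨y₀, hy₀⟩ := h.fix (u + σ u) (by rw [map_add, h.invol]; ring)
  obtain ⟨y₁, hy₁⟩ := h.fix (t * u + σ (t * u)) (by rw [map_add, h.invol]; ring)
  obtain ⟨z₀, z₁, hz⟩ := h.basis (Y 0 3)
  have hd : t - σ t ≠ 0 := fun hd => h.tne (by linear_combination -hd)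
  have hU : uU σ t (Sum.elim (Sum.elim ![x₀, x₁] ![y₀, y₁]) ![z₀, z₁]) = u := by
    simp [uU, hy₀, hy₁]
    rw [inv_mul_eq_iff_eq_mul₀ hd]
    ring
  have hR : uR σ t e e' (Sum.elim (Sum.elim ![x₀, x₁] ![y₀, y₁]) ![z₀, z₁]) = r := by
    rw [uR, hU, hu, inv_mul_cancel_left₀ hn.cne, h.invol]
  have hS : uS t (Sum.elim (Sum.elim ![x₀, x₁] ![y₀, y₁]) ![z₀, z₁]) = Y 0 1 - r := by
    simp [uS, hx]
  have hZ : uZ t (Sum.elim (Sum.elim ![x₀, x₁] ![y₀, y₁]) ![z₀, z₁]) = Y 0 3 := by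
    simp [uZ, hz]
  have hr' : r * (e' - e) = Y 0 2 - e * Y 0 1 := div_mul_cancel₀ _ hn.ne
  refine ⟨Sum.elim (Sum.elim ![x₀, x₁] ![y₀, y₁]) ![z₀, z₁], ?_⟩
  conv_rhs => rw [eq_alt6 halt, ← h1, ← h3, show Y 1 3 = -σ (Y 0 2) by rw [h2, neg_neg]]
  have hw : e * (Y 0 1 - r) + e' * r = Y 0 2 := by linear_combination hr'
  simp [unitEmb_apply, uW, hR, hS, hZ, hw]

theorem pf_unitEmb (h : QuadExt F K σ t a b) {e e' : K} (hn : NormPair σ e e')
    (v : (Fin 2 ⊕ Fin 2) ⊕ Fin 2 → F) :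
    pf (unitEmb h e e' v) = algebraMap F K (matQuad (minusMat 2 F a b) v) := by
  rw [coe_matQuad_minus]
  have hd : t - σ t ≠ 0 := fun hd => h.tne (by linear_combination -hd)
  have hd' : σ t - σ (σ t) ≠ 0 := by rw [h.invol]; exact h.tne
  have hc : (1 + e * σ e') * σ (uR σ t e e' v) = uU σ t v := by
    rw [uR, h.invol, mul_inv_cancel_left₀ hn.cne]
  have hc' : (1 + σ e * e') * uR σ t e e' v = σ (uU σ t v) := by
    have := congrArg σ hc
    simpa [h.invol] using this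
  have hU : (t - σ t) * uU σ t v = algebraMap F K (v (.inl (.inr 1))) -
      σ t * algebraMap F K (v (.inl (.inr 0))) := by
    rw [uU, mul_inv_cancel_left₀ hd]
  have hU' : (σ t - t) * σ (uU σ t v) = algebraMap F K (v (.inl (.inr 1))) -
      t * algebraMap F K (v (.inl (.inr 0))) := by
    have := congrArg σ hU
    simpa [h.invol, h.map] using this
  have hy₀ : uU σ t v + σ (uU σ t v) = algebraMap F K (v (.inl (.inr 0))) :=
    mul_left_cancel₀ hd (by linear_combination hU - hU')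
  have hy₁ : t * uU σ t v + σ t * σ (uU σ t v) = algebraMap F K (v (.inl (.inr 1))) :=
    mul_left_cancel₀ hd (by linear_combination t * hU - σ t * hU')
  have hsR : σ (uS t v) = algebraMap F K (v (.inl (.inl 0))) +
      algebraMap F K (v (.inl (.inl 1))) * σ t := by simp [uS, h.map]
  have hsZ : σ (uZ t v) = algebraMap F K (v (.inr 0)) +
      algebraMap F K (v (.inr 1)) * σ t := by simp [uZ, h.map]
  have hS : uS t v * uU σ t v + σ (uS t v) * σ (uU σ t v) =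
      algebraMap F K (v (.inl (.inl 0)) * v (.inl (.inr 0)) +
        v (.inl (.inl 1)) * v (.inl (.inr 1))) := by
    rw [hsR, uS, map_add, map_mul, map_mul]
    linear_combination algebraMap F K (v (.inl (.inl 0))) * hy₀ +
      algebraMap F K (v (.inl (.inl 1))) * hy₁
  have hZ : uZ t v * σ (uZ t v) = algebraMap F K (v (.inr 0) ^ 2 + a * v (.inr 0) * v (.inr 1) +
      b * v (.inr 1) ^ 2) := by
    rw [hsZ, uZ]
    simp only [map_add, map_mul, map_pow]
    rw [← h.tsum, ← h.tprod]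
    ring
  simp only [Cfsg.quadFormMinus, Fin.sum_univ_two]
  rw [map_add, ← hS, ← hZ]
  simp [pf, unitEmb_apply, alt6, uW]
  linear_combination uS t v * hc + σ (uS t v) * hc' + (uS t v * σ (uS t v)) * hn.ne1 +
    (uR σ t e e' v * σ (uR σ t e e' v)) * hn.ne2

theorem nondeg_minus_two [Finite F] (hab : ∀ z₁ z₂ : F, z₁ ^ 2 + a * z₁ * z₂ + b * z₂ ^ 2 = 0 →
    z₁ = 0 ∧ z₂ = 0) : (polarBilin (matQuad (minusMat 2 F a b))).Nondegenerate :=
  nondegenerate_matQuad (by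
    rw [det_minus_gram]
    exact mul_ne_zero (by simp) (binAniso_discr hab).1)

theorem su4_transpose_mul {q : ℕ} (hσ : UFrob σ q) (hq : q ≠ 0) (g : Cfsg.SU 4 K q) :
    g.1.1ᵀ * g.1.1.map σ = 1 := by
  ext i j
  have h := mem_SU_iff.1 g.2 (Pi.single i 1) (Pi.single j 1)
  simp only [Cfsg.hermForm, ← hσ.pow, Matrix.mulVec_single_one, Matrix.col_apply] at h
  rw [Matrix.mul_apply]
  refine h.trans ?_
  rcases eq_or_ne i j with rfl | hij
  · rw [Finset.sum_eq_single i (fun l _ hl => by simp [hl]) (by simp)]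
    simp
  · rw [Matrix.one_apply_ne hij]
    refine Finset.sum_eq_zero fun l _ => ?_
    rcases eq_or_ne l i with rfl | hl
    · simp [hij]
    · simp [hl]

theorem unitEmb_stable {q : ℕ} (hσ : UFrob σ q) (hq : q ≠ 0) (g : Cfsg.SU 4 K q)
    {X : Matrix (Fin 4) (Fin 4) K} (hX : IsFixedAlt σ X) :
    IsFixedAlt σ (g.1.1 * X * g.1.1ᵀ) := by
  obtain ⟨halt, h1, h2, h3⟩ := hX
  have hXd : dual X = X.map σ := by
    have hY : IsAltMat (X.map σ) :=
      ⟨fun i => by simp [halt.1 i], fun i j => by simp [halt.2 i j]⟩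
    rw [eq_alt6 hY]
    simp [dual, h1, h3, h2, show σ (X 1 2) = X 0 3 by rw [← h3, hσ.invol],
      show σ (X 1 3) = -X 0 2 by rw [show X 1 3 = -σ (X 0 2) by rw [h2, neg_neg], map_neg, hσ.invol],
      show σ (X 2 3) = X 0 1 by rw [← h1, hσ.invol]]
  have hd := dual_conj g.1.1 halt
  rw [g.1.2, one_smul, hXd] at hd
  have e1 : g.1.1.map σ * g.1.1ᵀ = 1 := mul_eq_one_comm.1 (su4_transpose_mul hσ hq g)
  have e2 : g.1.1 * (g.1.1.map σ)ᵀ = 1 := by
    rw [← Matrix.transpose_transpose g.1.1, ← Matrix.transpose_mul, Matrix.transpose_transpose,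
      e1, Matrix.transpose_one]
  have hmain : dual (g.1.1 * X * g.1.1ᵀ) = (g.1.1 * X * g.1.1ᵀ).map σ := by
    calc dual (g.1.1 * X * g.1.1ᵀ)
        = (g.1.1.map σ * g.1.1ᵀ) * dual (g.1.1 * X * g.1.1ᵀ) * (g.1.1 * (g.1.1.map σ)ᵀ) := by
          rw [e1, e2, Matrix.one_mul, Matrix.mul_one]
      _ = g.1.1.map σ * (g.1.1ᵀ * dual (g.1.1 * X * g.1.1ᵀ) * g.1.1) * (g.1.1.map σ)ᵀ := by
          simp only [Matrix.mul_assoc]
      _ = (g.1.1 * X * g.1.1ᵀ).map σ := by
          rw [hd, Matrix.map_mul, Matrix.map_mul, Matrix.transpose_map]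
  refine ⟨isAltMat_conj _ halt, ?_, ?_, ?_⟩
  · simpa [dual, alt6] using (congrFun (congrFun hmain 0) 1).symm
  · simpa [dual, alt6] using (congrFun (congrFun hmain 0) 2).symm
  · simpa [dual, alt6] using (congrFun (congrFun hmain 0) 3).symm

theorem su4_embeddedAct [Finite F] (h : QuadExt F K σ t a b) {q : ℕ} (hσ : UFrob σ q) (hq : q ≠ 0)
    {e e' : K} (hn : NormPair σ e e')
    (hab : ∀ z₁ z₂ : F, z₁ ^ 2 + a * z₁ * z₂ + b * z₂ ^ 2 = 0 → z₁ = 0 ∧ z₂ = 0) :
    EmbeddedAct (matQuad (minusMat 2 F a b)) (unitEmb h e e')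
      (fun g : Cfsg.SU 4 K q => altAct F g.1.1) where
  inj := injective_of_factor (nondeg_minus_two hab) _
    (fun X => Function.invFun (algebraMap F K) (pf X)) fun v => by
      rw [pf_unitEmb h hn]
      exact Function.leftInverse_invFun (algebraMap F K).injective _
  map_one := altAct_one F
  map_mul g k := altAct_mul F g.1.1 k.1.1
  stable g v := unitEmb_surjective h hn (unitEmb_stable hσ hq g (isFixedAlt_unitEmb h e e' v))
  isom g v w hw := by
    apply (algebraMap F K).injective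
    rw [← pf_unitEmb h hn, ← pf_unitEmb h hn, hw, altAct_apply, pf_conj _ (unitEmb_alt h e e' v),
      g.1.2, one_mul]

theorem su4_ker [Finite F] (h : QuadExt F K σ t a b) {q : ℕ} (hσ : UFrob σ q) (hq : q ≠ 0)
    {e e' : K} (hn : NormPair σ e e')
    (hab : ∀ z₁ z₂ : F, z₁ ^ 2 + a * z₁ * z₂ + b * z₂ ^ 2 = 0 → z₁ = 0 ∧ z₂ = 0)
    {g : Cfsg.SU 4 K q} (hg : g ∈ (su4_embeddedAct h hσ hq hn hab).toOrth.ker) :
    ∃ r : K, r * r = 1 ∧ g.1.1 = Matrix.diagonal fun _ => r := by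
  rw [EmbeddedAct.mem_ker] at hg
  have hfix : ∀ X, IsFixedAlt σ X → g.1.1 * X * g.1.1ᵀ = X := fun X hX => by
    obtain ⟨v, rfl⟩ := unitEmb_surjective h hn hX
    exact hg v
  refine scalar_of_fix _ fun X hX => ?_
  let τ : Matrix (Fin 4) (Fin 4) K := (dual X).map σ
  have hτ : IsAltMat τ := ⟨fun i => by simp [τ, dual, (isAltMat_alt6 (X 2 3) (-X 1 3) (X 1 2) (X 0 3)
      (-X 0 2) (X 0 1)).1], fun i j => by
      simp [τ, dual, (isAltMat_alt6 (X 2 3) (-X 1 3) (X 1 2) (X 0 3) (-X 0 2) (X 0 1)).2 i j]⟩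
  have hA : ∀ c : K, IsFixedAlt σ (c • X + σ c • τ) := fun c => by
    refine ⟨⟨fun i => by simp [hX.1 i, hτ.1 i], fun i j => by simp [hX.2 i j, hτ.2 i j]; ring⟩,
      ?_, ?_, ?_⟩ <;> simp [τ, dual, alt6, h.invol] <;> ring
  have e1 := hfix _ (hA 1)
  have e2 := hfix _ (hA t)
  have hsplit : X = (σ t - t)⁻¹ • (σ t • ((1 : K) • X + σ 1 • τ) - (t • X + σ t • τ)) := by
    rw [eq_inv_smul_iff₀ h.tne, map_one, one_smul, one_smul]
    module
  conv_lhs => rw [hsplit]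
  rw [Matrix.mul_smul, Matrix.smul_mul, Matrix.mul_sub, Matrix.sub_mul, Matrix.mul_smul,
    Matrix.smul_mul, e1, e2, ← hsplit]

theorem pOmega_six_minus_equiv [Finite F] [Finite K] {q : ℕ} (hF : Nat.card F = q)
    (hK : Nat.card K = q ^ 2)
    (hab : ∀ z₁ z₂ : F, z₁ ^ 2 + a * z₁ * z₂ + b * z₂ ^ 2 = 0 → z₁ = 0 ∧ z₂ = 0)
    (h : QuadExt F K σ t a b) (hσ : UFrob σ q) :
    Nonempty (Cfsg.POmega F (Cfsg.quadFormMinus 2 F a b) ≃* Cfsg.PSU 4 K q) := by
  have hq : 2 ≤ q := two_le_q hK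
  obtain ⟨e, e', hn⟩ := exists_normPair hK hσ
  have hQ := nondeg_minus_two hab
  have hR := reflGroup_eq_orth hQ (Or.inl (by simp))
  have hp : commutator (Cfsg.SU 4 K q) = ⊤ :=
    su_commutator_eq_top hK hσ (by norm_num) (by norm_num)
  have : IsSimpleGroup (Cfsg.SU 4 K q ⧸ Subgroup.center (Cfsg.SU 4 K q)) :=
    isSimpleGroup_PSU hK (by norm_num) (by norm_num)
  have hgcd : Nat.gcd 2 (Nat.card K - 1) = Nat.gcd 2 (Nat.card F - 1) := by
    rcases Nat.even_or_odd (Nat.card F) with he | ho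
    · rw [gcd_two_card_sub_one_of_even he, gcd_two_card_sub_one_of_even]
      rw [hK, ← hF]; exact he.pow_of_ne_zero two_ne_zero
    · rw [gcd_two_card_sub_one_of_odd ho, gcd_two_card_sub_one_of_odd]
      rw [hK, ← hF]; exact ho.pow
  have hker : (su4_embeddedAct h hσ (by omega) hn hab).toOrth.ker ≤
      Subgroup.center (Cfsg.SU 4 K q) := fun g hg => by
    obtain ⟨r, -, hm⟩ := su4_ker h hσ (by omega) hn hab hg
    refine Subgroup.mem_center_iff.2 fun k => Subtype.ext (Subtype.ext ?_)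
    show k.1.1 * g.1.1 = g.1.1 * k.1.1
    rw [hm]
    exact (Matrix.scalar_commute r (fun r' => Commute.all r r') k.1.1).symm.eq
  rw [← coe_matQuad_minus]
  refine pOmega_equiv_of_hom (su4_embeddedAct h hσ (by omega) hn hab).toOrth (QuotientGroup.mk' _)
    (QuotientGroup.mk'_surjective _) (center_quotient_eq_bot hp _)
    (by rw [QuotientGroup.ker_mk']; exact hker) (by rw [QuotientGroup.ker_mk'])
    (range_le_commutator_of_perfect _ hp) (c := Nat.gcd 2 (Nat.card F - 1)) ?_ ?_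
  · rw [← hgcd]
    exact card_le_gcd_two 0 (fun g : Cfsg.SU 4 K q => g.1.1)
      (fun g k hgk => Subtype.ext (Subtype.ext hgk)) _
      fun g hg => su4_ker h hσ (by omega) hn hab hg
  · have hS := card_SU_mul (q := q) (n := 4) hK (by norm_num)
    rw [card_GU hK] at hS
    simp [Finset.prod_range_succ] at hS
    rw [if_neg (by decide : ¬ Even 3)] at hS
    have hS' : Nat.card (Cfsg.SU 4 K q) =
        q ^ 6 * (q ^ 2 - 1) * (q ^ 3 + 1) * (q ^ 4 - 1) :=
      Nat.eq_of_mul_eq_mul_left (show 0 < q + 1 by omega) (by rw [hS]; ring)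
    rw [card_orth_eq, coe_matQuad_minus, card_isometry_minus 2 hab,
      index_commutator_orth hQ (by simp) hR, hS', hF]
    simp [Finset.prod_range_succ]
    exact le_of_eq (by ring)

end CfsgLib.Classical
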