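import Cfsg.Agent.Lib.Classical.Klein

/-! `PΩ⁺₆(q) ≅ PSL₄(q)` through the Klein correspondence. -/

set_option autoImplicit false

namespace CfsgLib.Classical

open QuadraticMap CfsgLib.Geometry Matrix Klein

variable {F : Type*} [Field F]

/-- Alternating matrices as the space of the form `x₀y₀ + x₁y₁ + x₂y₂`. -/
def kleinEmb (F : Type*) [Field F] : (Fin 3 ⊕ Fin 3 → F) →ₗ[F] Matrix (Fin 4) (Fin 4) F where
  toFun v := alt6 (v (.inl 0)) (v (.inl 1)) (v (.inl 2)) (v (.inr 2)) (-v (.inr 1)) (v (.inr 0))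
  map_add' u v := by ext i j; fin_cases i <;> fin_cases j <;> simp [alt6] <;> ring
  map_smul' c v := by ext i j; fin_cases i <;> fin_cases j <;> simp [alt6]

theorem kleinEmb_alt (v : Fin 3 ⊕ Fin 3 → F) : IsAltMat (kleinEmb F v) := isAltMat_alt6 ..

theorem klein_surjective {Y : Matrix (Fin 4) (Fin 4) F} (h : IsAltMat Y) : ∃ v, kleinEmb F v = Y :=
  ⟨Sum.elim ![Y 0 1, Y 0 2, Y 0 3] ![Y 2 3, -Y 1 3, Y 1 2], by
    conv_rhs => rw [eq_alt6 h]
    simp [kleinEmb]⟩

theorem pf_kleinEmb (v : Fin 3 ⊕ Fin 3 → F) :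
    pf (kleinEmb F v) = matQuad (plusMat 3 F) v := by
  rw [coe_matQuad_plus]
  simp [pf, kleinEmb, alt6, Cfsg.quadFormPlus, Fin.sum_univ_three]

theorem nondeg_plus_three : (polarBilin (matQuad (plusMat 3 F))).Nondegenerate :=
  nondegenerate_matQuad (by rw [det_plus_gram]; simp)

theorem klein_embeddedAct :
    EmbeddedAct (matQuad (plusMat 3 F)) (kleinEmb F)
      (fun g : Matrix.SpecialLinearGroup (Fin 4) F => altAct F g.1) where
  inj := injective_of_factor nondeg_plus_three _ pf pf_kleinEmb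
  map_one := altAct_one F
  map_mul g h := altAct_mul F g.1 h.1
  stable g v := klein_surjective (isAltMat_conj g.1 (kleinEmb_alt v))
  isom g v w h := by
    rw [← pf_kleinEmb, ← pf_kleinEmb, h, altAct_apply, pf_conj _ (kleinEmb_alt v), g.2, one_mul]

theorem klein_ker {g : Matrix.SpecialLinearGroup (Fin 4) F}
    (hg : g ∈ (klein_embeddedAct (F := F)).toOrth.ker) :
    ∃ r : F, r * r = 1 ∧ g.1 = Matrix.diagonal fun _ => r := by
  rw [EmbeddedAct.mem_ker] at hg
  refine scalar_of_fix g.1 fun X hX => ?_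
  obtain ⟨v, rfl⟩ := klein_surjective hX
  exact hg v

theorem klein_ker_le :
    (klein_embeddedAct (F := F)).toOrth.ker ≤
      Subgroup.center (Matrix.SpecialLinearGroup (Fin 4) F) := fun g hg => by
  obtain ⟨r, hr, hm⟩ := klein_ker hg
  rw [Matrix.SpecialLinearGroup.mem_center_iff]
  refine ⟨r, by rw [Fintype.card_fin]; linear_combination (r * r + 1) * hr, ?_⟩
  rw [hm]; rfl

theorem pOmega_six_plus_equiv [Finite F] :
    Nonempty (Cfsg.POmega F (Cfsg.quadFormPlus 3 F) ≃*
      Matrix.ProjectiveSpecialLinearGroup (Fin 4) F) := by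
  have hR := reflGroup_eq_orth (nondeg_plus_three (F := F)) (Or.inl (by simp))
  have hp : commutator (Matrix.SpecialLinearGroup (Fin 4) F) = ⊤ :=
    SL_fin_commutator_eq_top 4 (by norm_num) (by norm_num)
  have : IsSimpleGroup (Matrix.ProjectiveSpecialLinearGroup (Fin 4) F) :=
    isSimpleGroup_PSL_fin 4 (by norm_num) (by norm_num)
  rw [← coe_matQuad_plus]
  refine pOmega_equiv_of_hom (klein_embeddedAct (F := F)).toOrth (QuotientGroup.mk' _)
    (QuotientGroup.mk'_surjective _) (center_quotient_eq_bot hp _)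
    (by rw [QuotientGroup.ker_mk']; exact klein_ker_le) (by rw [QuotientGroup.ker_mk'])
    (range_le_commutator_of_perfect _ hp) (c := Nat.gcd 2 (Nat.card F - 1))
    (card_le_gcd_two 0 (fun g => g.1) Subtype.val_injective _ fun g hg => klein_ker hg) ?_
  rw [card_orth_eq, coe_matQuad_plus, card_isometry_plus (F := F) 2, card_SL_fin',
    index_commutator_orth nondeg_plus_three (by simp) hR]
  simp [Finset.prod_range_succ, Finset.prod_Icc_succ_top, Nat.choose_two_right]
  exact le_of_eq (by ring)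

end CfsgLib.Classical
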