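import Cfsg.Agent.Lib.Classical.ExcepFrame
import Cfsg.Agent.Lib.Classical.OrthStd

/-! `PΩ₃(q) ≅ PSL₂(q)` through the action on trace-zero matrices. -/

set_option autoImplicit false

namespace CfsgLib.Classical

open QuadraticMap CfsgLib.Geometry Matrix

variable {F : Type*} [Field F]

/-- Trace-zero matrices as the space of the form `x₀² + x₁x₂`. -/
def traceZeroEmb (F : Type*) [Field F] :
    (Unit ⊕ (Fin 1 ⊕ Fin 1) → F) →ₗ[F] Matrix (Fin 2) (Fin 2) F where
  toFun v := !![v (.inl ()), v (.inr (.inl 0)); v (.inr (.inr 0)), -v (.inl ())]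
  map_add' u v := by ext i j; fin_cases i <;> fin_cases j <;> simp; ring
  map_smul' c v := by ext i j; fin_cases i <;> fin_cases j <;> simp

/-- Conjugation by an element of `SL₂`. -/
def sl2Conj (g : Matrix.SpecialLinearGroup (Fin 2) F) :
    Matrix (Fin 2) (Fin 2) F →ₗ[F] Matrix (Fin 2) (Fin 2) F where
  toFun X := g.1 * X * g⁻¹.1
  map_add' X Y := by rw [Matrix.mul_add, Matrix.add_mul]
  map_smul' c X := by rw [Matrix.mul_smul, Matrix.smul_mul]; rfl

theorem sl2Conj_apply (g : Matrix.SpecialLinearGroup (Fin 2) F) (X : Matrix (Fin 2) (Fin 2) F) :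
    sl2Conj g X = g.1 * X * g⁻¹.1 := rfl

theorem traceZero_embeddedAct : EmbeddedAct (matQuad (oddMat 1 F)) (traceZeroEmb F) sl2Conj where
  inj u v h := by
    have e : ∀ i j, traceZeroEmb F u i j = traceZeroEmb F v i j := fun i j => by rw [h]
    funext x
    rcases x with x | x | x
    · simpa [traceZeroEmb] using e 0 0
    · simpa [traceZeroEmb, Subsingleton.elim x 0] using e 0 1
    · simpa [traceZeroEmb, Subsingleton.elim x 0] using e 1 0
  map_one := LinearMap.ext fun X => by simp [sl2Conj_apply]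
  map_mul g h := LinearMap.ext fun X => by
    simp only [sl2Conj_apply, LinearMap.comp_apply, _root_.mul_inv_rev,
      Matrix.SpecialLinearGroup.coe_mul, Matrix.mul_assoc]
  stable g v := by
    have ht : (sl2Conj g (traceZeroEmb F v)).trace = 0 := by
      rw [sl2Conj_apply, Matrix.trace_mul_comm, ← Matrix.mul_assoc,
        ← Matrix.SpecialLinearGroup.coe_mul, inv_mul_cancel, Matrix.SpecialLinearGroup.coe_one,
        Matrix.one_mul]
      simp [traceZeroEmb, Matrix.trace_fin_two]
    generalize sl2Conj g (traceZeroEmb F v) = Y at ht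
    rw [Matrix.trace_fin_two] at ht
    refine ⟨Sum.elim (fun _ => Y 0 0) (Sum.elim (fun _ => Y 0 1) (fun _ => Y 1 0)), ?_⟩
    ext i j
    fin_cases i <;> fin_cases j <;> simp [traceZeroEmb]
    linear_combination -ht
  isom g v w h := by
    have hD : ∀ v, -(traceZeroEmb F v).det = matQuad (oddMat 1 F) v := fun v => by
      rw [coe_matQuad_odd]
      simp [traceZeroEmb, Matrix.det_fin_two, Cfsg.quadFormOdd]
      ring
    rw [← hD, ← hD, h, sl2Conj_apply, Matrix.det_mul, Matrix.det_mul, g.2, (g⁻¹).2, one_mul, mul_one]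

theorem traceZero_ker_le :
    (traceZero_embeddedAct (F := F)).toOrth.ker ≤
      Subgroup.center (Matrix.SpecialLinearGroup (Fin 2) F) := by
  intro g hg
  rw [EmbeddedAct.mem_ker] at hg
  have key : ∀ h : Matrix.SpecialLinearGroup (Fin 2) F,
      (∃ v, traceZeroEmb F v = h.1 - 1) → g * h = h * g := by
    rintro h ⟨v, hv⟩
    have h1 := hg v
    rw [sl2Conj_apply, hv] at h1
    refine Subtype.ext ?_
    have h2 := congrArg (· * g.1) h1
    simp only [Matrix.mul_assoc, ← Matrix.SpecialLinearGroup.coe_mul, inv_mul_cancel,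
      Matrix.SpecialLinearGroup.coe_one, Matrix.mul_one] at h2
    rw [Matrix.mul_sub, Matrix.sub_mul, Matrix.mul_one, Matrix.one_mul] at h2
    exact sub_left_inj.1 h2
  refine sl2_center_of_commute_transvections (key _ ?_) (key _ ?_)
  · refine ⟨Sum.elim 0 (Sum.elim 1 0), ?_⟩
    ext i j
    fin_cases i <;> fin_cases j <;> simp [traceZeroEmb, uSL_coe]
  · refine ⟨Sum.elim 0 (Sum.elim 0 1), ?_⟩
    ext i j
    fin_cases i <;> fin_cases j <;> simp [traceZeroEmb, lSL_coe]

theorem pOmega_three_equiv [Finite F] (hodd : Odd (Nat.card F)) :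
    Nonempty (Cfsg.POmega F (Cfsg.quadFormOdd 1 F) ≃*
      Matrix.ProjectiveSpecialLinearGroup (Fin 2) F) := by
  have h2 : (2 : F) ≠ 0 := two_ne_zero_of_odd_card hodd
  have hQ : (polarBilin (matQuad (oddMat 1 F))).Nondegenerate :=
    nondegenerate_matQuad (by rw [det_odd_gram]; simp [h2])
  have hi : (commutator (orth (matQuad (oddMat 1 F)))).index = 4 :=
    index_commutator_orth_odd hQ (by simp) h2 (reflGroup_eq_orth_of_two_ne hQ h2)
  rw [← coe_matQuad_odd]
  refine pOmega_equiv_of_hom (traceZero_embeddedAct (F := F)).toOrth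
    (QuotientGroup.mk' _) (QuotientGroup.mk'_surjective _) center_PSL_two_eq_bot
    (by rw [QuotientGroup.ker_mk']; exact traceZero_ker_le) (by rw [QuotientGroup.ker_mk'])
    (sl_range_le_commutator _ (k := 2) (hi ▸ dvd_rfl) hodd) (c := 2) ?_ ?_
  · refine (Subgroup.card_le_of_le traceZero_ker_le).trans ?_
    rw [card_center_SL_fin 2 (by norm_num), gcd_two_card_sub_one_of_odd hodd]
  · rw [card_orth_eq, coe_matQuad_odd, card_isometry_odd h2 1, card_SL_two, hi]
    simp
    exact le_of_eq (by ring)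

end CfsgLib.Classical
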