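import Cfsg.Agent.Lib.Geometry.Quadratic

/-!
Adding a hyperbolic plane to a quadratic form: number of zeros and order of the orthogonal group.
-/

set_option autoImplicit false

namespace CfsgLib.Classical

open QuadraticMap CfsgLib.Geometry

variable {F V W : Type*} [Field F] [AddCommGroup V] [Module F V] [AddCommGroup W] [Module F W]

/-- `((a, b), v) ↦ a * b + Q₀ v`. -/
noncomputable def hypExt (Q₀ : QuadraticForm F V) : QuadraticForm F ((F × F) × V) :=
  linMulLin ((LinearMap.fst F F F).comp (LinearMap.fst F (F × F) V))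
    ((LinearMap.snd F F F).comp (LinearMap.fst F (F × F) V)) +
    Q₀.comp (LinearMap.snd F (F × F) V)

@[simp] theorem hypExt_apply (Q₀ : QuadraticForm F V) (x : (F × F) × V) :
    hypExt Q₀ x = x.1.1 * x.1.2 + Q₀ x.2 := by
  simp [hypExt]

theorem polar_hypExt (Q₀ : QuadraticForm F V) (x y : (F × F) × V) :
    polar (hypExt Q₀) x y = x.1.1 * y.1.2 + x.1.2 * y.1.1 + polar Q₀ x.2 y.2 := by
  simp only [polar, hypExt_apply, Prod.fst_add, Prod.snd_add]
  ring

theorem polar_nondeg_of_forall {Q : QuadraticForm F V}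
    (h : ∀ v, (∀ w, polar Q v w = 0) → v = 0) : (polarBilin Q).Nondegenerate :=
  ⟨fun v hv => h v fun w => by simpa using hv w,
    fun w hw => h w fun v => by rw [polar_comm]; simpa using hw v⟩

theorem hypExt_nondeg {Q₀ : QuadraticForm F V} (h : (polarBilin Q₀).Nondegenerate) :
    (polarBilin (hypExt Q₀)).Nondegenerate := by
  refine polar_nondeg_of_forall fun x hx => ?_
  obtain ⟨⟨a, b⟩, v⟩ := x
  have h1 : b = 0 := by simpa [polar_hypExt] using hx ((1, 0), 0)
  have h2 : a = 0 := by simpa [polar_hypExt] using hx ((0, 1), 0)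
  have h3 : v = 0 := h.1 v fun w => by
    simpa [polar_hypExt, h1, h2] using hx ((0, 0), w)
  simp [h1, h2, h3]

open scoped _root_.Classical in
/-- Zeros of `hypExt Q₀`, split on the first coordinate. -/
noncomputable def hypExtZerosEquiv (Q₀ : QuadraticForm F V) :
    {x : (F × F) × V // hypExt Q₀ x = 0} ≃ (F × {v : V // Q₀ v = 0}) ⊕ (Fˣ × V) where
  toFun x :=
    if h : x.1.1.1 = 0 then Sum.inl (x.1.1.2, ⟨x.1.2, by
      simpa [h] using x.2⟩)
    else Sum.inr (Units.mk0 _ h, x.1.2)
  invFun s := match s with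
    | Sum.inl (b, v) => ⟨((0, b), v.1), by simp [v.2]⟩
    | Sum.inr (a, v) => ⟨(((a : F), -Q₀ v / a), v), by simp [field]⟩
  left_inv := by
    rintro ⟨⟨⟨a, b⟩, v⟩, h⟩
    rw [hypExt_apply] at h
    by_cases ha : a = 0
    · simp [ha]
    · simp only [ha, ↓reduceDIte, Units.val_mk0]
      simp only [Subtype.mk.injEq, Prod.mk.injEq, true_and, and_true]
      field_simp
      linear_combination -h
  right_inv := by
    rintro (⟨b, v⟩ | ⟨a, v⟩) <;> simp

theorem card_hypExt_zeros [Finite F] [Finite V] (Q₀ : QuadraticForm F V) :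
    Nat.card {x : (F × F) × V // hypExt Q₀ x = 0} =
      Nat.card F * Nat.card {v : V // Q₀ v = 0} + (Nat.card F - 1) * Nat.card V := by
  rw [Nat.card_congr (hypExtZerosEquiv Q₀), Nat.card_sum, Nat.card_prod, Nat.card_prod]
  congr 2
  rw [Nat.card_eq_card_units_add_one F]; omega

/-- `orth` of `Q₀` inside `orth (hypExt Q₀)`. -/
noncomputable def orthEmbed (Q₀ : QuadraticForm F V) : orth Q₀ →* orth (hypExt Q₀) where
  toFun h := ⟨(LinearEquiv.refl F (F × F)).prodCongr h.1, fun x => by
    simp only [hypExt_apply, LinearEquiv.prodCongr_apply, LinearEquiv.refl_apply]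
    rw [mem_orth.1 h.2]⟩
  map_one' := rfl
  map_mul' _ _ := rfl

theorem orthEmbed_apply (Q₀ : QuadraticForm F V) (h : orth Q₀) (x : (F × F) × V) :
    (orthEmbed Q₀ h).1 x = (x.1, h.1 x.2) := rfl

/-- Singular hyperbolic pairs. -/
abbrev SingPair (Q : QuadraticForm F W) : Type _ :=
  {p : W × W // p.1 ≠ 0 ∧ Q p.1 = 0 ∧ Q p.2 = 0 ∧ polar Q p.1 p.2 = 1}

theorem exists_orth_pair [FiniteDimensional F W] {Q : QuadraticForm F W}
    (hQ : (polarBilin Q).Nondegenerate) (p r : SingPair Q) :
    ∃ g ∈ orth Q, g p.1.1 = r.1.1 ∧ g p.1.2 = r.1.2 := by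
  have hli : ∀ p : SingPair Q, LinearIndependent F ![p.1.1, p.1.2] := fun p => by
    rw [LinearIndependent.pair_iff' p.2.1]
    intro c hc
    have := p.2.2.2.2
    rw [← hc, polar_smul_right', polar_self', p.2.2.1, mul_zero, mul_zero] at this
    exact zero_ne_one this
  obtain ⟨g, hg, hgi⟩ := quad_extend hQ ![p.1.1, p.1.2] ![r.1.1, r.1.2] (hli p) (hli r)
    (fun i => by fin_cases i <;> simp [p.2.2.1, r.2.2.1, p.2.2.2.1, r.2.2.2.1])
    (fun i j => by
      fin_cases i <;> fin_cases j <;>
        simp [polar_self', p.2.2.1, r.2.2.1, p.2.2.2.1, r.2.2.2.1, p.2.2.2.2, r.2.2.2.2,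
          polar_comm Q p.1.2 p.1.1, polar_comm Q r.1.2 r.1.1])
  exact ⟨g, hg, by simpa using hgi 0, by simpa using hgi 1⟩

theorem exists_orth_singular [FiniteDimensional F W] {Q : QuadraticForm F W}
    (hQ : (polarBilin Q).Nondegenerate) {u w : W} (hu : u ≠ 0) (hw : w ≠ 0) (qu : Q u = 0)
    (qw : Q w = 0) : ∃ g ∈ orth Q, g u = w := by
  obtain ⟨g, hg, hgi⟩ := quad_extend hQ ![u] ![w]
    (LinearIndependent.of_subsingleton 0 hu) (LinearIndependent.of_subsingleton 0 hw)
    (fun i => by fin_cases i; simp [qu, qw])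
    (fun i j => by fin_cases i; fin_cases j; simp [polar_self', qu, qw])
  exact ⟨g, hg, by simpa using hgi 0⟩

variable [FiniteDimensional F V]

theorem card_singPair_hypExt [Finite F] [Finite V] {Q₀ : QuadraticForm F V}
    (hQ : (polarBilin Q₀).Nondegenerate) :
    Nat.card (SingPair (hypExt Q₀)) =
      (Nat.card {x : (F × F) × V // hypExt Q₀ x = 0} - 1) * Nat.card V := by
  classical
  let D := {d : (F × F) × V // d ≠ 0 ∧ hypExt Q₀ d = 0}
  let fib : (F × F) × V → Type _ := fun d =>
    {w : (F × F) × V // hypExt Q₀ w = 0 ∧ polar (hypExt Q₀) d w = 1}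
  have e1 : SingPair (hypExt Q₀) ≃ Σ d : D, fib d.1 :=
    { toFun := fun p => ⟨⟨p.1.1, p.2.1, p.2.2.1⟩, ⟨p.1.2, p.2.2.2⟩⟩
      invFun := fun s => ⟨(s.1.1, s.2.1), s.1.2.1, s.1.2.2, s.2.2⟩
      left_inv := fun p => rfl
      right_inv := fun s => rfl }
  let e : (F × F) × V := ((1, 0), 0)
  have he : e ≠ 0 ∧ hypExt Q₀ e = 0 := by simp [e]
  have e2 : fib e ≃ V :=
    { toFun := fun w => w.1.2
      invFun := fun v => ⟨((-Q₀ v, 1), v), by simp, by simp [polar_hypExt, e]⟩
      left_inv := fun ⟨⟨⟨s, t⟩, v⟩, h1, h2⟩ => by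
        have ht : t = 1 := by simpa [polar_hypExt, e] using h2
        simp only [hypExt_apply, ht, mul_one] at h1
        refine Subtype.ext ?_
        simp only [ht, Prod.mk.injEq, and_true]
        linear_combination -h1
      right_inv := fun v => rfl }
  have e3 : ∀ d : D, Nat.card (fib d.1) = Nat.card V := fun d => by
    obtain ⟨g, hg, hge⟩ :=
      exists_orth_singular (hypExt_nondeg hQ) he.1 d.2.1 he.2 d.2.2
    rw [← Nat.card_congr e2]
    refine (Nat.card_congr (g.toEquiv.subtypeEquiv fun w => ?_)).symm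
    simp only [LinearEquiv.coe_toEquiv, ← hge, orth_polar hg, mem_orth.1 hg]
  have : Fintype D := Fintype.ofFinite _
  rw [Nat.card_congr e1, Nat.card_sigma, Finset.sum_congr rfl fun d _ => e3 d, Finset.sum_const,
    Finset.card_univ, ← Nat.card_eq_fintype_card, smul_eq_mul]
  congr 1
  have : Nat.card {x : (F × F) × V // hypExt Q₀ x = 0} = Nat.card D + 1 := by
    rw [← Nat.card_congr (Equiv.optionSubtypeNe
      (⟨0, QuadraticMap.map_zero _⟩ : {x : (F × F) × V // hypExt Q₀ x = 0})), Finite.card_option]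
    congr 1
    exact Nat.card_congr
      { toFun := fun x => ⟨x.1.1, fun h => x.2 (Subtype.ext h), x.1.2⟩
        invFun := fun d => ⟨⟨d.1, d.2.2⟩, fun h => d.2.1 (congrArg Subtype.val h)⟩
        left_inv := fun x => rfl
        right_inv := fun d => rfl }
  omega

theorem finite_orth [Finite V] (Q : QuadraticForm F V) : Finite (orth Q) :=
  Finite.of_injective (fun g => ((g : V ≃ₗ[F] V) : V → V))
    fun _ _ h => Subtype.ext (LinearEquiv.ext fun v => congrFun h v)

/-- `|O(H ⊥ Q₀)| = #(hyperbolic pairs) |O(Q₀)|`. -/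
theorem card_orth_hypExt [Finite F] [Finite V] {Q₀ : QuadraticForm F V}
    (hQ : (polarBilin Q₀).Nondegenerate) :
    Nat.card (orth (hypExt Q₀)) =
      (Nat.card {x : (F × F) × V // hypExt Q₀ x = 0} - 1) * Nat.card V * Nat.card (orth Q₀) := by
  let G := orth (hypExt Q₀)
  let act : MulAction G (SingPair (hypExt Q₀)) :=
    { smul := fun g p => ⟨(g.1 p.1.1, g.1 p.1.2),
        fun h => p.2.1 (g.1.map_eq_zero_iff.1 h),
        by rw [mem_orth.1 g.2]; exact p.2.2.1, by rw [mem_orth.1 g.2]; exact p.2.2.2.1,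
        by rw [orth_polar g.2]; exact p.2.2.2.2⟩
      one_smul := fun p => rfl
      mul_smul := fun g h p => rfl }
  let p0 : SingPair (hypExt Q₀) :=
    ⟨(((1, 0), 0), ((0, 1), 0)), by simp, by simp, by simp, by simp [polar_hypExt]⟩
  have htrans : MulAction.orbit G p0 = Set.univ := Set.eq_univ_of_forall fun p => by
    obtain ⟨g, hg, h1, h2⟩ := exists_orth_pair (hypExt_nondeg hQ) p0 p
    exact ⟨⟨g, hg⟩, Subtype.ext (Prod.ext h1 h2)⟩
  have hstab : MulAction.stabilizer G p0 = (orthEmbed Q₀).range := by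
    ext g
    rw [MulAction.mem_stabilizer_iff]
    constructor
    · intro h
      have he : g.1 ((1, 0), 0) = ((1, 0), 0) := congrArg (fun p : SingPair _ => p.1.1) h
      have hf : g.1 ((0, 1), 0) = ((0, 1), 0) := congrArg (fun p : SingPair _ => p.1.2) h
      have hv : ∀ v : V, (g.1 ((0, 0), v)).1 = (0, 0) := by
        intro v
        have h1 := orth_polar g.2 ((0, 0), v) ((1, 0), 0)
        have h2 := orth_polar g.2 ((0, 0), v) ((0, 1), 0)
        rw [he] at h1
        rw [hf] at h2
        refine Prod.ext ?_ ?_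
        · simpa [polar_hypExt] using h2
        · simpa [polar_hypExt] using h1
      let k : V →ₗ[F] V := (LinearMap.snd F (F × F) V).comp
        (g.1.toLinearMap.comp (LinearMap.inr F (F × F) V))
      have hk : ∀ v, g.1 ((0, 0), v) = ((0, 0), k v) := fun v => Prod.ext (hv v) rfl
      have hinj : Function.Injective k := by
        intro v w hvw
        have : g.1 ((0, 0), v) = g.1 ((0, 0), w) := by rw [hk, hk, hvw]
        simpa using g.1.injective this
      refine ⟨⟨LinearEquiv.ofInjectiveEndo k hinj, fun v => ?_⟩, Subtype.ext ?_⟩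
      · have := mem_orth.1 g.2 ((0, 0), v)
        rw [hk] at this
        simpa using this
      · refine LinearEquiv.ext fun x => ?_
        obtain ⟨⟨a, b⟩, v⟩ := x
        have : ((a, b), v) = a • (((1, 0), 0) : (F × F) × V) + b • (((0, 1), 0) : (F × F) × V) +
            ((0, 0), v) := by simp
        rw [orthEmbed_apply, this, map_add, map_add, map_smul, map_smul, he, hf, hk]
        simp
    · rintro ⟨h, rfl⟩
      refine Subtype.ext (Prod.ext ?_ ?_) <;>
        · show (orthEmbed Q₀ h).1 _ = _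
          rw [orthEmbed_apply]
          simp [p0]
  have hinj : Function.Injective (orthEmbed Q₀) := fun a b h => Subtype.ext <|
    LinearEquiv.ext fun v => by
      simpa [orthEmbed_apply] using congrArg (fun g : orth (hypExt Q₀) => g.1 ((0, 0), v)) h
  have hfin := finite_orth (hypExt Q₀)
  rw [← card_singPair_hypExt hQ, show Nat.card (orth (hypExt Q₀)) = _ from
    Subgroup.card_eq_card_quotient_mul_card_subgroup (MulAction.stabilizer G p0),
    ← Nat.card_congr (MulAction.orbitEquivQuotientStabilizer G p0), htrans,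
    Nat.card_congr (Equiv.Set.univ _), hstab,
    ← Nat.card_congr (MonoidHom.ofInjective hinj).toEquiv]

/-- Isometric forms have equivalent orthogonal groups. -/
noncomputable def orthCongr {Q : QuadraticForm F V} {Q' : QuadraticForm F W} (e : V ≃ₗ[F] W)
    (h : ∀ v, Q' (e v) = Q v) : orth Q ≃* orth Q' where
  toFun g := ⟨(e.symm.trans g.1).trans e, fun w => by
    simp only [LinearEquiv.trans_apply]
    rw [h, mem_orth.1 g.2, ← h, e.apply_symm_apply]⟩
  invFun g := ⟨(e.trans g.1).trans e.symm, fun v => by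
    simp only [LinearEquiv.trans_apply]
    rw [← h, e.apply_symm_apply, mem_orth.1 g.2, h]⟩
  left_inv g := Subtype.ext (LinearEquiv.ext fun v => by simp)
  right_inv g := Subtype.ext (LinearEquiv.ext fun v => by simp)
  map_mul' a b := Subtype.ext (LinearEquiv.ext fun v => by
    show e ((a.1 * b.1) (e.symm v)) = e (a.1 (e.symm (e (b.1 (e.symm v)))))
    simp)

end CfsgLib.Classical
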