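import Cfsg.Prelude.Def_Classical
import Cfsg.Agent.Lib.Classical.OrthStep
import Cfsg.Agent.Lib.Classical.GL2
import Cfsg.Agent.Lib.Geometry.OrthMatrix

/-!
Zero counts and orders of orthogonal groups for the standard forms.
-/

set_option autoImplicit false

namespace CfsgLib.Classical

open QuadraticMap CfsgLib.Geometry

variable {F : Type*} [Field F] {κ : Type}

/-- `Σ xᵢ yᵢ + R`. -/
noncomputable def splitForm (m : ℕ) (R : QuadraticForm F (κ → F)) :
    QuadraticForm F ((Fin m ⊕ Fin m) ⊕ κ → F) :=
  (∑ i : Fin m, linMulLin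
    (LinearMap.proj (R := F) (φ := fun _ : (Fin m ⊕ Fin m) ⊕ κ => F) (.inl (.inl i)))
    (LinearMap.proj (R := F) (φ := fun _ : (Fin m ⊕ Fin m) ⊕ κ => F) (.inl (.inr i)))) +
    R.comp (LinearMap.funLeft F F Sum.inr)

theorem splitForm_apply (m : ℕ) (R : QuadraticForm F (κ → F)) (v : (Fin m ⊕ Fin m) ⊕ κ → F) :
    splitForm m R v =
      ∑ i : Fin m, v (.inl (.inl i)) * v (.inl (.inr i)) + R (v ∘ Sum.inr) := by
  simp [splitForm, LinearMap.funLeft]

/-- Splitting off the first hyperbolic pair. -/
def headEquiv (F : Type*) [Field F] (m : ℕ) (κ : Type) :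
    ((Fin (m + 1) ⊕ Fin (m + 1)) ⊕ κ → F) ≃ₗ[F] (F × F) × ((Fin m ⊕ Fin m) ⊕ κ → F) where
  toFun v := ((v (.inl (.inl 0)), v (.inl (.inr 0))),
    fun i => v (Sum.map (Sum.map Fin.succ Fin.succ) id i))
  invFun p := Sum.elim (Sum.elim (Fin.cons p.1.1 fun i => p.2 (.inl (.inl i)))
    (Fin.cons p.1.2 fun i => p.2 (.inl (.inr i)))) fun k => p.2 (.inr k)
  map_add' _ _ := rfl
  map_smul' _ _ := rfl
  left_inv v := by
    funext i
    rcases i with (i | i) | i
    · induction i using Fin.cases <;> simp
    · induction i using Fin.cases <;> simp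
    · rfl
  right_inv p := by
    refine Prod.ext (by simp) ?_
    funext i
    rcases i with (i | i) | i <;> simp

theorem hypExt_headEquiv (m : ℕ) (R : QuadraticForm F (κ → F))
    (v : (Fin (m + 1) ⊕ Fin (m + 1)) ⊕ κ → F) :
    hypExt (splitForm m R) (headEquiv F m κ v) = splitForm (m + 1) R v := by
  simp [headEquiv, splitForm_apply, Fin.sum_univ_succ, add_assoc]
  rfl

theorem splitForm_zero (R : QuadraticForm F (κ → F)) (v : (Fin 0 ⊕ Fin 0) ⊕ κ → F) :
    R (v ∘ Sum.inr) = splitForm 0 R v := by
  simp [splitForm_apply]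

/-- Index equivalence for `m = 0`. -/
def dropEmpty (κ : Type) : (Fin 0 ⊕ Fin 0) ⊕ κ ≃ κ := Equiv.emptySum _ _

theorem nondeg_of_isometry {V W : Type*} [AddCommGroup V] [Module F V] [AddCommGroup W]
    [Module F W] {Q : QuadraticForm F V} {Q' : QuadraticForm F W} (e : V ≃ₗ[F] W)
    (h : ∀ v, Q' (e v) = Q v) (hQ : (polarBilin Q').Nondegenerate) :
    (polarBilin Q).Nondegenerate := by
  refine polar_nondeg_of_forall fun v hv => e.map_eq_zero_iff.1 (hQ.1 _ fun w => ?_)
  have := hv (e.symm w)
  simp only [polar, ← h, map_add, LinearEquiv.apply_symm_apply] at this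
  simpa [polar] using this

theorem splitForm_nondeg [Fintype κ] {R : QuadraticForm F (κ → F)}
    (hR : (polarBilin R).Nondegenerate) : ∀ m, (polarBilin (splitForm m R)).Nondegenerate
  | 0 => nondeg_of_isometry (LinearEquiv.funCongrLeft F F (dropEmpty κ).symm)
      (fun v => splitForm_zero R v) hR
  | m + 1 => nondeg_of_isometry (headEquiv F m κ) (hypExt_headEquiv m R)
      (hypExt_nondeg (splitForm_nondeg hR m))

variable [Fintype κ] [Finite F]

theorem card_splitForm_space (m : ℕ) :
    Nat.card ((Fin m ⊕ Fin m) ⊕ κ → F) = Nat.card F ^ (2 * m + Fintype.card κ) := by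
  rw [Nat.card_fun, Nat.card_eq_fintype_card (α := (Fin m ⊕ Fin m) ⊕ κ)]
  simp [two_mul]

theorem card_splitForm_zeros_succ (m : ℕ) (R : QuadraticForm F (κ → F)) :
    Nat.card {v // splitForm (m + 1) R v = 0} =
      Nat.card F * Nat.card {v // splitForm m R v = 0} +
        (Nat.card F - 1) * Nat.card F ^ (2 * m + Fintype.card κ) := by
  rw [← card_splitForm_space (F := F) (κ := κ) m, ← card_hypExt_zeros]
  exact Nat.card_congr ((headEquiv F m κ).toEquiv.subtypeEquiv fun v => by
    rw [LinearEquiv.coe_toEquiv, hypExt_headEquiv])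

theorem card_splitForm_zeros (m : ℕ) (R : QuadraticForm F (κ → F)) :
    Nat.card {v // splitForm m R v = 0} * Nat.card F + Nat.card F ^ (m + Fintype.card κ) =
      Nat.card F ^ (m + 1) * Nat.card {v // R v = 0} +
        Nat.card F ^ (2 * m + Fintype.card κ) := by
  induction m with
  | zero =>
    have : Nat.card {v // splitForm 0 R v = 0} = Nat.card {v // R v = 0} :=
      Nat.card_congr ((LinearEquiv.funCongrLeft F F (dropEmpty κ).symm).toEquiv.subtypeEquiv
        fun v => by rw [← splitForm_zero]; rfl)
    rw [this]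
    ring_nf
  | succ m ih =>
    rw [card_splitForm_zeros_succ]
    obtain ⟨r, hr⟩ : ∃ r, Nat.card F = r + 1 :=
      ⟨Nat.card F - 1, by have := Nat.card_pos (α := F); omega⟩
    generalize Nat.card {v // splitForm m R v = 0} = Z at *
    generalize Nat.card {v // R v = 0} = Z0 at *
    rw [hr] at ih ⊢
    rw [Nat.add_sub_cancel]
    have hp : (r + 1) ^ (2 * (m + 1) + Fintype.card κ) =
        (r + 1) * (r + 1) ^ (2 * m + Fintype.card κ) + r * (r + 1) * (r + 1) ^ (2 * m + Fintype.card κ) := by
      rw [show 2 * (m + 1) + Fintype.card κ = (2 * m + Fintype.card κ) + 2 by ring, pow_add]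
      ring
    rw [hp, show m + 1 + Fintype.card κ = (m + Fintype.card κ) + 1 by ring]
    linear_combination (r + 1) * ih

theorem card_orth_splitForm_zero (R : QuadraticForm F (κ → F)) :
    Nat.card (orth (splitForm 0 R)) = Nat.card (orth R) :=
  Nat.card_congr (orthCongr (LinearEquiv.funCongrLeft F F (dropEmpty κ).symm)
    fun v => splitForm_zero R v).toEquiv

theorem card_orth_splitForm {R : QuadraticForm F (κ → F)} (hR : (polarBilin R).Nondegenerate)
    (m : ℕ) : Nat.card (orth (splitForm m R)) = Nat.card (orth R) *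
      ∏ i ∈ Finset.range m, ((Nat.card {v // splitForm (i + 1) R v = 0} - 1) *
        Nat.card F ^ (2 * i + Fintype.card κ)) := by
  induction m with
  | zero => simp [card_orth_splitForm_zero]
  | succ m ih =>
    rw [Finset.prod_range_succ, ← mul_assoc, ← ih,
      Nat.card_congr (orthCongr (headEquiv F m κ) (hypExt_headEquiv m R)).toEquiv,
      card_orth_hypExt (splitForm_nondeg hR m), card_splitForm_space, mul_comm]
    congr 2
    congr 1
    exact Nat.card_congr ((headEquiv F m κ).toEquiv.subtypeEquiv fun v => by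
      rw [LinearEquiv.coe_toEquiv, hypExt_headEquiv]).symm

/-- The order of `Cfsg.isometryGroup` for a function isometric to a quadratic form. -/
theorem card_isometryGroup {ι : Type} [Fintype ι] [DecidableEq ι] (Qf : (ι → F) → F) {W : Type*}
    [AddCommGroup W] [Module F W] (Q : QuadraticForm F W) (e : (ι → F) ≃ₗ[F] W)
    (h : ∀ v, Qf v = Q (e v)) :
    Nat.card (Cfsg.isometryGroup F Qf) = Nat.card (orth Q) := by
  obtain rfl : Qf = ⇑(Q.comp (e : (ι → F) →ₗ[F] W)) := funext fun v => by simp [h]
  exact Nat.card_congr ((isomEquiv _).trans (orthCongr e fun v => rfl)).toEquiv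

/-- The zero form on the empty index. -/
noncomputable def emptyForm (F : Type*) [Field F] : QuadraticForm F (Empty → F) := 0

/-- `x ↦ x²`. -/
noncomputable def lineForm (F : Type*) [Field F] : QuadraticForm F (Unit → F) :=
  linMulLin (LinearMap.proj ()) (LinearMap.proj ())

/-- `z₁² + a z₁ z₂ + b z₂²`. -/
noncomputable def binForm {F : Type*} [Field F] (a b : F) : QuadraticForm F (Fin 2 → F) :=
  linMulLin (LinearMap.proj 0) (LinearMap.proj 0) +
    a • linMulLin (LinearMap.proj 0) (LinearMap.proj 1) +
    b • linMulLin (LinearMap.proj 1) (LinearMap.proj 1)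

omit [Finite F] in
theorem lineForm_apply (v : Unit → F) : lineForm F v = v () ^ 2 := by
  simp [lineForm, _root_.sq]

omit [Finite F] in
theorem binForm_apply (a b : F) (v : Fin 2 → F) :
    binForm a b v = v 0 ^ 2 + a * v 0 * v 1 + b * v 1 ^ 2 := by
  simp [binForm, _root_.sq, mul_assoc]

omit [Finite F] in
theorem emptyForm_nondeg : (polarBilin (emptyForm F)).Nondegenerate :=
  polar_nondeg_of_forall fun v _ => Subsingleton.elim _ _

omit [Finite F] in
theorem card_orth_emptyForm : Nat.card (orth (emptyForm F)) = 1 := by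
  have : Subsingleton (orth (emptyForm F)) :=
    ⟨fun a b => Subtype.ext (LinearEquiv.ext fun v => Subsingleton.elim _ _)⟩
  exact Nat.card_unique

omit [Finite F] in
theorem lineForm_nondeg (h2 : (2 : F) ≠ 0) : (polarBilin (lineForm F)).Nondegenerate := by
  refine polar_nondeg_of_forall fun v hv => funext fun u => ?_
  have := hv (fun _ => 1)
  simp only [polar, lineForm_apply, Pi.add_apply] at this
  have : 2 * v () = 0 := by linear_combination this
  simpa [h2] using this

omit [Finite F] in
theorem card_orth_lineForm (h2 : (2 : F) ≠ 0) : Nat.card (orth (lineForm F)) = 2 := by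
  have hne : (1 : F) ≠ -1 := fun h => h2 (by linear_combination h)
  let neg' : orth (lineForm F) := ⟨LinearEquiv.neg F, fun v => by simp [lineForm_apply]⟩
  have hne' : (1 : orth (lineForm F)) ≠ neg' := fun h => hne (by
    simpa [neg'] using congrArg (fun g : orth (lineForm F) => g.1 (fun _ => 1) ()) h)
  rw [Nat.card_eq_two_iff]
  refine ⟨1, neg', hne', Set.eq_univ_of_forall fun g => ?_⟩
  have hg := mem_orth.1 g.2 (fun _ => 1)
  simp only [lineForm_apply, one_pow, sq_eq_one_iff] at hg
  have hv : ∀ v : Unit → F, g.1 v = v () • g.1 (fun _ => 1) := fun v => by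
    rw [← map_smul]; congr 1; funext u; simp
  rcases hg with hg | hg
  · left
    refine Subtype.ext (LinearEquiv.ext fun v => funext fun u => ?_)
    simp [hv v, hg]
  · right
    refine Subtype.ext (LinearEquiv.ext fun v => funext fun u => ?_)
    simp [hv v, hg, neg']

/-- Anisotropy of `z₁² + a z₁ z₂ + b z₂²`. -/
def BinAniso {F : Type*} [Field F] (a b : F) : Prop :=
  ∀ z₁ z₂ : F, z₁ ^ 2 + a * z₁ * z₂ + b * z₂ ^ 2 = 0 → z₁ = 0 ∧ z₂ = 0

theorem binAniso_disc {a b : F} (h : BinAniso a b) : 4 * b - a ^ 2 ≠ 0 := by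
  intro hd
  by_cases h2 : (2 : F) = 0
  · have ha : a ^ 2 = 0 := by linear_combination (-1 : F) * hd + 2 * b * h2
    rw [pow_eq_zero_iff two_ne_zero] at ha
    have := Fintype.ofFinite F
    obtain ⟨s, hs⟩ := FiniteField.isSquare_of_char_two
      (CharP.ringChar_of_prime_eq_zero Nat.prime_two (by exact_mod_cast h2) : ringChar F = 2) b
    exact one_ne_zero (h s 1 (by subst ha; linear_combination hs + s ^ 2 * h2)).2
  · have := (h (-a) 2 (by linear_combination hd)).2
    exact h2 this

theorem binForm_nondeg {a b : F} (h : BinAniso a b) : (polarBilin (binForm a b)).Nondegenerate := by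
  refine polar_nondeg_of_forall fun v hv => ?_
  have h0 := hv ![1, 0]
  have h1 := hv ![0, 1]
  simp only [polar, binForm_apply, Pi.add_apply, Matrix.cons_val_zero, Matrix.cons_val_one] at h0 h1
  have hd := binAniso_disc h
  have e0 : (4 * b - a ^ 2) * v 0 = 0 := by linear_combination (2 * b) * h0 - a * h1
  have e1 : (4 * b - a ^ 2) * v 1 = 0 := by linear_combination 2 * h1 - a * h0
  funext i
  fin_cases i
  · simpa [hd] using e0
  · simpa [hd] using e1

omit [Finite F] in
theorem binForm_eq_zero {a b : F} (h : BinAniso a b) {v : Fin 2 → F}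
    (hv : binForm a b v = 0) : v = 0 := by
  rw [binForm_apply] at hv
  funext i
  fin_cases i
  · exact (h _ _ hv).1
  · exact (h _ _ hv).2

omit [Finite F] in
theorem card_binForm_zeros {a b : F} (h : BinAniso a b) :
    Nat.card {v // binForm a b v = 0} = 1 := by
  have : Unique {v // binForm a b v = 0} :=
    ⟨⟨⟨0, QuadraticMap.map_zero _⟩⟩, fun v => Subtype.ext (binForm_eq_zero h v.2)⟩
  exact Nat.card_unique

theorem exists_binForm_eq {a b : F} (h : BinAniso a b) (c : F) : ∃ v, binForm a b v = c := by
  classical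
  have := Fintype.ofFinite F
  by_cases h2 : (2 : F) = 0
  · obtain ⟨s, hs⟩ := FiniteField.isSquare_of_char_two
      (CharP.ringChar_of_prime_eq_zero Nat.prime_two (by exact_mod_cast h2) : ringChar F = 2) c
    exact ⟨![s, 0], by simp [binForm_apply, hs]; ring⟩
  · have hd : b - a ^ 2 / 4 ≠ 0 := fun hd => binAniso_disc h (by
      have h4 : (4 : F) ≠ 0 := by
        rw [show (4 : F) = 2 * 2 by norm_num]; exact mul_ne_zero h2 h2
      field_simp at hd
      linear_combination hd)
    have hodd : Fintype.card F % 2 = 1 := FiniteField.odd_card_of_char_ne_two fun hc => h2 (by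
      have : CharP F 2 := ringChar.eq_iff.1 hc
      exact_mod_cast CharP.cast_eq_zero F 2)
    obtain ⟨x, y, hxy⟩ := FiniteField.exists_root_sum_quadratic
      (f := Polynomial.X ^ 2)
      (g := Polynomial.C (b - a ^ 2 / 4) * Polynomial.X ^ 2 + Polynomial.C (-c))
      (Polynomial.degree_X_pow 2)
      (by
        rw [Polynomial.degree_add_C (by
          rw [Polynomial.degree_C_mul_X_pow 2 hd]; norm_num), Polynomial.degree_C_mul_X_pow 2 hd]
        rfl) hodd
    simp at hxy
    refine ⟨![x - a / 2 * y, y], ?_⟩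
    simp [binForm_apply]
    have h4 : (4 : F) ≠ 0 := by
      rw [show (4 : F) = 2 * 2 by norm_num]; exact mul_ne_zero h2 h2
    field_simp at hxy ⊢
    linear_combination hxy

theorem card_binForm_eq_one {a b : F} (h : BinAniso a b) :
    Nat.card {v // binForm a b v = 1} = Nat.card F + 1 := by
  classical
  have := Fintype.ofFinite F
  let ν : {v : Fin 2 → F // v ≠ 0} → Fˣ := fun v =>
    Units.mk0 (binForm a b v.1) fun h0 => v.2 (binForm_eq_zero h h0)
  have hfib : ∀ c : Fˣ, Nat.card {v // ν v = c} = Nat.card {v // binForm a b v = 1} := by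
    intro c
    have e0 : {v // ν v = c} ≃ {v // binForm a b v = (c : F)} :=
      { toFun := fun v => ⟨v.1.1, congrArg Units.val v.2⟩
        invFun := fun v => ⟨⟨v.1, fun h0 => c.ne_zero (by rw [← v.2, h0, QuadraticMap.map_zero])⟩,
          Units.ext v.2⟩
        left_inv := fun v => rfl
        right_inv := fun v => rfl }
    obtain ⟨u, hu⟩ := exists_binForm_eq h (c : F)
    rw [binForm_apply] at hu
    rw [Nat.card_congr e0]
    let f : {v // binForm a b v = 1} → {v // binForm a b v = (c : F)} := fun w =>
      ⟨![u 0 * w.1 0 - b * (u 1 * w.1 1),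
        u 0 * w.1 1 + u 1 * w.1 0 + a * (u 1 * w.1 1)], by
        have := w.2
        simp [binForm_apply] at this ⊢
        linear_combination (u 0 ^ 2 + a * u 0 * u 1 + b * u 1 ^ 2) * this + hu⟩
    let g : {v // binForm a b v = (c : F)} → {v // binForm a b v = 1} := fun v =>
      ⟨![((u 0 + a * u 1) * v.1 0 + b * u 1 * v.1 1) / c, (u 0 * v.1 1 - u 1 * v.1 0) / c], by
        have := v.2
        simp [binForm_apply] at this ⊢
        field_simp
        linear_combination (u 0 ^ 2 + a * u 0 * u 1 + b * u 1 ^ 2) * this + (c : F) * hu⟩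
    have hgf : ∀ w, g (f w) = w := fun w => by
      refine Subtype.ext (funext fun i => ?_)
      fin_cases i <;> simp [f, g] <;> field_simp
      · linear_combination (w.1 0) * hu
      · linear_combination (w.1 1) * hu
    have hfg : ∀ v, f (g v) = v := fun v => by
      refine Subtype.ext (funext fun i => ?_)
      fin_cases i <;> simp [f, g] <;> field_simp
      · linear_combination (v.1 0) * hu
      · linear_combination (v.1 1) * hu
    exact (Nat.card_congr ⟨f, g, hgf, hfg⟩).symm
  have h1 := Nat.card_congr (Equiv.sigmaFiberEquiv ν)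
  rw [Nat.card_sigma, Finset.sum_congr rfl fun c _ => hfib c, Finset.sum_const, Finset.card_univ,
    smul_eq_mul, ← Nat.card_eq_fintype_card, card_units_field] at h1
  have h2 : Nat.card {v : Fin 2 → F // v ≠ 0} = Nat.card F ^ 2 - 1 := by
    rw [Nat.card_eq_fintype_card, Fintype.card_subtype_compl, Fintype.card_subtype_eq,
      Fintype.card_fun, Fintype.card_fin, Nat.card_eq_fintype_card]
  have h3 : 1 < Nat.card F := Finite.one_lt_card
  refine Nat.eq_of_mul_eq_mul_left (show 0 < Nat.card F - 1 by omega) ?_
  rw [h1, h2, mul_comm, ← Nat.sq_sub_sq]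

/-- The conjugation `z ↦ z̄` of the quadratic algebra of `binForm`. -/
noncomputable def binConj (a : F) : (Fin 2 → F) ≃ₗ[F] (Fin 2 → F) :=
  LinearEquiv.ofInvolutive
    { toFun := fun v => ![v 0 + a * v 1, -v 1]
      map_add' := fun v w => by ext i; fin_cases i <;> simp <;> ring
      map_smul' := fun c v => by ext i; fin_cases i <;> simp <;> ring }
    fun v => by ext i; fin_cases i <;> simp

theorem binConj_apply (a : F) (v : Fin 2 → F) : binConj a v = ![v 0 + a * v 1, -v 1] := rfl

omit [Finite F] in
theorem binStab_cases {a b x y : F} (hd : 4 * b - a ^ 2 ≠ 0) (hp : 2 * x + a * y = a)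
    (hq : x ^ 2 + a * x * y + b * y ^ 2 = b) : (x = 0 ∧ y = 1) ∨ (x = a ∧ y = -1) := by
  have h : (y - 1) * (y + 1) = 0 := (mul_eq_zero.1 (show (4 * b - a ^ 2) * ((y - 1) * (y + 1)) = 0
    by linear_combination 4 * hq - (2 * x + a * y + a) * hp)).resolve_left hd
  rcases mul_eq_zero.1 h with h | h
  · obtain rfl : y = 1 := sub_eq_zero.1 h
    by_cases hx : x = 0
    · exact Or.inl ⟨hx, rfl⟩
    have hxa : x + a = 0 :=
      (mul_eq_zero.1 (show x * (x + a) = 0 by linear_combination hq)).resolve_left hx
    have h2 : (2 : F) = 0 :=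
      (mul_eq_zero.1 (show 2 * x = 0 by linear_combination hp)).resolve_right hx
    exact Or.inr ⟨by linear_combination hxa - a * h2, by linear_combination h2⟩
  · obtain rfl : y = -1 := eq_neg_of_add_eq_zero_left h
    by_cases hx : x = a
    · exact Or.inr ⟨hx, rfl⟩
    obtain rfl : x = 0 := (mul_eq_zero.1 (show x * (x - a) = 0 by linear_combination hq)).resolve_right
      (sub_ne_zero.2 hx)
    have h2 : (2 : F) = 0 := (mul_eq_zero.1 (show 2 * a = 0 by linear_combination -hp)).resolve_right
      (Ne.symm hx)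
    exact Or.inl ⟨rfl, by linear_combination -h2⟩

theorem card_orth_binForm {a b : F} (h : BinAniso a b) :
    Nat.card (orth (binForm a b)) = 2 * (Nat.card F + 1) := by
  classical
  let G := orth (binForm a b)
  let X := {v // binForm a b v = 1}
  let act : MulAction G X :=
    { smul := fun g v => ⟨g.1 v.1, (mem_orth.1 g.2 v.1).trans v.2⟩
      one_smul := fun v => rfl
      mul_smul := fun g k v => rfl }
  let e : X := ⟨![1, 0], by simp [binForm_apply]⟩
  have htrans : MulAction.orbit G e = Set.univ := Set.eq_univ_of_forall fun v => by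
    have hv := v.2
    rw [binForm_apply] at hv
    let μ : (Fin 2 → F) ≃ₗ[F] (Fin 2 → F) :=
      { toFun := fun w => ![v.1 0 * w 0 - b * (v.1 1 * w 1),
          v.1 0 * w 1 + v.1 1 * w 0 + a * (v.1 1 * w 1)]
        map_add' := fun w w' => by ext i; fin_cases i <;> simp <;> ring
        map_smul' := fun c w => by ext i; fin_cases i <;> simp <;> ring
        invFun := fun w => ![(v.1 0 + a * v.1 1) * w 0 + b * v.1 1 * w 1,
          v.1 0 * w 1 - v.1 1 * w 0]
        left_inv := fun w => by
          ext i; fin_cases i <;> simp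
          · linear_combination (w 0) * hv
          · linear_combination (w 1) * hv
        right_inv := fun w => by
          ext i; fin_cases i <;> simp
          · linear_combination (w 0) * hv
          · linear_combination (w 1) * hv }
    refine ⟨⟨μ, fun w => ?_⟩, Subtype.ext ?_⟩
    · simp [μ, binForm_apply]
      linear_combination (w 0 ^ 2 + a * w 0 * w 1 + b * w 1 ^ 2) * hv
    · funext i
      show μ e.1 i = v.1 i
      fin_cases i <;> simp [μ, e]
  have hd := binAniso_disc h
  let σ : G := ⟨binConj a, fun v => by simp [binConj_apply, binForm_apply]; ring⟩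
  have hσ1 : (1 : G) ≠ σ := by
    intro he
    have h0 : (![0, 1] : Fin 2 → F) = binConj a ![0, 1] :=
      congrArg (fun g : G => g.1 ![0, 1]) he
    have h1 := congrFun h0 1
    have h2 := congrFun h0 0
    simp [binConj_apply] at h1 h2
    exact hd (by subst h2; linear_combination 2 * b * h1)
  have hstab : Nat.card (MulAction.stabilizer G e) = 2 := by
    rw [Nat.card_eq_two_iff]
    refine ⟨⟨1, one_mem _⟩, ⟨σ, Subtype.ext ?_⟩, fun he => hσ1 (congrArg Subtype.val he), ?_⟩
    · show binConj a _ = _
      funext i; fin_cases i <;> simp [binConj_apply, e]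
    refine Set.eq_univ_of_forall fun g => ?_
    have he : g.1.1 ![1, 0] = ![1, 0] := congrArg Subtype.val g.2
    have hq := mem_orth.1 g.1.2 ![0, 1]
    have hp := orth_polar g.1.2 ![1, 0] ![0, 1]
    rw [he] at hp
    simp only [polar, binForm_apply, Pi.add_apply] at hp hq
    simp at hp hq
    have hsplit : ∀ w, g.1.1 w = w 0 • ![1, 0] + w 1 • g.1.1 ![0, 1] := fun w => by
      conv_lhs => rw [show w = w 0 • ![1, 0] + w 1 • ![0, 1] by ext i; fin_cases i <;> simp]
      rw [map_add, map_smul, map_smul, he]
    rcases binStab_cases hd (x := g.1.1 ![0, 1] 0) (y := g.1.1 ![0, 1] 1)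
      (by linear_combination hp) (by linear_combination hq) with ⟨h0, h1⟩ | ⟨h0, h1⟩
    · left
      refine Subtype.ext (Subtype.ext (LinearEquiv.ext fun w => funext fun i => ?_))
      rw [hsplit]
      fin_cases i <;> simp [h0, h1]
    · right
      refine Subtype.ext (Subtype.ext (LinearEquiv.ext fun w => funext fun i => ?_))
      rw [hsplit]
      fin_cases i <;> simp [h0, h1, σ, binConj_apply] <;> ring
  have hfin := finite_orth (binForm a b)
  rw [show Nat.card (orth (binForm a b)) = _ from
    Subgroup.card_eq_card_quotient_mul_card_subgroup (MulAction.stabilizer G e),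
    ← Nat.card_congr (MulAction.orbitEquivQuotientStabilizer G e), htrans,
    Nat.card_congr (Equiv.Set.univ _), hstab, card_binForm_eq_one h, mul_comm]

end CfsgLib.Classical
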