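import Cfsg.Agent.Lib.Classical.UnitaryGen
import Cfsg.Agent.Lib.PGroups.UniqueOrderP

/-!
`PSU₃(2)` has a normal subgroup of order 9 and exponent 3 with quaternion quotient.
-/

set_option autoImplicit false

namespace CfsgLib.Classical

open Matrix Subgroup

/-- A group of order 72 with a TI self-normalising subgroup of order 8. -/
theorem exists_normal_nine {G : Type*} [Group G] [Finite G] (hG : Nat.card G = 72) (H : Subgroup G)
    (hH : Nat.card H = 8) (hTI : ∀ g : G, ∀ h ∈ H, h ≠ 1 → g * h * g⁻¹ ∈ H → g ∈ H) :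
    ∃ (N : Subgroup G) (_ : N.Normal), Nat.card N = 9 ∧ (∀ x ∈ N, x ^ 3 = 1) ∧
      Nonempty (G ⧸ N ≃* H) := by
  classical
  have : Fact (Nat.Prime 3) := ⟨Nat.prime_three⟩
  let f : (G ⧸ H) × {h : H // h ≠ 1} → G := fun p => p.1.out * (p.2.1 : G) * p.1.out⁻¹
  have hf : Function.Injective f := by
    rintro ⟨a, h, hh⟩ ⟨b, k, hk⟩ e
    have e' : a.out * (h : G) * a.out⁻¹ = b.out * (k : G) * b.out⁻¹ := e
    have hconj : (b.out⁻¹ * a.out) * (h : G) * (b.out⁻¹ * a.out)⁻¹ = k := by
      rw [_root_.mul_inv_rev, inv_inv, show (b.out⁻¹ * a.out) * (h : G) * (a.out⁻¹ * b.out) =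
        b.out⁻¹ * (a.out * (h : G) * a.out⁻¹) * b.out by group, e']
      group
    have hmem := hTI _ h h.2 (fun h1 => hh (Subtype.ext h1)) (by rw [hconj]; exact k.2)
    have hab : a = b := by
      rw [← a.out_eq', ← b.out_eq', eq_comm, QuotientGroup.eq]
      exact hmem
    subst hab
    simp only [inv_mul_cancel, one_mul, inv_one, mul_one] at hconj
    obtain rfl := Subtype.ext hconj
    rfl
  have hidx : H.index = 9 := by
    have := H.card_mul_index
    rw [hH, hG] at this
    omega
  let E : Finset G := (Set.toFinite (Set.range f)).toFinset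
  have hE : E.card = 63 := by
    rw [← Set.ncard_eq_toFinset_card, Set.ncard_range_of_injective hf, Nat.card_prod,
      show Nat.card (G ⧸ H) = 9 from hidx]
    have : Nat.card {h : H // h ≠ 1} = 7 := by
      have := Fintype.ofFinite H
      rw [Nat.card_eq_fintype_card, Fintype.card_subtype_compl, Fintype.card_subtype_eq,
        ← Nat.card_eq_fintype_card, hH]
    rw [this]
  have hf3 : (Nat.card G).factorization 3 = 2 := by
    rw [hG, show (72 : ℕ) = 3 ^ 2 * 8 by norm_num, Nat.factorization_mul (by norm_num) (by norm_num),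
      Finsupp.add_apply, Nat.Prime.factorization_pow Nat.prime_three, Finsupp.single_eq_same,
      Nat.factorization_eq_zero_of_not_dvd (by norm_num)]
  have hPcard : ∀ P : Sylow 3 G, Nat.card (P : Subgroup G) = 9 := fun P => by
    rw [P.card_eq_multiplicity, hf3]; norm_num
  have hPE : ∀ P : Sylow 3 G, ∀ x ∈ (P : Subgroup G), x ∉ E := by
    intro P x hx hxE
    obtain ⟨⟨a, h, hh⟩, rfl⟩ := (Set.toFinite _).mem_toFinset.1 hxE
    have h1 : orderOf (h : G) ∣ 9 := by
      rw [← hPcard P, show orderOf (h : G) = orderOf (a.out * (h : G) * a.out⁻¹) from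
        (orderOf_injective (MulAut.conj a.out).toMonoidHom (MulEquiv.injective _) (h : G)).symm]
      exact Subgroup.orderOf_dvd_natCard _ hx
    have h2 : orderOf (h : G) ∣ 8 := hH ▸ orderOf_dvd_natCard H h.2
    exact hh (Subtype.ext (orderOf_eq_one_iff.1 (Nat.dvd_one.1 (Nat.dvd_gcd h1 h2))))
  have := Fintype.ofFinite G
  have hcompl : Eᶜ.card = 9 := by
    rw [Finset.card_compl, hE, ← Nat.card_eq_fintype_card, hG]
  have hset : ∀ P : Sylow 3 G, (Set.toFinite ((P : Subgroup G) : Set G)).toFinset = Eᶜ := fun P => by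
    refine Finset.eq_of_subset_of_card_le (fun x hx => ?_) ?_
    · exact Finset.mem_compl.2 (hPE P x ((Set.toFinite _).mem_toFinset.1 hx))
    · rw [hcompl, ← Set.ncard_eq_toFinset_card, ← Nat.card_coe_set_eq]
      exact le_of_eq (hPcard P).symm
  let P : Sylow 3 G := default
  have huniq : ∀ Q : Sylow 3 G, Q = P := fun Q => Sylow.ext (SetLike.coe_injective
    ((Set.toFinite _).toFinset_inj.1 ((hset Q).trans (hset P).symm)))
  have : Subsingleton (Sylow 3 G) := ⟨fun a b => (huniq a).trans (huniq b).symm⟩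
  have hN : (P : Subgroup G).Normal := Sylow.normal_of_subsingleton P
  have hdisj : ∀ x ∈ (P : Subgroup G), x ∈ H → x = 1 := fun x h1 h2 => by
    have a1 := hPcard P ▸ orderOf_dvd_natCard _ h1
    have a2 := hH ▸ orderOf_dvd_natCard _ h2
    exact orderOf_eq_one_iff.1 (Nat.dvd_one.1 (Nat.dvd_gcd a1 a2))
  refine ⟨P, hN, hPcard P, ?_, ?_⟩
  · have h3 : 3 ∣ Nat.card (P : Subgroup G) := by rw [hPcard]; norm_num
    obtain ⟨x, hx⟩ := exists_prime_orderOf_dvd_card' 3 h3
    have hx1 : (x : G) ≠ 1 := fun h1 => by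
      rw [← Subgroup.orderOf_coe, h1, orderOf_one] at hx
      norm_num at hx
    let c : H → {y : (P : Subgroup G) // y ≠ 1} := fun h =>
      ⟨⟨(h : G) * x * (h : G)⁻¹, hN.conj_mem _ x.2 _⟩, fun h1 => hx1 (by
        have h2 : (h : G) * x * (h : G)⁻¹ = 1 := congrArg Subtype.val h1
        exact conj_eq_one_iff.1 h2)⟩
    have hc : Function.Injective c := by
      intro h k e
      have e' : (h : G) * x * (h : G)⁻¹ = (k : G) * x * (k : G)⁻¹ :=
        congrArg (fun y : {y : (P : Subgroup G) // y ≠ 1} => (y.1 : G)) e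
      by_contra hne
      set l := (k⁻¹ * h : H) with hl
      have hl1 : (l : G) ≠ 1 := fun h1 => hne (by
        have : k⁻¹ * h = 1 := Subtype.ext h1
        exact (inv_mul_eq_one.1 this).symm)
      have hcomm : (x : G) * l * (x : G)⁻¹ = l := by
        have e2 : (x : G) * (k : G)⁻¹ * h = (k : G)⁻¹ * h * x := by
          have := congrArg (fun z => (k : G)⁻¹ * z * h) e'
          simp [mul_assoc] at this
          simpa [mul_assoc] using this.symm
        rw [mul_inv_eq_iff_eq_mul, hl]
        simpa [mul_assoc] using e2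
      exact hx1 (hdisj _ x.2 (hTI _ _ l.2 hl1 (by rw [hcomm]; exact l.2)))
    have hcs : Function.Surjective c := by
      refine (Nat.bijective_iff_injective_and_card c).2 ⟨hc, ?_⟩ |>.2
      have := Fintype.ofFinite (P : Subgroup G)
      rw [hH, Nat.card_eq_fintype_card, Fintype.card_subtype_compl, Fintype.card_subtype_eq,
        ← Nat.card_eq_fintype_card, hPcard]
    intro y hy
    rcases eq_or_ne y 1 with rfl | hy1
    · simp
    obtain ⟨h, hh⟩ := hcs ⟨⟨y, hy⟩, fun h1 => hy1 (congrArg Subtype.val h1)⟩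
    have hy' : (h : G) * x * (h : G)⁻¹ = y :=
      congrArg (fun y : {y : (P : Subgroup G) // y ≠ 1} => (y.1 : G)) hh
    rw [← hy', conj_pow, ← Subgroup.coe_pow, show x ^ 3 = 1 from orderOf_dvd_iff_pow_eq_one.1 hx.dvd]
    simp
  · let φ : H →* G ⧸ (P : Subgroup G) := (QuotientGroup.mk' _).comp H.subtype
    refine ⟨(MulEquiv.ofBijective φ ((Nat.bijective_iff_injective_and_card φ).2 ⟨?_, ?_⟩)).symm⟩
    · refine (injective_iff_map_eq_one φ).2 fun h hh => Subtype.ext ?_
      exact hdisj _ ((QuotientGroup.eq_one_iff _).1 hh) h.2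
    · have := (P : Subgroup G).card_mul_index
      rw [hPcard, hG, Subgroup.index] at this
      rw [hH]; omega

namespace Unitary

variable {F : Type*} [Field F] [Finite F] {σ : F →+* F} {q : ℕ}

/-- The stabiliser of a vector. -/
def vecStab (n : ℕ) (F : Type*) [Field F] (q : ℕ) (u : Fin n → F) : Subgroup (Cfsg.SU n F q) where
  carrier := {g | g.1.1 *ᵥ u = u}
  mul_mem' {a b} ha hb := by
    show (a * b).1.1 *ᵥ u = u
    rw [su_mul_mulVec, hb, ha]
  one_mem' := su_one_mulVec u
  inv_mem' {a} ha := by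
    show (a⁻¹).1.1 *ᵥ u = u
    conv_lhs => arg 2; rw [← ha]
    rw [su_inv_mulVec]

theorem psu32_structure (hF : Nat.card F = q ^ 2) (hq : q = 2) :
    Nat.card (Cfsg.PSU 3 F q) = 72 ∧ ∃ (N : Subgroup (Cfsg.PSU 3 F q)) (_ : N.Normal),
      Nat.card N = 9 ∧ (∀ x ∈ N, x ^ 3 = 1) ∧
        Nonempty (Cfsg.PSU 3 F q ⧸ N ≃* QuaternionGroup 2) := by
  obtain ⟨σ, h⟩ := exists_uFrob hF
  obtain ⟨ω, hω, hω3, hωσ⟩ := exists_omega hF h hq
  have h2 := two_eq_zero_of_q_two hF hq
  have hcard : Nat.card (Cfsg.PSU 3 F q) = 72 := by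
    have hc := card_PSU_mul hF (n := 3) (by norm_num)
    rw [card_GU hF, hq] at hc
    simp [Finset.prod_range_succ] at hc
    rw [hq]
    omega
  have hN1 : ∀ a : F, a ≠ 0 → a * σ a = 1 := fun a ha => by
    have := Fintype.ofFinite F
    have h3 := FiniteField.pow_card_sub_one_eq_one a ha
    rw [← Nat.card_eq_fintype_card, hF, hq] at h3
    rw [h.pow, hq, ← pow_succ']
    exact h3
  set u : Fin 3 → F := ![1, 1, 0] with hu_def
  set w : Fin 3 → F := ![0, 0, 1] with hw_def
  set e : Fin 3 → F := ![ω, ω ^ 2, 0] with he_def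
  have huu : uh σ u u = 0 := by simp [uh, dotProduct, Fin.sum_univ_three, u]; linear_combination h2
  have hwu : uh σ w u = 0 := by simp [uh, dotProduct, Fin.sum_univ_three, u, w]
  have huw : uh σ u w = 0 := h.swap_zero hwu
  have hww : uh σ w w = 1 := by simp [uh, dotProduct, Fin.sum_univ_three, w]
  have hee : uh σ e e = 0 := by
    simp [uh, dotProduct, Fin.sum_univ_three, e, hωσ, map_pow]
    linear_combination (ω ^ 3 + 2) * hω3 + h2
  have heu : uh σ e u = 1 := by
    simp [uh, dotProduct, Fin.sum_univ_three, u, e]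
    linear_combination hω - h2
  have hue : uh σ u e = 1 := by rw [← h.symm, heu, map_one]
  have hew : uh σ e w = 0 := by simp [uh, dotProduct, Fin.sum_univ_three, w, e]
  have hwe : uh σ w e = 0 := h.swap_zero hew
  have hdec : ∀ x : Fin 3 → F, x = uh σ x e • u + uh σ x w • w + uh σ x u • e := fun x => by
    funext i
    fin_cases i <;>
      simp [uh, dotProduct, Fin.sum_univ_three, u, w, e, hωσ, map_pow]
    · linear_combination -(x 0) * hω - (x 1) * ω * hω3 + (x 0 - x 1 * ω) * h2
    · linear_combination -(x 1) * hω - (x 1) * ω * hω3 + (x 1 - x 0 * ω ^ 2) * h2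
  have hext : ∀ g k : Cfsg.SU 3 F q, g.1.1 *ᵥ u = k.1.1 *ᵥ u → g.1.1 *ᵥ w = k.1.1 *ᵥ w →
      g.1.1 *ᵥ e = k.1.1 *ᵥ e → g = k := fun g k h1 h2 h3 => su_ext fun x => by
    rw [hdec x]; simp [mulVec_add, mulVec_smul, h1, h2, h3]
  -- the stabiliser of `u` consists of Siegel transformations
  have hQ : ∀ g : Cfsg.SU 3 F q, g ∈ vecStab 3 F q u →
      ∃ a c, ∃ hc : c + σ c + a * σ a * uh σ w w = 0, g = usg h u w a c huu hwu hc := by
    intro g hg
    have hgu : g.1.1 *ᵥ u = u := hg
    set E := g.1.1 *ᵥ e with hE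
    have hEu : uh σ E u = 1 := by
      conv_lhs => arg 3; rw [← hgu]
      rw [hE, su_uh h, heu]
    set a := uh σ E w
    set c := uh σ E e
    have hEd : E = c • u + a • w + e := by
      conv_lhs => rw [hdec E, hEu, one_smul]
    have hc : c + σ c + a * σ a * uh σ w w = 0 := by
      have := su_uh h g e e
      rw [← hE, hee, hEd] at this
      simp only [uh_add_left, uh_add_right, uh_smul_left, uh_smul_right, huu, hwu, huw, hee, hew,
        hwe, heu, hue, hww] at this
      rw [hww]; linear_combination this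
    refine ⟨a, c, hc, ?_⟩
    let k := (usg h u w a c huu hwu hc)⁻¹ * g
    have hku : k.1.1 *ᵥ u = u := by
      rw [su_mul_mulVec, hgu]
      have : (usg h u w a c huu hwu hc).1.1 *ᵥ u = u := by
        rw [usg_mulVec, huu, huw]; simp
      conv_lhs => arg 2; rw [← this]
      rw [su_inv_mulVec]
    have hke : k.1.1 *ᵥ e = e := by
      rw [su_mul_mulVec, ← hE]
      have : (usg h u w a c huu hwu hc).1.1 *ᵥ e = E := by
        rw [usg_mulVec, heu, hew, hEd]; module
      rw [← this, su_inv_mulVec]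
    have hk1 := su_uh h k w u
    have hk2 := su_uh h k w e
    rw [hku, hwu] at hk1
    rw [hke, hwe] at hk2
    set b := uh σ (k.1.1 *ᵥ w) w
    have hkw : k.1.1 *ᵥ w = b • w := by
      rw [hdec (k.1.1 *ᵥ w), hk1, hk2]; simp [b]
    have hkM : k.1.1 = tMat σ w (b - 1) := Matrix.ext_iff_mulVec.2 fun x => by
      rw [hdec x]
      simp only [mulVec_add, mulVec_smul, hku, hke, hkw, tMat_mulVec, huw, hew, hww]
      module
    have hb : b - 1 = 0 := by
      have := k.1.2
      rw [hkM, det_tMat, hww, mul_one] at this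
      linear_combination this
    have hk : k = 1 := su_ext fun x => by rw [hkM, hb, su_one_mulVec, tMat_mulVec]; simp
    exact (inv_mul_eq_one.1 hk).symm
  have hmemQ : ∀ a c hc, usg h u w a c huu hwu hc ∈ vecStab 3 F q u := fun a c hc => by
    show _ *ᵥ u = u
    rw [usg_mulVec, huu, huw]; simp
  have hpar : ∀ a c a' c' : F, sMat σ u w a c = sMat σ u w a' c' → a = a' ∧ c = c' := by
    intro a c a' c' he
    have h1 := congrArg (fun g : Matrix (Fin 3) (Fin 3) F => g *ᵥ e) he
    simp only [sMat_mulVec, heu, hew] at h1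
    have hA := congrArg (fun z => uh σ z w) h1
    have hC := congrArg (fun z => uh σ z e) h1
    simp [uh_add_left, uh_smul_left, hew, hww, huw] at hA
    simp [uh_add_left, uh_smul_left, hee, hwe, hue] at hC
    exact ⟨hA, hC⟩
  have hQcard : Nat.card (vecStab 3 F q u) = 8 := by
    obtain ⟨θ, hθ⟩ := exists_trace h
    let φ : F × σ.eqLocusField (RingHom.id F) → vecStab 3 F q u := fun p =>
      ⟨usg h u w p.1 ((p.2 : F) - θ * (p.1 * σ p.1)) huu hwu (by
        have hs : σ (p.2 : F) = p.2 := p.2.2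
        simp only [map_sub, map_mul, h.invol, hs, hww]
        linear_combination (p.2 : F) * h2 - (p.1 * σ p.1) * hθ), hmemQ _ _ _⟩
    have hφ : Function.Bijective φ := by
      constructor
      · rintro ⟨a, s⟩ ⟨a', s'⟩ he
        obtain ⟨h1, h3⟩ := hpar _ _ _ _ (congrArg (fun g : vecStab 3 F q u => g.1.1.1) he)
        subst h1
        exact Prod.ext rfl (Subtype.ext (sub_left_inj.1 h3))
      · rintro ⟨g, hg⟩
        obtain ⟨a, c, hc, rfl⟩ := hQ g hg
        have hc' := hc
        rw [hww] at hc'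
        refine ⟨(a, ⟨c + θ * (a * σ a), ?_⟩), Subtype.ext (su_ext fun x => ?_)⟩
        · show σ (c + θ * (a * σ a)) = c + θ * (a * σ a)
          simp only [map_add, map_mul, h.invol]
          linear_combination hc' + (a * σ a) * hθ - (c + (a * σ a) * θ) * h2
        · simp only [φ, add_sub_cancel_right]
    rw [← Nat.card_congr (Equiv.ofBijective φ hφ), Nat.card_prod, fixed_card_eq hF h.pow, hF, hq]
    norm_num
  set Z := Subgroup.center (Cfsg.SU 3 F q)
  set H : Subgroup (Cfsg.PSU 3 F q) := (vecStab 3 F q u).map (QuotientGroup.mk' Z)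
  have hscal : ∀ z ∈ Z, ∃ c : F, c ≠ 0 ∧ ∀ x, z.1.1 *ᵥ x = c • x := fun z hz => by
    obtain ⟨c, hc, -, hz'⟩ := SU_center_scalar hF (by norm_num) hz
    refine ⟨c, fun h0 => by simp [h0] at hc, fun x => ?_⟩
    rw [hz']; funext i; simp [mulVec_diagonal]
  have hu0 : u ≠ 0 := fun h0 => by simpa [u] using congrFun h0 0
  have hQZ : ∀ g ∈ vecStab 3 F q u, g ∈ Z → g = 1 := fun g hg hgz => by
    obtain ⟨c, -, hc⟩ := hscal g hgz
    have : c • u = (1 : F) • u := by rw [one_smul, ← hc]; exact hg
    have hc1 : c = 1 := smul_left_injective F hu0 this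
    exact su_ext fun x => by rw [hc, hc1, one_smul, su_one_mulVec]
  let π : vecStab 3 F q u →* H := (QuotientGroup.mk' Z).subgroupMap (vecStab 3 F q u)
  have hπ : Function.Bijective π := by
    refine ⟨(injective_iff_map_eq_one π).2 fun g hg => Subtype.ext (hQZ g.1 g.2 ?_),
      MonoidHom.subgroupMap_surjective _ _⟩
    exact (QuotientGroup.eq_one_iff _).1 (congrArg Subtype.val hg)
  have hHcard : Nat.card H = 8 := (Nat.card_congr (Equiv.ofBijective π hπ)).symm.trans hQcard
  have hTI : ∀ g : Cfsg.PSU 3 F q, ∀ x ∈ H, x ≠ 1 → g * x * g⁻¹ ∈ H → g ∈ H := by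
    intro g x hx hx1 hconj
    obtain ⟨G, rfl⟩ := QuotientGroup.mk_surjective g
    obtain ⟨k, hk, rfl⟩ := hx
    obtain ⟨k', hk', hkk⟩ := hconj
    have hz : k'⁻¹ * (G * k * G⁻¹) ∈ Z := by
      rw [← QuotientGroup.eq]; exact hkk
    obtain ⟨c, hc0, hc⟩ := hscal _ hz
    have hcv : k'.1.1 *ᵥ (G.1.1 *ᵥ u) = c⁻¹ • (G.1.1 *ᵥ u) := by
      have h1 := hc (G.1.1 *ᵥ u)
      rw [su_mul_mulVec, su_mul_mulVec, su_mul_mulVec, su_inv_mulVec, hk] at h1
      have h3 := congrArg (fun z => k'.1.1 *ᵥ z) h1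
      simp only [su_mulVec_inv, mulVec_smul] at h3
      exact (eq_inv_smul_iff₀ hc0).2 h3.symm
    obtain ⟨a, cc, hcc, rfl⟩ := hQ k' hk'
    set v := G.1.1 *ᵥ u with hv_def
    have hvv : uh σ v v = 0 := by rw [hv_def, su_uh h, huu]
    rw [usg_mulVec] at hcv
    by_cases hvu : uh σ v u = 0
    · have hb : uh σ v w = 0 := by
        have := hvv
        rw [hdec v, hvu] at this
        simp [uh_add_left, uh_add_right, uh_smul_left, uh_smul_right, huu, huw, hwu, hww] at this
        exact this
      have hvu' : v = uh σ v e • u := by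
        conv_lhs => rw [hdec v, hvu, hb]
        simp
      set l := uh σ v e with hl
      have hl0 : l ≠ 0 := fun h0 => by
        rw [h0, zero_smul, hv_def] at hvu'
        have := congrArg (fun z => (G⁻¹).1.1 *ᵥ z) hvu'
        simp only [mulVec_zero] at this
        rw [su_inv_mulVec] at this
        exact hu0 this
      have hld : (Matrix.diagonal fun _ : Fin 3 => l⁻¹).det = 1 := by
        have h3 : l ^ 3 = 1 := by
          have := hN1 l hl0
          rwa [h.pow, hq, ← pow_succ'] at this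
        simp [Matrix.det_diagonal, h3]
      let z : Cfsg.SU 3 F q := ⟨⟨_, hld⟩, diagonal_mem_SU (fun _ => by
        rw [pow_succ', ← h.pow, hN1 _ (inv_ne_zero hl0)]) hld⟩
      have hzc : z ∈ Z := Subgroup.mem_center_iff.2 fun k => Subtype.ext (Subtype.ext (by
        show k.1.1 * Matrix.diagonal _ = Matrix.diagonal _ * k.1.1
        ext i j; simp [mul_comm]))
      have hzG : z * G ∈ vecStab 3 F q u := by
        show (z * G).1.1 *ᵥ u = u
        rw [su_mul_mulVec, ← hv_def, hvu']
        funext i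
        show ((Matrix.diagonal fun _ => l⁻¹) *ᵥ (l • u)) i = u i
        simp [mulVec_diagonal, inv_mul_cancel_left₀ hl0]
      refine ⟨z * G, hzG, ?_⟩
      show ((z * G : Cfsg.SU 3 F q) : Cfsg.SU 3 F q ⧸ Z) = G
      rw [QuotientGroup.mk_mul, (QuotientGroup.eq_one_iff z).2 hzc, one_mul]
    · exfalso
      have h1 := congrArg (fun z => uh σ z u) hcv
      simp [uh_add_left, uh_smul_left, huu, hwu] at h1
      have hc1 : c⁻¹ = 1 := (mul_eq_right₀ hvu).1 h1.symm
      rw [hc1, one_smul, add_assoc, add_eq_left] at hcv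
      have h3 := congrArg (fun z => uh σ z w) hcv
      simp [uh_add_left, uh_smul_left, uh_zero_left, huw, hww] at h3
      rcases h3 with ha | h3
      swap; · exact hvu h3
      subst ha
      simp [hu0, hvu] at hcv
      subst hcv
      refine hx1 ((QuotientGroup.eq_one_iff _).2 ?_)
      have : usg h u w 0 0 huu hwu hcc = 1 := su_ext fun x => by simp [usg_mulVec]
      rw [this, inv_one, one_mul] at hz
      have := (inferInstance : Z.Normal).conj_mem _ hz G⁻¹
      simpa [mul_assoc] using this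
  obtain ⟨N, hN, hN9, hN3, ⟨eN⟩⟩ := exists_normal_nine hcard H hHcard hTI
  refine ⟨hcard, N, hN, hN9, hN3, ⟨eN.trans ((MulEquiv.ofBijective π hπ).symm.trans ?_)⟩⟩
  have : Fact (Nat.Prime 2) := ⟨Nat.prime_two⟩
  have hS : IsPGroup 2 (vecStab 3 F q u) := IsPGroup.of_card (n := 3) (by rw [hQcard]; norm_num)
  have h10 : (1 : F) + σ 1 + 0 * σ 0 * uh σ w w = 0 := by
    simp; linear_combination h2
  let z : vecStab 3 F q u := ⟨usg h u w 0 1 huu hwu h10, hmemQ _ _ _⟩
  have hmul : ∀ a c hc b d hd, ∀ x, ((usg h u w a c huu hwu hc) * usg h u w b d huu hwu hd).1.1 *ᵥ x =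
      x + ((a + b) * uh σ x u) • w + ((c + d - σ a * b) * uh σ x u - σ (a + b) * uh σ x w) • u := by
    intro a c hc b d hd x
    simp only [su_mul_mulVec, usg_mulVec, uh_add_left, uh_smul_left, huu, hwu, huw, hww, map_add]
    match_scalars <;> ring
  have hz : z ^ 2 = 1 := Subtype.ext (su_ext fun x => by
    rw [sq, Subgroup.coe_mul, hmul, Subgroup.coe_one, su_one_mulVec]
    have : (1 : F) + 1 = 0 := by linear_combination h2
    simp [this])
  have huniq : ∀ y : vecStab 3 F q u, y ^ 2 = 1 → y ∈ Subgroup.zpowers z := by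
    rintro ⟨y, hy⟩ hy2
    obtain ⟨a, c, hc, rfl⟩ := hQ y hy
    have h1 : (usg h u w a c huu hwu hc * usg h u w a c huu hwu hc).1.1 *ᵥ e = e := by
      have := congrArg (fun g : vecStab 3 F q u => g.1) hy2
      simp only [sq, Subgroup.coe_mul, Subgroup.coe_one] at this
      rw [this, su_one_mulVec]
    rw [hmul, heu, hew] at h1
    have h3 := congrArg (fun z => uh σ z e) h1
    simp [uh_add_left, uh_smul_left, hee, hwe, hue] at h3
    have ha : a = 0 := by
      have : σ a * a = 0 := by linear_combination c * h2 - h3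
      rcases mul_eq_zero.1 this with h' | h'
      · exact (map_eq_zero σ).1 h'
      · exact h'
    subst ha
    rcases eq_or_ne c 0 with rfl | hc0
    · exact (show (⟨_, hy⟩ : vecStab 3 F q u) = 1 from
        Subtype.ext (su_ext fun x => by simp [usg_mulVec])) ▸ one_mem _
    · have hc1 : c = 1 := by
        have h4 : σ c = c := by simp at hc; linear_combination hc - c * h2
        have h5 := hN1 c hc0
        rw [h4] at h5
        exact sub_eq_zero.1 (pow_eq_zero_iff two_ne_zero |>.1
          (show (c - 1) ^ 2 = 0 by linear_combination h5 - (c - 1) * h2))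
      subst hc1
      exact Subgroup.mem_zpowers z
  refine Classical.choice ?_
  rcases CfsgLib.PGroups.isCyclic_or_quaternion_of_unique hS hz huniq with hcyc | ⟨-, n, hn, ⟨eQ⟩⟩
  · exfalso
    have hω1 : (1 : F) * σ 1 = 1 := by simp
    have hcA : ω + σ ω + 1 * σ 1 * uh σ w w = 0 := by
      rw [hωσ, hww, hω1]; linear_combination hω
    have hcB : ω + σ ω + ω * σ ω * uh σ w w = 0 := by
      rw [hωσ, hww]; linear_combination hω + hω3
    have hcomm := hcyc.isMulCommutative.is_comm.comm
      (⟨_, hmemQ _ _ hcA⟩ : vecStab 3 F q u) ⟨_, hmemQ _ _ hcB⟩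
    have h0 := congrArg (fun g : vecStab 3 F q u => g.1) hcomm
    simp only [Subgroup.coe_mul] at h0
    have := congrArg (fun g : Cfsg.SU 3 F q => g.1.1 *ᵥ e) h0
    rw [hmul, hmul] at this
    simp only [heu, hew, map_one, hωσ] at this
    have h4 := congrArg (fun z => uh σ z e) this
    simp [uh_add_left, uh_smul_left, hee, hwe, hue] at h4
    exact one_ne_zero (α := F) (by linear_combination hω + h4 - ω ^ 2 * h2 : (1 : F) = 0)
  · have hn' : n = 1 := by
      have h8 := Nat.card_congr eQ.toEquiv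
      have : NeZero (2 ^ n) := ⟨by positivity⟩
      rw [hQcard, Nat.card_eq_fintype_card, QuaternionGroup.card] at h8
      have : 2 ^ n = 2 ^ 1 := by omega
      exact Nat.pow_right_injective le_rfl this
    subst hn'
    exact ⟨eQ⟩

end Unitary

end CfsgLib.Classical
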