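import Cfsg.Agent.Lib.Classical.OmegaSixMinus
import Cfsg.Agent.Lib.Classical.OmegaFive

/-!
`PΩ⁻₆(2) ≅ PΩ₅(3)`: both groups are images of the group generated by six reflections
(a root system of type `E₆` read modulo `2` and modulo `3`).
-/

set_option autoImplicit false
set_option maxRecDepth 4000

namespace CfsgLib.Classical.ESix

open QuadraticMap CfsgLib.Geometry Matrix

/-- The index type of the six-dimensional space. -/
abbrev I2 : Type := (Fin 2 ⊕ Fin 2) ⊕ Fin 2

/-- The index type of the five-dimensional space. -/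
abbrev I3 : Type := Unit ⊕ (Fin 2 ⊕ Fin 2)

/-- The six-dimensional space over two elements. -/
abbrev V2 : Type := I2 → ZMod 2

/-- The five-dimensional space over three elements. -/
abbrev V3 : Type := I3 → ZMod 3

/-- Vectors of the six-dimensional space from coordinates. -/
def e2 (a b c d e f : ZMod 2) : V2 := Sum.elim (Sum.elim ![a, b] ![c, d]) ![e, f]

/-- Vectors of the five-dimensional space from coordinates. -/
def e3 (a b c d e : ZMod 3) : V3 := Sum.elim (fun _ => a) (Sum.elim ![b, c] ![d, e])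

/-- The minus form over two elements. -/
def f2 (v : V2) : ZMod 2 := Cfsg.quadFormMinus 2 (ZMod 2) 1 1 v

/-- The odd form over three elements. -/
def f3 (v : V3) : ZMod 3 := Cfsg.quadFormOdd 2 (ZMod 3) v

/-- The reflection formula. -/
def rf2 (a v : V2) : V2 := v - (f2 (v + a) - f2 v - f2 a) • a

/-- The reflection formula. -/
def rf3 (a v : V3) : V3 := v - (f3 a * (f3 (v + a) - f3 v - f3 a)) • a

def table : List (V2 × V3) := [
  (e2 0 0 0 0 0 1, e3 0 0 1 0 2),
  (e2 0 0 0 0 1 0, e3 0 0 1 1 2),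
  (e2 0 0 0 1 0 1, e3 0 1 0 2 0),
  (e2 0 1 0 1 0 0, e3 1 0 1 1 1),
  (e2 1 0 1 1 0 0, e3 1 0 1 0 1),
  (e2 0 1 1 1 0 0, e3 1 0 2 1 2),
  (e2 0 0 0 0 1 1, e3 0 0 2 1 1),
  (e2 0 0 0 1 1 1, e3 0 1 1 0 2),
  (e2 0 1 0 0 0 1, e3 1 1 1 0 1),
  (e2 0 1 1 0 0 1, e3 1 1 2 0 2),
  (e2 1 1 1 0 0 0, e3 2 0 2 1 2),
  (e2 0 0 0 1 1 0, e3 0 1 2 0 1),
  (e2 0 1 0 0 1 1, e3 1 1 2 1 0),
  (e2 0 1 1 0 1 1, e3 1 1 0 1 1),
  (e2 1 1 1 1 0 1, e3 2 1 2 0 2),
  (e2 0 0 1 1 0 1, e3 2 1 0 1 0),
  (e2 0 1 0 0 1 0, e3 1 1 0 1 2),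
  (e2 0 1 1 0 1 0, e3 1 1 1 1 0),
  (e2 1 1 1 1 1 1, e3 2 1 0 1 1),
  (e2 0 0 1 1 1 1, e3 2 1 1 2 2),
  (e2 1 0 0 0 0 1, e3 0 1 1 1 1),
  (e2 1 1 1 1 1 0, e3 2 1 1 1 0),
  (e2 0 0 1 1 1 0, e3 2 1 2 2 1),
  (e2 1 0 0 0 1 1, e3 0 1 2 2 0),
  (e2 0 0 1 0 1 0, e3 2 2 1 1 2),
  (e2 1 0 0 0 1 0, e3 0 1 0 2 2),
  (e2 0 0 1 0 1 1, e3 2 2 2 1 1),
  (e2 1 0 0 1 1 0, e3 0 2 2 1 0),
  (e2 1 0 0 1 1 1, e3 0 2 0 1 2),
  (e2 0 0 1 0 0 1, e3 2 2 0 2 0),
  (e2 1 1 0 0 1 0, e3 1 2 0 2 1),
  (e2 1 0 0 1 0 1, e3 0 2 1 2 1),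
  (e2 1 1 0 0 1 1, e3 1 2 1 2 0),
  (e2 1 1 0 0 0 1, e3 1 2 2 0 2),
  (e2 1 1 0 1 0 0, e3 1 0 2 2 2),
  (e2 1 0 1 0 0 0, e3 2 0 1 0 1)]

def steps : List (ℕ × ℕ) := [(0, 1), (1, 2), (2, 3), (2, 5), (3, 4), (6, 2), (7, 3), (7, 5), (8, 4), (8, 5), (11, 3), (11, 5), (12, 4), (12, 5), (14, 5), (16, 4), (16, 5), (18, 5), (19, 2), (21, 5), (22, 2), (23, 2), (25, 2), (26, 1), (27, 3), (28, 1), (28, 3), (31, 3), (33, 2), (34, 5)]


/-- An entry of the table. -/
def ent (i : Fin 36) : V2 × V3 := table.getD i.val (0, 0)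

/-- The simple roots are the first six entries. -/
def root (i : Fin 6) : V2 × V3 := ent (i.castLE (by norm_num))

theorem f2_ent : ∀ i, f2 (ent i).1 = 1 := by decide +kernel

theorem f3_ent : ∀ i, f3 (ent i).2 = 2 := by decide +kernel

theorem table_closed : ∀ (g : Fin 6) (i : Fin 36), ∃ j : Fin 36,
    rf2 (root g).1 (ent i).1 = (ent j).1 ∧
      (rf3 (root g).2 (ent i).2 = (ent j).2 ∨ rf3 (root g).2 (ent i).2 = -(ent j).2) := by
  decide +kernel

theorem table_cover : ∀ v : V2, f2 v ≠ 0 → ∃ i, (ent i).1 = v := by decide +kernel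

theorem table_lines : ∀ i j, ((ent i).2 = (ent j).2 ∨ (ent i).2 = -(ent j).2) → i = j := by
  decide +kernel

theorem table_inj : ∀ i j, (ent i).1 = (ent j).1 → i = j := by decide +kernel

theorem table_steps : ∀ j : Fin 30, ∃ k : Fin 36, ∃ g : Fin 6, k.val < j.val + 6 ∧
    rf2 (root g).1 (ent k).1 = (ent ⟨j.val + 6, by omega⟩).1 := by decide +kernel

theorem table_span : ∀ v : V2, ∃ c : Fin 6 → ZMod 2, ∑ g, c g • (root g).1 = v := by decide +kernel

theorem table_noncomm : rf2 (root 0).1 (rf2 (root 1).1 (root 0).1) ≠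
    rf2 (root 1).1 (rf2 (root 0).1 (root 0).1) := by decide +kernel

instance fact_three : Fact (Nat.Prime 3) := ⟨Nat.prime_three⟩

/-- The minus form. -/
noncomputable def Q2 : QuadraticForm (ZMod 2) V2 := matQuad (minusMat 2 (ZMod 2) 1 1)

/-- The odd form. -/
noncomputable def Q3 : QuadraticForm (ZMod 3) V3 := matQuad (oddMat 2 (ZMod 3))

theorem Q2_apply (v : V2) : Q2 v = f2 v := congrFun (coe_matQuad_minus 2 1 1) v

theorem Q3_apply (v : V3) : Q3 v = f3 v := congrFun (coe_matQuad_odd 2) v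

theorem aniso_two : ∀ z₁ z₂ : ZMod 2, z₁ ^ 2 + 1 * z₁ * z₂ + 1 * z₂ ^ 2 = 0 → z₁ = 0 ∧ z₂ = 0 := by
  decide

theorem nondeg_Q2 : (polarBilin Q2).Nondegenerate := nondeg_minus_two aniso_two

theorem finrank_V2 : Module.finrank (ZMod 2) V2 = 6 := by simp

theorem ne_two {a : V2} (h : f2 a = 1) : Q2 a ≠ 0 := by rw [Q2_apply, h]; exact one_ne_zero

theorem ne_three {a : V3} (h : f3 a = 2) : Q3 a ≠ 0 := by rw [Q3_apply, h]; decide

/-- The reflection of an entry in the six-dimensional space. -/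
noncomputable def s2 (i : Fin 36) : orth Q2 :=
  ⟨refl Q2 (ent i).1 (ne_two (f2_ent i)), refl_mem_orth _ _ _⟩

/-- The reflection of an entry in the five-dimensional space. -/
noncomputable def s3 (i : Fin 36) : orth Q3 :=
  ⟨refl Q3 (ent i).2 (ne_three (f3_ent i)), refl_mem_orth _ _ _⟩

theorem s2_apply (i : Fin 36) (v : V2) : (s2 i).1 v = rf2 (ent i).1 v := by
  show refl Q2 (ent i).1 (ne_two (f2_ent i)) v = _
  rw [refl_apply, rf2, QuadraticMap.polar, Q2_apply, Q2_apply, Q2_apply, f2_ent, inv_one, one_mul]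

theorem s3_apply (i : Fin 36) (v : V3) : (s3 i).1 v = rf3 (ent i).2 v := by
  show refl Q3 (ent i).2 (ne_three (f3_ent i)) v = _
  rw [refl_apply, rf3, QuadraticMap.polar, Q3_apply, Q3_apply, Q3_apply, f3_ent,
    show ((2 : ZMod 3))⁻¹ = 2 from inv_eq_of_mul_eq_one_right (by decide)]

instance finite_orth_two : Finite (orth Q2) :=
  Finite.of_injective (fun g => (⇑g.1 : V2 → V2)) fun _ _ h =>
    Subtype.ext (LinearEquiv.ext (congrFun h))

instance finite_orth_three : Finite (orth Q3) :=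
  Finite.of_injective (fun g => (⇑g.1 : V3 → V3)) fun _ _ h =>
    Subtype.ext (LinearEquiv.ext (congrFun h))

/-- The pair of reflections in a simple root. -/
noncomputable def gen (g : Fin 6) : orth Q2 × orth Q3 :=
  (s2 (g.castLE (by norm_num)), s3 (g.castLE (by norm_num)))

/-- The group generated by the six pairs of reflections. -/
noncomputable def W : Subgroup (orth Q2 × orth Q3) := Subgroup.closure (Set.range gen)

/-- Compatibility with the table. -/
def Compat (w : orth Q2 × orth Q3) : Prop :=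
  ∀ i, ∃ j, w.1.1 (ent i).1 = (ent j).1 ∧ (w.2.1 (ent i).2 = (ent j).2 ∨ w.2.1 (ent i).2 = -(ent j).2)

theorem compat_of_mem : ∀ w ∈ W, Compat w := by
  have hmul : ∀ a b, Compat a → Compat b → Compat (a * b) := by
    intro a b ha hb i
    obtain ⟨j, hj1, hj2⟩ := hb i
    obtain ⟨k, hk1, hk2⟩ := ha j
    refine ⟨k, (congrArg a.1.1 hj1).trans hk1, ?_⟩
    show a.2.1 (b.2.1 (ent i).2) = _ ∨ a.2.1 (b.2.1 (ent i).2) = _
    rcases hj2 with h | h <;> rcases hk2 with h' | h' <;> simp [h, h']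
  intro w hw
  rw [W, ← Subgroup.mem_toSubmonoid, Subgroup.closure_toSubmonoid_of_finite] at hw
  induction hw using Submonoid.closure_induction with
  | mem x hx =>
    obtain ⟨g, rfl⟩ := hx
    intro i
    obtain ⟨j, h1, h2⟩ := table_closed g i
    refine ⟨j, ?_, ?_⟩
    · exact (s2_apply _ _).trans h1
    · show (s3 _).1 _ = _ ∨ (s3 _).1 _ = _
      rw [s3_apply]
      exact h2
  | one => exact fun i => ⟨i, rfl, Or.inl rfl⟩
  | mul a b _ _ ha hb => exact hmul a b ha hb

theorem map_fst_W : W.map (MonoidHom.fst (orth Q2) (orth Q3)) = ⊤ := by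
  set M := W.map (MonoidHom.fst (orth Q2) (orth Q3)) with hM
  have hbase : ∀ g : Fin 6, s2 (g.castLE (by norm_num)) ∈ M := fun g =>
    ⟨gen g, Subgroup.subset_closure ⟨g, rfl⟩, rfl⟩
  have hall : ∀ n, ∀ i : Fin 36, i.val = n → s2 i ∈ M := by
    intro n
    induction n using Nat.strong_induction_on with
    | _ n ih =>
      intro i hi
      rcases Nat.lt_or_ge n 6 with h | h
      · have := hbase ⟨n, h⟩
        rwa [show (Fin.castLE (by norm_num) (⟨n, h⟩ : Fin 6) : Fin 36) = i from Fin.ext hi.symm] at this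
      · obtain ⟨k, g, hk, he⟩ := table_steps ⟨n - 6, by omega⟩
        simp only [] at hk
        have hi' : (⟨n - 6 + 6, by omega⟩ : Fin 36) = i := Fin.ext (by simp only []; omega)
        rw [hi'] at he
        have hkM : s2 k ∈ M := ih k.val (by omega) k rfl
        set a := s2 (g.castLE (by norm_num)) with ha
        have haM : a ∈ M := hbase g
        have e : s2 i = a * s2 k * a⁻¹ := by
          apply Subtype.ext
          show refl Q2 (ent i).1 (ne_two (f2_ent i)) = a.1 * refl Q2 (ent k).1 (ne_two (f2_ent k)) * a.1⁻¹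
          rw [refl_conj Q2 a.2]
          congr 1
          exact he.symm.trans (s2_apply _ _).symm
        rw [e]
        exact mul_mem (mul_mem haM hkM) (inv_mem haM)
  have hR := reflGroup_eq_orth nondeg_Q2 (Or.inl (by rw [finrank_V2]; norm_num))
  have hle : reflGroup Q2 ≤ M.map (orth Q2).subtype := by
    rw [reflGroup, Subgroup.closure_le]
    rintro x ⟨a, ha, rfl⟩
    obtain ⟨i, rfl⟩ := table_cover a (by rwa [← Q2_apply])
    exact ⟨s2 i, hall _ i rfl, rfl⟩
  refine eq_top_iff.2 fun x _ => ?_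
  have hx : x.1 ∈ reflGroup Q2 := by rw [hR]; exact x.2
  obtain ⟨y, hy, hxy⟩ := hle hx
  obtain rfl : y = x := Subtype.ext hxy
  exact hy

/-- The derived group of `W`. -/
noncomputable def D : Subgroup (orth Q2 × orth Q3) := ⁅W, W⁆

theorem D_le : D ≤ W := Subgroup.commutator_le_self W

theorem map_fst_D : D.map (MonoidHom.fst (orth Q2) (orth Q3)) = commutator (orth Q2) := by
  rw [D, Subgroup.map_commutator, map_fst_W, commutator_def]

theorem map_snd_D : D.map (MonoidHom.snd (orth Q2) (orth Q3)) ≤ commutator (orth Q3) := by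
  rw [D, Subgroup.map_commutator, commutator_def]
  exact Subgroup.commutator_mono le_top le_top

theorem eq_one_of_snd {w : orth Q2 × orth Q3} (hw : w ∈ W) (h : w.2 = 1) : w = 1 := by
  refine Prod.ext (Subtype.ext (LinearEquiv.ext fun v => ?_)) h
  have hfix : ∀ i, w.1.1 (ent i).1 = (ent i).1 := by
    intro i
    obtain ⟨j, h1, h2⟩ := compat_of_mem w hw i
    rw [h] at h2
    rw [h1, table_lines i j h2]
  obtain ⟨c, rfl⟩ := table_span v
  show w.1.1 (∑ g, c g • (root g).1) = ∑ g, c g • (root g).1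
  rw [map_sum]
  exact Finset.sum_congr rfl fun g _ => by rw [map_smul, root, hfix]

theorem root_connected : ∀ ε : Fin 6 → ZMod 3, (∀ g, ε g = 1 ∨ ε g = 2) →
    (∀ g g' : Fin 6, f3 (ε g • (root g).2 + ε g' • (root g').2) = f3 ((root g).2 + (root g').2)) →
    ∀ g, ε g = ε 0 := by decide +kernel

theorem root_span_three : ∀ v : V3, ∃ c : Fin 6 → ZMod 3, ∑ g, c g • (root g).2 = v := by
  decide +kernel

theorem snd_central_of_fst {w : orth Q2 × orth Q3} (hw : w ∈ W) (h : w.1 = 1) (x : orth Q3) :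
    x * w.2 = w.2 * x := by
  have hline : ∀ i, ∃ ε : ZMod 3, (ε = 1 ∨ ε = 2) ∧ w.2.1 (ent i).2 = ε • (ent i).2 := by
    intro i
    obtain ⟨j, h1, h2⟩ := compat_of_mem w hw i
    rw [h] at h1
    have hij : i = j := table_inj i j h1
    rw [← hij] at h2
    rcases h2 with h2 | h2
    · exact ⟨1, Or.inl rfl, by rw [h2, one_smul]⟩
    · exact ⟨2, Or.inr rfl, by rw [h2, show (2 : ZMod 3) = -1 by decide, neg_one_smul]⟩
  choose ε hε hεw using hline
  have hc : ∀ g : Fin 6, ε (g.castLE (by norm_num)) = ε 0 := by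
    refine root_connected (fun g => ε (g.castLE (by norm_num))) (fun g => hε _) fun g g' => ?_
    simp only [root]
    rw [← Q3_apply, ← Q3_apply, ← hεw, ← hεw, ← map_add]
    exact w.2.2 _
  have hscal : ∀ v, w.2.1 v = ε 0 • v := by
    intro v
    obtain ⟨c, rfl⟩ := root_span_three v
    rw [map_sum, Finset.smul_sum]
    refine Finset.sum_congr rfl fun g _ => ?_
    rw [map_smul, root, hεw, hc, smul_comm]
  refine Subtype.ext (LinearEquiv.ext fun v => ?_)
  show x.1 (w.2.1 v) = w.2.1 (x.1 v)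
  rw [hscal, hscal, map_smul]

theorem card_orth_two : Nat.card (orth Q2) = 51840 := by
  rw [card_orth_eq, Q2, coe_matQuad_minus, card_isometry_minus 2 aniso_two, Nat.card_zmod]
  simp [Finset.prod_range_succ]

theorem card_orth_three : Nat.card (orth Q3) = 103680 := by
  rw [card_orth_eq, Q3, coe_matQuad_odd, card_isometry_odd (by decide) 2, Nat.card_zmod]
  simp [Finset.prod_range_succ]

theorem index_two : (commutator (orth Q2)).index = 2 := by
  rw [index_commutator_orth nondeg_Q2 (by simp)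
    (reflGroup_eq_orth nondeg_Q2 (Or.inl (by rw [finrank_V2]; norm_num))), Nat.card_zmod]
  rfl

theorem index_three : (commutator (orth Q3)).index = 4 := by
  have h2 : (2 : ZMod 3) ≠ 0 := by decide
  show (commutator (orth (matQuad (oddMat 2 (ZMod 3))))).index = 4
  rw [index_commutator_orth (nondeg_odd_two h2) (by simp)
    (reflGroup_eq_orth_of_two_ne (nondeg_odd_two h2) h2), Nat.card_zmod]
  rfl

theorem card_omega_two : Nat.card (commutator (orth Q2)) = 25920 := by
  have h := (commutator (orth Q2)).card_mul_index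
  rw [index_two, card_orth_two] at h
  omega

theorem center_pOmega_two :
    Subgroup.center (commutator (orth Q2) ⧸ Subgroup.center (commutator (orth Q2))) = ⊥ := by
  haveI : IsSimpleGroup (commutator (orth Q2) ⧸ Subgroup.center (commutator (orth Q2))) :=
    isSimpleGroup_omega_mod_center nondeg_Q2 (by rw [finrank_V2]; norm_num)
  refine (Subgroup.Normal.eq_bot_or_eq_top inferInstance).resolve_right fun h => ?_
  set G := commutator (orth Q2) ⧸ Subgroup.center (commutator (orth Q2))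
  letI : CommGroup G := { (inferInstance : Group G) with
    mul_comm := fun a b => (Subgroup.mem_center_iff.1 (h ▸ Subgroup.mem_top b) a) }
  have hpr : (Nat.card G).Prime := IsSimpleGroup.prime_card
  have hcen : Nat.card (Subgroup.center (commutator (orth Q2))) = 1 := by
    rw [Subgroup.card_eq_one, eq_bot_iff]
    intro z hz
    obtain ⟨t, ht, htv⟩ := (mem_center_omega_iff nondeg_Q2 (by rw [finrank_V2]; norm_num) z).1 hz
    obtain rfl : t = 1 := (by decide : ∀ u : ZMod 2, u * u = 1 → u = 1) t ht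
    refine Subgroup.mem_bot.2 (Subtype.ext (Subtype.ext (LinearEquiv.ext fun v => ?_)))
    rw [htv v, one_smul]
    rfl
  have hcard := Subgroup.card_eq_card_quotient_mul_card_subgroup (Subgroup.center (commutator (orth Q2)))
  rw [hcen, mul_one, card_omega_two] at hcard
  rw [show Nat.card G = 25920 from hcard.symm] at hpr
  norm_num at hpr

theorem pOmega_five_three_equiv_six_minus :
    Nonempty (Cfsg.POmega (ZMod 3) (Cfsg.quadFormOdd 2 (ZMod 3)) ≃*
      Cfsg.POmega (ZMod 2) (Cfsg.quadFormMinus 2 (ZMod 2) 1 1)) := by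
  let f : D →* orth Q3 := (MonoidHom.snd (orth Q2) (orth Q3)).comp D.subtype
  let p : D →* commutator (orth Q2) :=
    ((MonoidHom.fst (orth Q2) (orth Q3)).comp D.subtype).codRestrict _
      fun w => map_fst_D ▸ Subgroup.mem_map_of_mem _ w.2
  have hp : Function.Surjective p := by
    intro y
    obtain ⟨w, hw, hwy⟩ := map_fst_D.ge y.2
    exact ⟨⟨w, hw⟩, Subtype.ext hwy⟩
  let π := (QuotientGroup.mk' (Subgroup.center (commutator (orth Q2)))).comp p
  have hf : ∀ w : D, f w = 1 → w = 1 := fun w hw =>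
    Subtype.ext (eq_one_of_snd (D_le w.2) hw)
  have hfin : Finite D := inferInstance
  have hker : f.ker = ⊥ := (Subgroup.eq_bot_iff_forall _).2 fun w hw => hf w hw
  have hπ : Function.Surjective π := (QuotientGroup.mk'_surjective _).comp hp
  have hπc : π.ker ≤ Subgroup.center D := by
    intro w hw
    have hw' : p w ∈ Subgroup.center (commutator (orth Q2)) := (QuotientGroup.eq_one_iff _).1 hw
    have h1 : w.1.1 = 1 := by
      obtain ⟨t, ht, htv⟩ :=
        (mem_center_omega_iff nondeg_Q2 (by rw [finrank_V2]; norm_num) (p w)).1 hw'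
      obtain rfl : t = 1 := (by decide : ∀ u : ZMod 2, u * u = 1 → u = 1) t ht
      refine Subtype.ext (LinearEquiv.ext fun v => ?_)
      show ((p w : orth Q2) : V2 ≃ₗ[ZMod 2] V2) v = v
      rw [htv v, one_smul]
    refine Subgroup.mem_center_iff.2 fun x => Subtype.ext (Prod.ext ?_ ?_)
    · show x.1.1 * w.1.1 = w.1.1 * x.1.1
      rw [h1, mul_one, one_mul]
    · exact snd_central_of_fst (D_le w.2) h1 _
  have hle : f.range ≤ commutator (orth Q3) := by
    rintro y ⟨w, rfl⟩
    exact map_snd_D (Subgroup.mem_map_of_mem _ w.2)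
  obtain ⟨e⟩ := pOmega_equiv_of_hom f π hπ center_pOmega_two (by rw [hker]; exact bot_le) hπc hle
    (c := 1) (by rw [hker, Subgroup.card_bot]) (by
      have h := Nat.card_le_card_of_surjective p hp
      rw [card_omega_two] at h
      rw [card_orth_three, index_three]
      omega)
  rw [← coe_matQuad_odd, ← coe_matQuad_minus]
  exact ⟨e.trans (pOmegaEquiv Q2).symm⟩

theorem psu_four_two_equiv_psp_four_three {F : Type*} [Field F] [Finite F] (hF : Nat.card F = 4) :
    Nonempty (Cfsg.PSU 4 F 2 ≃* Cfsg.PSp 2 (ZMod 3)) := by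
  obtain ⟨alg, σ, t, h, hσ⟩ := exists_quadExt (F := ZMod 2) (K := F) (q := 2)
    (Nat.card_zmod 2) (by rw [hF]; norm_num) aniso_two
  obtain ⟨e1⟩ := pOmega_six_minus_equiv (Nat.card_zmod 2) (by rw [hF]; norm_num) aniso_two h hσ
  obtain ⟨e2⟩ := pOmega_five_three_equiv_six_minus
  obtain ⟨e3⟩ := pOmega_five_equiv (F := ZMod 3) (by rw [Nat.card_zmod]; decide)
  exact ⟨e1.symm.trans (e2.symm.trans e3)⟩

theorem map_symp {L M : Type*} [Field L] [Field M] (m : ℕ) (f : L ≃+* M)
    (A : Matrix (Fin m ⊕ Fin m) (Fin m ⊕ Fin m) L) (hA : A ∈ Matrix.symplecticGroup (Fin m) L) :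
    A.map f ∈ Matrix.symplecticGroup (Fin m) M := by
  rw [SymplecticGroup.mem_iff] at hA ⊢
  have hJ : (Matrix.J (Fin m) L).map f = Matrix.J (Fin m) M := by
    ext (i | i) (j | j) <;> simp [Matrix.J, Matrix.one_apply, apply_ite f]
  have h := congrArg (fun X => X.map f) hA
  simp only [Matrix.map_mul, ← Matrix.transpose_map, hJ] at h
  exact h

/-- `PSp` over isomorphic fields. -/
theorem psp_congr {F K : Type*} [Field F] [Field K] (e : F ≃+* K) (m : ℕ) :
    Nonempty (Cfsg.PSp m F ≃* Cfsg.PSp m K) := by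
  let E : Matrix.symplecticGroup (Fin m) F ≃* Matrix.symplecticGroup (Fin m) K :=
    { toFun := fun g => ⟨g.1.map e, map_symp m e g.1 g.2⟩
      invFun := fun g => ⟨g.1.map e.symm, map_symp m e.symm g.1 g.2⟩
      left_inv := fun g => Subtype.ext (by ext i j; simp)
      right_inv := fun g => Subtype.ext (by ext i j; simp)
      map_mul' := fun g h => Subtype.ext (Matrix.map_mul (f := e)) }
  exact ⟨QuotientGroup.congr _ _ E (by
    ext x
    show x ∈ Subgroup.map E.toMonoidHom _ ↔ _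
    rw [Subgroup.mem_map_equiv, Subgroup.mem_center_iff, Subgroup.mem_center_iff]
    constructor
    · intro h y
      have := congrArg E (h (E.symm y))
      simpa using this
    · intro h y
      apply E.injective
      simpa using h (E y))⟩

theorem psu_four_two_equiv_psp_four {F K : Type*} [Field F] [Finite F] [Field K] [Fintype K]
    (hF : Nat.card F = 4) (hK : Fintype.card K = 3) :
    Nonempty (Cfsg.PSU 4 F 2 ≃* Cfsg.PSp 2 K) := by
  obtain ⟨e1⟩ := psu_four_two_equiv_psp_four_three hF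
  obtain ⟨e2⟩ := psp_congr (ZMod.ringEquivOfPrime K Nat.prime_three hK) 2
  exact ⟨e1.trans e2⟩

end CfsgLib.Classical.ESix
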