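import Cfsg.Agent.Lib.Classical.SympBasic

/-!
`S_{2m+2}` inside `Sp_{2m}(2)`: even subsets of `2m+2` points modulo the whole set.
-/

set_option autoImplicit false

namespace CfsgLib.Classical.PermSymp

open Matrix Finset

abbrev k2 := ZMod 2

variable {m : ℕ}

/-- `{2j, 2j+1}` as an indicator. -/
def eD (j : ℕ) : ℕ → k2 := fun i => (if i = 2 * j then 1 else 0) + if i = 2 * j + 1 then 1 else 0

/-- `{0, …, 2j-1, 2j+1, 2m}` as an indicator. -/
def fD (m j : ℕ) : ℕ → k2 := fun i =>
  (if i < 2 * j then 1 else 0) + (if i = 2 * j + 1 then 1 else 0) + if i = 2 * m then 1 else 0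

theorem two_k2 : (2 : k2) = 0 := by decide

theorem add_self_k2 (x : k2) : x + x = 0 := by linear_combination x * two_k2

theorem sum_eD (V : ℕ → k2) {j : ℕ} (hj : j < m) :
    ∑ i ∈ range (2 * (m + 1)), V i * eD j i = V (2 * j) + V (2 * j + 1) := by
  simp only [eD, mul_add, mul_ite, mul_one, mul_zero, sum_add_distrib, sum_ite_eq', mem_range]
  rw [if_pos (by omega), if_pos (by omega)]

theorem sum_fD (V : ℕ → k2) {j : ℕ} (hj : j < m) :
    ∑ i ∈ range (2 * (m + 1)), V i * fD m j i =
      (∑ i ∈ range (2 * j), V i) + V (2 * j + 1) + V (2 * m) := by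
  simp only [fD, mul_add, mul_ite, mul_one, mul_zero, sum_add_distrib, sum_ite_eq', mem_range]
  rw [if_pos (by omega), if_pos (by omega), ← sum_filter]
  congr 3
  ext i
  simp only [mem_filter, mem_range]
  omega

theorem prefix_pairs (V : ℕ → k2) (k : ℕ) :
    ∑ i ∈ range (2 * k), V i = ∑ j ∈ range k, (V (2 * j) + V (2 * j + 1)) := by
  induction k with
  | zero => simp
  | succ k ih =>
    rw [show 2 * (k + 1) = 2 * k + 1 + 1 by ring, sum_range_succ, sum_range_succ, ih, sum_range_succ]
    ring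

theorem eD_pair (j i : ℕ) : eD j (2 * i) + eD j (2 * i + 1) = 0 := by
  unfold eD
  by_cases h : i = j
  · subst h; simp [add_self_k2]
  · simp [h, show ¬ 2 * i = 2 * j + 1 by omega, show ¬ 2 * i + 1 = 2 * j by omega]

theorem fD_pair (j i : ℕ) (hi : i < m) :
    fD m j (2 * i) + fD m j (2 * i + 1) = if i = j then 1 else 0 := by
  unfold fD
  rw [if_neg (show ¬ 2 * i = 2 * j + 1 by omega), if_neg (show ¬ 2 * i = 2 * m by omega),
    if_neg (show ¬ 2 * i + 1 = 2 * m by omega)]
  rcases lt_trichotomy i j with h | rfl | h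
  · simp [h, h.ne, show 2 * i + 1 < 2 * j by omega, add_self_k2]
  · simp
  · simp [h.ne', show ¬ 2 * i + 1 < 2 * j by omega, show ¬ 2 * i < 2 * j by omega]

variable (m)

/-- The basis vector. -/
def bD : Fin m ⊕ Fin m → ℕ → k2 := Sum.elim (fun j => eD j) (fun j => fD m j)

/-- The even sets as columns. -/
def injMat : Matrix (Fin (2 * (m + 1))) (Fin m ⊕ Fin m) k2 := Matrix.of fun i j => bD m j i

/-- Coordinates with respect to `bD`. -/
def projMat : Matrix (Fin m ⊕ Fin m) (Fin (2 * (m + 1))) k2 :=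
  Matrix.of fun j i => bD m j.swap i

variable {m}

theorem bD_gram (a b : Fin m ⊕ Fin m) :
    ∑ i ∈ range (2 * (m + 1)), bD m a i * bD m b i = if a = b.swap then 1 else 0 := by
  rcases a with a | a <;> rcases b with b | b
  · simp only [bD, Sum.elim_inl, sum_eD _ b.2, eD_pair, Sum.swap_inl, reduceCtorEq, if_false]
  · simp only [bD, Sum.elim_inl, Sum.elim_inr, Sum.swap_inr, Sum.inl.injEq]
    rw [show (∑ i ∈ range (2 * (m + 1)), eD a i * fD m b i) =
      ∑ i ∈ range (2 * (m + 1)), fD m b i * eD a i from sum_congr rfl fun _ _ => mul_comm _ _,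
      sum_eD _ a.2, fD_pair _ _ a.2]
    simp [Fin.ext_iff]
  · simp only [bD, Sum.elim_inl, Sum.elim_inr, Sum.swap_inl, Sum.inr.injEq]
    rw [sum_eD _ b.2, fD_pair _ _ b.2]
    simp [Fin.ext_iff, eq_comm]
  · simp only [bD, Sum.elim_inr, Sum.swap_inr, reduceCtorEq, if_false]
    rw [sum_fD _ b.2, prefix_pairs]
    rw [sum_congr rfl fun i hi => fD_pair (m := m) a i (by have := mem_range.1 hi; omega),
      sum_ite_eq' (range (b : ℕ))]
    have ha := a.2
    have hb := b.2
    simp only [mem_range, fD]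
    rw [if_neg (show ¬ 2 * (b : ℕ) + 1 = 2 * m by omega), if_neg (show ¬ 2 * m = 2 * (a : ℕ) + 1 by omega),
      if_neg (show ¬ 2 * m < 2 * (a : ℕ) by omega)]
    rcases lt_trichotomy (a : ℕ) b with h | h | h
    · simp [h, h.ne', show ¬ 2 * (b : ℕ) + 1 < 2 * a by omega, add_self_k2]
    · simp [h, add_self_k2]
    · simp [h.ne, show ¬ (a : ℕ) < b by omega, show 2 * (b : ℕ) + 1 < 2 * a by omega, add_self_k2]

theorem injMat_dot (u w : Fin m ⊕ Fin m → k2) :
    (injMat m *ᵥ u) ⬝ᵥ (injMat m *ᵥ w) = ∑ a, u a * w a.swap := by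
  calc (injMat m *ᵥ u) ⬝ᵥ (injMat m *ᵥ w)
      = ∑ a, ∑ b, u a * w b * ∑ i ∈ range (2 * (m + 1)), bD m a i * bD m b i := by
        show ∑ i : Fin (2 * (m + 1)), (∑ a, bD m a (i : ℕ) * u a) * (∑ b, bD m b (i : ℕ) * w b) = _
        simp only [Finset.sum_mul_sum]
        rw [Finset.sum_comm]
        refine sum_congr rfl fun a _ => ?_
        rw [Finset.sum_comm]
        refine sum_congr rfl fun b _ => ?_
        rw [← Fin.sum_univ_eq_sum_range, Finset.mul_sum]
        exact sum_congr rfl fun i _ => by ring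
    _ = ∑ a, u a * w a.swap := by
        refine sum_congr rfl fun a _ => ?_
        rw [Finset.sum_eq_single a.swap]
        · simp [bD_gram]
        · intro b _ hb
          rw [bD_gram, if_neg (fun h => hb (by rw [h, Sum.swap_swap])), mul_zero]
        · simp

theorem projMat_mulVec (v : Fin (2 * (m + 1)) → k2) (a : Fin m ⊕ Fin m) :
    (projMat m *ᵥ v) a = v ⬝ᵥ (injMat m *ᵥ Pi.single a.swap 1) := by
  rw [mulVec_single_one]
  simp [projMat, injMat, mulVec, dotProduct, mul_comm]

theorem proj_inj (u : Fin m ⊕ Fin m → k2) : projMat m *ᵥ (injMat m *ᵥ u) = u := by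
  funext a
  rw [projMat_mulVec, injMat_dot, Finset.sum_eq_single a]
  · simp
  · intro b _ hb
    rw [Pi.single_eq_of_ne (fun h => hb (by simpa using congrArg Sum.swap h)), mul_zero]
  · simp

theorem sum_inj (u : Fin m ⊕ Fin m → k2) : ∑ i, (injMat m *ᵥ u) i = 0 := by
  simp only [mulVec, dotProduct, injMat, Matrix.of_apply]
  rw [Finset.sum_comm]
  refine sum_eq_zero fun a _ => ?_
  rw [← Finset.sum_mul, Fin.sum_univ_eq_sum_range (fun i => bD m a i), prefix_pairs, sum_range_succ]
  rcases a with a | a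
  · simp [bD, eD_pair]
  · simp only [bD, Sum.elim_inr]
    rw [sum_congr rfl fun i hi => fD_pair (m := m) a i (mem_range.1 hi), sum_ite_eq' (range m)]
    have := a.2
    simp [fD, show ¬ 2 * m = 2 * (a : ℕ) + 1 by omega, show ¬ 2 * m < 2 * (a : ℕ) by omega,
      show ¬ 2 * m + 1 < 2 * (a : ℕ) by omega, show ¬ m = (a : ℕ) by omega, add_self_k2]

theorem const_dot (c : k2) (u : Fin m ⊕ Fin m → k2) :
    (fun _ => c) ⬝ᵥ (injMat m *ᵥ u) = 0 := by
  rw [dotProduct, ← Finset.mul_sum, sum_inj, mul_zero]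

theorem inj_proj {v : Fin (2 * (m + 1)) → k2} (hv : ∑ i, v i = 0) :
    ∃ c : k2, injMat m *ᵥ (projMat m *ᵥ v) = v + fun _ => c := by
  let d := injMat m *ᵥ (projMat m *ᵥ v) + v
  have hperp : ∀ a, d ⬝ᵥ (injMat m *ᵥ Pi.single a 1) = 0 := fun a => by
    rw [add_dotProduct, injMat_dot, Finset.sum_eq_single a.swap]
    · simp [projMat_mulVec, add_self_k2]
    · intro b _ hb
      rw [Pi.single_eq_of_ne (fun h => hb (by rw [← h, Sum.swap_swap])), mul_zero]
    · simp
  have hsum : ∑ i, d i = 0 := by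
    simp only [d, Pi.add_apply, Finset.sum_add_distrib, sum_inj, hv, add_zero]
  let D : ℕ → k2 := fun i => if h : i < 2 * (m + 1) then d ⟨i, h⟩ else 0
  have hD : ∀ (a : Fin m ⊕ Fin m), ∑ i ∈ range (2 * (m + 1)), D i * bD m a i = 0 := fun a => by
    rw [← Fin.sum_univ_eq_sum_range, ← hperp a]
    simp [D, dotProduct, injMat]
  have hpair : ∀ j < m, D (2 * j) + D (2 * j + 1) = 0 := fun j hj => by
    have := hD (.inl ⟨j, hj⟩)
    rwa [bD, Sum.elim_inl, sum_eD _ hj] at this
  have hodd : ∀ j < m, D (2 * j + 1) + D (2 * m) = 0 := fun j hj => by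
    have := hD (.inr ⟨j, hj⟩)
    rw [bD, Sum.elim_inr, sum_fD _ hj, prefix_pairs,
      sum_eq_zero (fun i hi => hpair i (by have := mem_range.1 hi; omega)), zero_add] at this
    exact this
  have hlast : D (2 * m) + D (2 * m + 1) = 0 := by
    have : ∑ i ∈ range (2 * (m + 1)), D i = 0 := by
      rw [← Fin.sum_univ_eq_sum_range, ← hsum]; simp [D]
    rwa [prefix_pairs, sum_range_succ, sum_eq_zero (fun i hi => hpair i (mem_range.1 hi)),
      zero_add] at this
  have eq_of : ∀ {x y : k2}, x + y = 0 → x = y := fun {x y} h => by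
    linear_combination h - y * two_k2
  have hconst : ∀ i < 2 * (m + 1), D i = D (2 * m) := by
    intro i hi
    rcases Nat.even_or_odd' i with ⟨j, rfl | rfl⟩
    · rcases Nat.lt_or_ge j m with hj | hj
      · exact (eq_of (hpair j hj)).trans (eq_of (hodd j hj))
      · rw [show j = m by omega]
    · rcases Nat.lt_or_ge j m with hj | hj
      · exact eq_of (hodd j hj)
      · rw [show j = m by omega]; exact (eq_of hlast).symm
  refine ⟨D (2 * m), funext fun i => ?_⟩
  have := hconst i i.2
  simp only [D, i.2, dite_true] at this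
  simp only [Pi.add_apply]
  have h' : (injMat m *ᵥ (projMat m *ᵥ v)) i + v i = D (2 * m) := this
  linear_combination h' - v i * two_k2

/-- The matrix of a permutation. -/
def permMat (s : Equiv.Perm (Fin (2 * (m + 1)))) : Matrix (Fin m ⊕ Fin m) (Fin m ⊕ Fin m) k2 :=
  projMat m * (injMat m).submatrix s.symm id

theorem permMat_mulVec (s : Equiv.Perm (Fin (2 * (m + 1)))) (u : Fin m ⊕ Fin m → k2) :
    permMat s *ᵥ u = projMat m *ᵥ ((injMat m *ᵥ u) ∘ s.symm) := by
  rw [permMat, ← mulVec_mulVec]; rfl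

theorem inj_permMat (s : Equiv.Perm (Fin (2 * (m + 1)))) (u : Fin m ⊕ Fin m → k2) :
    ∃ c : k2, injMat m *ᵥ (permMat s *ᵥ u) = (injMat m *ᵥ u) ∘ s.symm + fun _ => c := by
  rw [permMat_mulVec]
  refine inj_proj ?_
  rw [← sum_inj u]
  exact Equiv.sum_comp s.symm (injMat m *ᵥ u)

theorem proj_const (c : k2) : projMat m *ᵥ (fun _ => c) = 0 := by
  funext a
  rw [projMat_mulVec, const_dot]; rfl

theorem permMat_mul (s t : Equiv.Perm (Fin (2 * (m + 1)))) :
    permMat (s * t) = permMat s * permMat t := by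
  refine Matrix.ext_of_mulVec_single fun i => ?_
  rw [← mulVec_mulVec]
  obtain ⟨c, hc⟩ := inj_permMat t (Pi.single i (1 : k2))
  rw [permMat_mulVec s, hc, permMat_mulVec (s * t),
    show ((injMat m *ᵥ Pi.single i (1 : k2)) ∘ ⇑t.symm + fun _ => c) ∘ ⇑s.symm =
      (injMat m *ᵥ Pi.single i (1 : k2)) ∘ ⇑(s * t).symm + fun _ => c from rfl,
    mulVec_add, proj_const, add_zero]

theorem sum_swap_eq_sbil (u w : Fin m ⊕ Fin m → k2) : ∑ a, u a * w a.swap = sbil u w := by
  rw [Fintype.sum_sum_type, sbil_apply, ← Finset.sum_add_distrib]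
  refine sum_congr rfl fun i _ => ?_
  simp only [Sum.swap_inl, Sum.swap_inr]
  linear_combination (u (.inl i) * w (.inr i)) * two_k2

theorem permMat_mem (s : Equiv.Perm (Fin (2 * (m + 1)))) :
    permMat s ∈ Matrix.symplecticGroup (Fin m) k2 := by
  rw [mem_symplecticGroup_iff_sbil]
  intro u w
  obtain ⟨c, hc⟩ := inj_permMat s u
  obtain ⟨d, hd⟩ := inj_permMat s w
  rw [← sum_swap_eq_sbil, ← sum_swap_eq_sbil, ← injMat_dot, ← injMat_dot, hc, hd]
  rw [add_dotProduct, dotProduct_add, dotProduct_add, comp_equiv_dotProduct_comp_equiv]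
  have h1 : ∀ (a : k2) (x : Fin m ⊕ Fin m → k2),
      ((injMat m *ᵥ x) ∘ s.symm) ⬝ᵥ (fun _ => a) = 0 := fun a x => by
    rw [dotProduct, ← Finset.sum_mul, Function.comp_def, Equiv.sum_comp s.symm (injMat m *ᵥ x), sum_inj,
      zero_mul]
  rw [h1, dotProduct_comm (fun _ => c), h1]
  simp [dotProduct, two_k2]

theorem permMat_eq_one (hm : 2 ≤ m) {s : Equiv.Perm (Fin (2 * (m + 1)))} (h : permMat s = 1) :
    s = 1 := by
  have key : ∀ a b, a ≠ b → s.symm a = a ∨ s.symm a = b := by
    intro a b hab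
    let v : Fin (2 * (m + 1)) → k2 := fun i => if i ∈ ({a, b} : Finset _) then 1 else 0
    have hv : ∑ i, v i = 0 := by
      simp only [v, Finset.sum_boole, Finset.filter_mem_eq_inter, Finset.univ_inter, Finset.card_pair hab]
      exact two_k2
    obtain ⟨c, hc⟩ := inj_proj hv
    obtain ⟨d, hd⟩ := inj_permMat s (projMat m *ᵥ v)
    rw [h, one_mulVec, hc] at hd
    have hd' : ∀ i, v i = v (s.symm i) + d := fun i => by
      have := congrFun hd i
      simp only [Pi.add_apply, Function.comp_apply] at this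
      linear_combination this
    by_cases hd0 : d = 0
    · by_contra hn
      have := hd' a
      simp [v, hd0, hn] at this
    · exfalso
      have hsub : ({a, b} : Finset (Fin (2 * (m + 1))))ᶜ ⊆ ({a, b} : Finset _).map s.toEmbedding := by
        intro i hi
        rw [Finset.mem_map_equiv]
        by_contra hn
        have := hd' i
        simp only [v, if_neg (Finset.mem_compl.1 hi), if_neg hn, zero_add] at this
        exact hd0 this.symm
      have := Finset.card_le_card hsub
      rw [Finset.card_map, Finset.card_compl, Fintype.card_fin, Finset.card_pair hab] at this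
      omega
  have hs : s.symm = 1 := by
    refine Equiv.ext fun a => ?_
    obtain ⟨b, hb⟩ : ∃ b, b ∉ ({a} : Finset (Fin (2 * (m + 1)))) :=
      ⟨if (a : ℕ) = 0 then ⟨1, by omega⟩ else ⟨0, by omega⟩, by
        split_ifs with h0 <;> simp [Fin.ext_iff] <;> omega⟩
    obtain ⟨b', hb'⟩ : ∃ b', b' ∉ ({a, b} : Finset (Fin (2 * (m + 1)))) := by
      by_contra hh
      push Not at hh
      have := Finset.card_le_card (fun x _ => hh x : (Finset.univ : Finset (Fin (2 * (m + 1)))) ⊆ {a, b})
      rw [Finset.card_univ, Fintype.card_fin] at this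
      have := this.trans Finset.card_le_two
      omega
    simp only [Finset.mem_insert, Finset.mem_singleton, not_or] at hb hb'
    rcases key a b (Ne.symm hb) with h1 | h1
    · exact h1
    rcases key a b' (Ne.symm hb'.1) with h2 | h2
    · exact h2
    · exact absurd (h2.symm.trans h1) hb'.2
  rw [← s.symm_symm, hs]; rfl

theorem exists_embedding (hm : 2 ≤ m) :
    ∃ f : Equiv.Perm (Fin (2 * (m + 1))) →* Matrix.symplecticGroup (Fin m) k2,
      Function.Injective f :=
  ⟨MonoidHom.mk' (fun s => ⟨permMat s, permMat_mem s⟩) fun s t => Subtype.ext (permMat_mul s t),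
    (injective_iff_map_eq_one _).2 fun _ hs => permMat_eq_one hm (congrArg Subtype.val hs)⟩

end CfsgLib.Classical.PermSymp
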