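import Cfsg.Agent.Lib.Classical.SympBasic
import Cfsg.Agent.Lib.Classical.SympSimple

/-!
The stabiliser of a vector in a symplectic group in characteristic two is perfect, except in
`Sp₆(2)` and below.
-/

set_option autoImplicit false

namespace CfsgLib.Classical

open Matrix
open scoped commutatorElement

variable {l : Type*} [Fintype l] [DecidableEq l] {F : Type*} [Field F]

/-- The stabiliser of a vector. -/
def vecStab (e : l ⊕ l → F) : Subgroup (Matrix.symplecticGroup l F) where
  carrier := {g | g.1 *ᵥ e = e}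
  mul_mem' {a b} ha hb := by
    show (a * b).1 *ᵥ e = e
    rw [sp_mul_mulVec, show b.1 *ᵥ e = e from hb, show a.1 *ᵥ e = e from ha]
  one_mem' := sp_one_mulVec _
  inv_mem' {a} ha := by
    show (a⁻¹).1 *ᵥ e = e
    nth_rw 1 [← show a.1 *ᵥ e = e from ha]
    rw [sp_inv_mulVec]

theorem mem_vecStab {e : l ⊕ l → F} {g : Matrix.symplecticGroup l F} :
    g ∈ vecStab e ↔ g.1 *ᵥ e = e := Iff.rfl

theorem stv_mem_vecStab {e v : l ⊕ l → F} (h : sbil v e = 0) (c : F) : stv c v ∈ vecStab e := by
  rw [mem_vecStab, stv_mulVec, h, mul_zero, zero_smul, add_zero]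

/-- Two vectors orthogonal to `e` and outside its line are conjugate in the stabiliser of `e`. -/
theorem exists_vecStab_map {e v w : l ⊕ l → F} (he : e ≠ 0) (hv : sbil v e = 0) (hw : sbil w e = 0)
    (hv' : ∀ c : F, v ≠ c • e) (hw' : ∀ c : F, w ≠ c • e) :
    ∃ g ∈ vecStab e, g.1 *ᵥ v = w := by
  have hstep : ∀ {x y : l ⊕ l → F}, sbil x e = 0 → sbil y e = 0 → sbil y x ≠ 0 →
      ∃ g ∈ vecStab e, g.1 *ᵥ x = y := fun {x y} hx hy h =>
    ⟨_, stv_mem_vecStab (by rw [sbil_sub_left, hx, hy, sub_zero]) _, stv_sub_mulVec h⟩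
  by_cases h : sbil w v = 0
  · have hex : ∀ x : l ⊕ l → F, (∀ c : F, x ≠ c • e) → ∃ z, sbil z e = 0 ∧ sbil x z ≠ 0 :=
      fun x hx => by
        obtain ⟨z, h0, h1⟩ := exists_sbil_zero_one he hx
        exact ⟨z, by rw [sbil_swap, h0, neg_zero], by rw [h1]; exact one_ne_zero⟩
    let W : Submodule F (l ⊕ l → F) :=
      { carrier := {z | sbil z e = 0}
        add_mem' := fun {a b} ha hb => by
          show sbil (a + b) e = 0
          rw [sbil_add_left, show sbil a e = 0 from ha, show sbil b e = 0 from hb, add_zero]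
        zero_mem' := sbil_zero_left e
        smul_mem' := fun c a ha => by
          show sbil (c • a) e = 0
          rw [sbil_smul_left, show sbil a e = 0 from ha, mul_zero] }
    obtain ⟨z, hz, hzv, hzw⟩ := exists_sbil_ne_zero_both (W := W) (hex v hv') (hex w hw')
    have hz0 : sbil z e = 0 := hz
    obtain ⟨g1, hg1, e1⟩ := hstep hv hz0 (by rw [sbil_swap]; simpa using hzv)
    obtain ⟨g2, hg2, e2⟩ := hstep hz0 hw hzw
    exact ⟨g2 * g1, mul_mem hg2 hg1, by rw [sp_mul_mulVec, e1, e2]⟩
  · exact hstep hv hw h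

/-- The stabiliser of the basis vector `e` is generated by transvections. -/
theorem vecStab_le_of_stv {L : l} (H : Subgroup (Matrix.symplecticGroup l F))
    (hH : ∀ (c : F) (v : l ⊕ l → F), sbil v (Pi.single (.inl L) 1) = 0 → stv c v ∈ H) :
    vecStab (Pi.single (.inl L) (1 : F)) ≤ H := by
  classical
  set e : l ⊕ l → F := Pi.single (.inl L) 1 with he
  set f : l ⊕ l → F := Pi.single (.inr L) 1 with hf
  have hfe : sbil f e = 1 := sbil_std_pair L
  have hstep : ∀ x y : l ⊕ l → F, sbil x e = 1 → sbil y e = 1 → sbil y x ≠ 0 →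
      ∃ t ∈ H ⊓ vecStab e, t.1 *ᵥ x = y := fun x y hx hy h =>
    ⟨_, ⟨hH _ _ (by rw [sbil_sub_left, hx, hy, sub_self]),
      stv_mem_vecStab (by rw [sbil_sub_left, hx, hy, sub_self]) _⟩, stv_sub_mulVec h⟩
  intro g hg
  set y := g.1 *ᵥ f with hy
  have hye : sbil y e = 1 := by
    rw [hy]
    nth_rw 1 [← show g.1 *ᵥ e = e from hg]
    rw [sbil_mulVec, hfe]
  obtain ⟨t, ht, hty⟩ : ∃ t ∈ H ⊓ vecStab e, t.1 *ᵥ f = y := by
    by_cases h : sbil y f = 0
    · have hze : sbil (y + e) e = 1 := by rw [sbil_add_left, hye, sbil_self, add_zero]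
      obtain ⟨t1, ht1, e1⟩ := hstep f (y + e) hfe hze
        (by rw [sbil_add_left, h, zero_add, sbil_swap, hfe]; simp)
      obtain ⟨t2, ht2, e2⟩ := hstep (y + e) y hze hye
        (by rw [sbil_add_right, sbil_self, zero_add, hye]; exact one_ne_zero)
      exact ⟨t2 * t1, mul_mem ht2 ht1, by rw [sp_mul_mulVec, e1, e2]⟩
    · exact hstep f y hfe hye h
  have hfix : t⁻¹ * g ∈ pairFix {L} := by
    intro i hi
    rw [Finset.mem_singleton] at hi
    subst hi
    refine ⟨(vecStab e).mul_mem ((vecStab e).inv_mem ht.2) hg, ?_⟩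
    rw [sp_mul_mulVec, ← hy, ← hty, sp_inv_mulVec]
  rw [pairFix_eq_stvClosure] at hfix
  have hle : stvClosure (supOutside {L} : Submodule F (l ⊕ l → F)) ≤ H := by
    rw [stvClosure, Subgroup.closure_le]
    rintro _ ⟨c, v, hv, rfl⟩
    exact hH c v (by rw [sbil_single_inl, (hv L (Finset.mem_singleton_self L)).2, zero_mul])
  simpa using mul_mem ht.1 (hle hfix)

/-- The stabiliser of a basis vector is perfect. -/
theorem vecStab_perfect (h2 : (2 : F) = 0) (hl : 3 ≤ Fintype.card l)
    (h : 4 ≤ Fintype.card l ∨ ∃ t : F, t ≠ 0 ∧ t ≠ 1) (L : l) :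
    vecStab (Pi.single (.inl L) (1 : F)) ≤
      ⁅vecStab (Pi.single (.inl L) (1 : F)), vecStab (Pi.single (.inl L) (1 : F))⁆ := by
  classical
  set e : l ⊕ l → F := Pi.single (.inl L) 1 with he
  have he0 : e ≠ 0 := by simp [he]
  set P := vecStab e with hP
  set φ : P →* Abelianization P := Abelianization.of with hφ
  have hcard : 2 ≤ (Finset.univ.erase L).card := by
    rw [Finset.card_erase_of_mem (Finset.mem_univ _), Finset.card_univ]; omega
  obtain ⟨j, hj, k, hk, hjk⟩ := Finset.one_lt_card.1 hcard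
  have hjL : j ≠ L := Finset.ne_of_mem_erase hj
  have hkL : k ≠ L := Finset.ne_of_mem_erase hk
  set a : l ⊕ l → F := Pi.single (.inl j) 1 with ha
  set b : l ⊕ l → F := Pi.single (.inl k) 1 with hb
  have out : ∀ {v : l ⊕ l → F} (i : l), i ≠ L → v (.inl i) ≠ 0 → ∀ c : F, v ≠ c • e :=
    fun {v} i hi hv c h => hv (by rw [h, he]; simp [hi])
  have oa : sbil a e = 0 := by simp [ha, he, sbil_single_inl]
  have ob : sbil b e = 0 := by simp [hb, he, sbil_single_inl]
  have oab : sbil a b = 0 := by simp [ha, hb, sbil_single_inl]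
  -- the value of the abelianisation on a transvection
  let χ : ∀ (c : F) (v : l ⊕ l → F), sbil v e = 0 → Abelianization P :=
    fun c v hv => φ ⟨stv c v, stv_mem_vecStab hv c⟩
  have hχ : ∀ (c : F) {v w : l ⊕ l → F} (hv : sbil v e = 0) (hw : sbil w e = 0),
      (∀ d : F, v ≠ d • e) → (∀ d : F, w ≠ d • e) → χ c v hv = χ c w hw := by
    intro c v w hv hw hv' hw'
    obtain ⟨g, hg, rfl⟩ := exists_vecStab_map he0 hv hw hv' hw'
    have e1 : (⟨stv c (g.1 *ᵥ v), stv_mem_vecStab hw c⟩ : P) =
        ⟨g, hg⟩ * ⟨stv c v, stv_mem_vecStab hv c⟩ * ⟨g, hg⟩⁻¹ := Subtype.ext (stv_conj g c v).symm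
    show φ _ = φ _
    rw [e1, map_mul, map_mul, map_inv, mul_comm (φ ⟨g, hg⟩), mul_inv_cancel_right]
  have three : ∀ (c : F) {u v w : l ⊕ l → F} (hu : sbil u e = 0) (hv : sbil v e = 0)
      (hw : sbil w e = 0), sbil u v = 0 → sbil u w = 0 → sbil v w = 0 →
      χ c (u + v + w) (by rw [sbil_add_left, sbil_add_left, hu, hv, hw]; simp) * χ c u hu *
          χ c v hv * χ c w hw =
        χ c (u + v) (by rw [sbil_add_left, hu, hv, add_zero]) *
          χ c (u + w) (by rw [sbil_add_left, hu, hw, add_zero]) *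
          χ c (v + w) (by rw [sbil_add_left, hv, hw, add_zero]) := by
    intro c u v w hu hv hw h1 h2' h3
    show φ _ * φ _ * φ _ * φ _ = φ _ * φ _ * φ _
    simp only [← map_mul]
    exact congrArg φ (Subtype.ext (stv_three_identity h1 h2' h3 c))
  have key : ∀ c, χ c a oa = 1 := by
    intro c
    obtain ⟨w, hw, hwa, hwb, n1, n2, n3, n4, n5⟩ : ∃ w : l ⊕ l → F, sbil w e = 0 ∧ sbil a w = 0 ∧
        sbil b w = 0 ∧ (∀ d : F, a + b + w ≠ d • e) ∧ (∀ d : F, w ≠ d • e) ∧
        (∀ d : F, a + b ≠ d • e) ∧ (∀ d : F, a + w ≠ d • e) ∧ (∀ d : F, b + w ≠ d • e) := by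
      rcases h with h4 | ⟨t, ht0, ht1⟩
      · obtain ⟨o, ho⟩ : ∃ o, o ∉ ({L, j, k} : Finset l) := by
          have h3 : ({L, j, k} : Finset l).card ≤ 3 := Finset.card_le_three
          by_contra hall
          push Not at hall
          have : (Finset.univ : Finset l) ⊆ {L, j, k} := fun x _ => hall x
          have := Finset.card_le_card this
          rw [Finset.card_univ] at this
          omega
        simp only [Finset.mem_insert, Finset.mem_singleton, not_or] at ho
        obtain ⟨hoL, hoj, hok⟩ := ho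
        refine ⟨Pi.single (.inl o) 1, by simp [he, sbil_single_inl], by simp [ha, sbil_single_inl],
          by simp [hb, sbil_single_inl], out o hoL ?_, out o hoL ?_, out j hjL ?_, out o hoL ?_,
          out o hoL ?_⟩ <;> simp [ha, hb, hoj, hok, hjk]
      · refine ⟨e + t • a, by simp [sbil_add_left, sbil_smul_left, oa],
          by rw [sbil_add_right, sbil_smul_right, sbil_self, oa, mul_zero, add_zero],
          by rw [sbil_add_right, sbil_smul_right, ob, sbil_swap a b, oab]; simp,
          out k hkL ?_, out j hjL ?_, out k hkL ?_, out j hjL ?_, out k hkL ?_⟩ <;>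
          simp [ha, hb, he, hjL, hkL, hjk.symm, ht0]
        intro h0
        exact ht1 (by linear_combination h0 - h2)
    have := three c oa ob hw oab hwa hwb
    rw [hχ c (w := a) _ oa n1 (out j hjL (by simp [ha])),
      hχ c ob oa (out k hkL (by simp [hb])) (out j hjL (by simp [ha])),
      hχ c hw oa n2 (out j hjL (by simp [ha])),
      hχ c (w := a) _ oa n3 (out j hjL (by simp [ha])),
      hχ c (w := a) _ oa n4 (out j hjL (by simp [ha])),
      hχ c (w := a) _ oa n5 (out j hjL (by simp [ha]))] at this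
    exact mul_eq_left.1 this
    all_goals simp [sbil_add_left, oa, ob, hw]
  have all : ∀ (c : F) (v : l ⊕ l → F) (hv : sbil v e = 0), (∀ d : F, v ≠ d • e) → χ c v hv = 1 :=
    fun c v hv hv' => (hχ c hv oa hv' (out j hjL (by simp [ha]))).trans (key c)
  have keye : ∀ c (hee : sbil e e = 0), χ c e hee = 1 := by
    intro c hee
    have hw : sbil (e + a) e = 0 := by rw [sbil_add_left, oa, hee, add_zero]
    have hwa : sbil a (e + a) = 0 := by rw [sbil_add_right, oa, sbil_self, add_zero]
    have hwb : sbil b (e + a) = 0 := by rw [sbil_add_right, ob, sbil_swap a b, oab]; simp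
    have := three c oa ob hw oab hwa hwb
    have e0 : a + (e + a) = e := by
      have : a + a = 0 := by rw [← two_smul F a, h2, zero_smul]
      rw [add_comm e a, ← add_assoc, this, zero_add]
    have hcongr : ∀ {v w : l ⊕ l → F} (hv : sbil v e = 0) (hw : sbil w e = 0), v = w →
        χ c v hv = χ c w hw := by
      rintro v w hv hw rfl; rfl
    rw [all c _ _ (out k hkL (by simp [ha, hb, he, hkL, hjk.symm])),
      all c a oa (out j hjL (by simp [ha])), all c b ob (out k hkL (by simp [hb])),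
      all c _ hw (out j hjL (by simp [ha, he, hjL])),
      all c (a + b) _ (out j hjL (by simp [ha, hb, hjk])),
      all c (b + (e + a)) _ (out k hkL (by simp [ha, hb, he, hkL, hjk.symm])),
      hcongr _ hee e0, one_mul, one_mul, one_mul, one_mul, mul_one] at this
    exact this.symm
    all_goals simp [ha, hb, he, sbil_single_inl]
  have hstv : ∀ (c : F) (v : l ⊕ l → F), sbil v e = 0 → stv c v ∈ ⁅P, P⁆ := by
    intro c v hv
    have h1 : (⟨stv c v, stv_mem_vecStab hv c⟩ : P) ∈ φ.ker := by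
      show χ c v hv = 1
      by_cases hv' : ∀ d : F, v ≠ d • e
      · exact all c v hv hv'
      · push Not at hv'
        obtain ⟨d, rfl⟩ := hv'
        have e1 : (⟨stv c (d • e), stv_mem_vecStab hv c⟩ : P) =
            ⟨stv (c * d ^ 2) e, stv_mem_vecStab (sbil_self e) _⟩ := Subtype.ext (stv_smul c d e)
        show φ _ = 1
        rw [e1]
        exact keye _ (sbil_self e)
    rw [hφ, Abelianization.ker_of] at h1
    rw [← Subgroup.map_subtype_commutator]
    exact ⟨_, h1, rfl⟩
  exact vecStab_le_of_stv _ hstv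

end CfsgLib.Classical
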